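import Cfsg.Agent.H470.EPO.OwnR1_m3
import Cfsg.Agent.ClassicalGeometry.PSL2Klein
import Cfsg.Agent.ClassicalGeometry.SLTwoFour
import Cfsg.Agent.S5892
import Cfsg.Agent.S5893
import Cfsg.Agent.SmallSimple.PSLTwoPart
import Cfsg.Agent.ClassicalGeometry.PSL2Basic
import Cfsg.Agent.H363.PslCard
import Mathlib
import Cfsg.Prelude.Def_Classical
import Cfsg.Agent.H155.Unit
import Cfsg.Agent.H564.TD.Own
import Cfsg.Agent.H963.PQR.GTwo
import Cfsg.Agent.S1062
import Cfsg.Agent.S1063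
import Cfsg.Agent.S1064
import Cfsg.Agent.S1065
import Cfsg.Agent.S1066
import Cfsg.Agent.H67.RG.TwFCent
import Cfsg.Agent.H343.PG.TwF4Fifteen
import Cfsg.Agent.H948.EPX.Om7E_m3
import Cfsg.Agent.H104.EP.U42_m3
import Cfsg.Agent.H845.AutUFour
import Cfsg.Agent.S1068
import Cfsg.Agent.S1072
import Cfsg.Agent.S0280
import Cfsg.Agent.Lib.PermCode
import Cfsg.Agent.H424.EPX.OwnG_mg_m3
import Cfsg.Agent.H889.Enum.Glue
import Cfsg.Agent.H758.EPX.TK_m3
import Cfsg.Agent.H286.EPK.SpList_m3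
import Cfsg.Agent.H805.EPX.Data_m3
import Cfsg.Agent.H357.EP.Signs_m3
import Cfsg.Agent.OrdDiv.Table
import Cfsg.Agent.H18.EK.SporF_m3
import Cfsg.Agent.H900.SU4.Base
import Cfsg.Agent.Classification.Order360Iso
import Cfsg.Agent.S0243
import Cfsg.Agent.S5779
import Cfsg.Agent.H146.F42.Row_m3
import Cfsg.Agent.H59.EP.UBGenFin
import Cfsg.Agent.S0000
import Cfsg.Agent.H357.EP.V27
import Cfsg.Agent.EvenType.ChevTwoTits
import Cfsg.Agent.H27.TS.No143_m3
import Cfsg.Agent.H129.TorusChar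
import Cfsg.Agent.S1092
import Cfsg.Agent.H972.CS.LinkOf_m3
import Cfsg.Agent.H867.TitsOut
import Cfsg.Agent.Lib.ListFast
import Cfsg.Agent.FastGrp
import Cfsg.Agent.Prune
set_option linter.all false

section
prune_inst 0x7fb0bcf9afb82ddfdfff7e7faed5dffc39d0dfffffdff94bffe061ff2fdf230209c56b8d8de050ff0ed6e29610387853f9ffeeffee6bdc7ffffd5ff41ffbee0fe5f6b50831948c340f3c0fff03f07f8e7f3fffffffffffffffffffffffffffbeffffffffffff

-- part: H375/EPR/LTwoAll_mg
section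
prune_inst 0x20040000000000000000000000001000000000000000400000000000000000000000000001000000800800000000000000000000000000000000000000000000040000000008000000000000000000000000000000000000000000000000000000000
set_option linter.all false
open scoped Cfsg.Agent.FastGrp

-- part: H375/EPR/LTwo
section
/-!
# `PSL₂(F)` : Borel subgroup, torus, the rank one data `R1` (helper375)
-/

set_option autoImplicit false
set_option linter.unusedSectionVars false

namespace Cfsg.Agent.H375.EPR.LTwo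

open Matrix Cfsg.Agent.H284 Cfsg.Agent.H470.EPO
open Cfsg.Agent.ClassicalGeometry.SLTwoFour (w ext2 det2 mul00 mul01 mul10 mul11 w00 w01 w10 w11 neg_ij one00 one01
  one10 one11 w_mul_self)
open Cfsg.Agent.ClassicalGeometry.PSL2Klein (mk mk_eq_mk mk_eq_one mk_neg)

variable {F : Type*} [Field F]

local notation "SL2" => Matrix.SpecialLinearGroup (Fin 2)
local notation "PSL2" => Matrix.ProjectiveSpecialLinearGroup (Fin 2)

theorem mk_mul (x y : SL2 F) : mk (x * y) = mk x * mk y := rfl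

theorem mk_inv (x : SL2 F) : mk x⁻¹ = (mk x)⁻¹ := rfl

theorem mk_surj (g : PSL2 F) : ∃ x : SL2 F, mk x = g := QuotientGroup.mk_surjective g

theorem inv00 (x : SL2 F) : x⁻¹ 0 0 = x 1 1 := by rw [Matrix.SpecialLinearGroup.SL2_inv_expl]; rfl
theorem inv01 (x : SL2 F) : x⁻¹ 0 1 = - x 0 1 := by rw [Matrix.SpecialLinearGroup.SL2_inv_expl]; rfl
theorem inv10 (x : SL2 F) : x⁻¹ 1 0 = - x 1 0 := by rw [Matrix.SpecialLinearGroup.SL2_inv_expl]; rfl
theorem inv11 (x : SL2 F) : x⁻¹ 1 1 = x 0 0 := by rw [Matrix.SpecialLinearGroup.SL2_inv_expl]; rfl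

/-- unipotent -/
def uS (b : F) : SL2 F := ⟨!![1, b; 0, 1], by simp⟩

/-- semisimple -/
def tS (a : Fˣ) : SL2 F := ⟨!![(a : F), 0; 0, ((a⁻¹ : Fˣ) : F)], by simp⟩

@[simp] theorem uS00 (b : F) : uS b 0 0 = 1 := rfl
@[simp] theorem uS01 (b : F) : uS b 0 1 = b := rfl
@[simp] theorem uS10 (b : F) : uS b 1 0 = 0 := rfl
@[simp] theorem uS11 (b : F) : uS b 1 1 = 1 := rfl
@[simp] theorem tS00 (a : Fˣ) : tS a 0 0 = a := rfl
@[simp] theorem tS01 (a : Fˣ) : tS a 0 1 = 0 := rfl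
@[simp] theorem tS10 (a : Fˣ) : tS a 1 0 = 0 := rfl
@[simp] theorem tS11 (a : Fˣ) : tS a 1 1 = ((a⁻¹ : Fˣ) : F) := rfl

/-- `b ↦ u(b)` -/
def uH (F : Type*) [Field F] : Multiplicative F →* PSL2 F where
  toFun b := mk (uS b.toAdd)
  map_one' := by
    rw [mk_eq_one]
    left
    apply ext2 <;> simp
  map_mul' a b := by
    rw [← mk_mul]
    congr 1
    apply ext2
    · rw [mul00]; simp
    · rw [mul01]; simp [add_comm]
    · rw [mul10]; simp
    · rw [mul11]; simp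

/-- `a ↦ t(a)` -/
def tH (F : Type*) [Field F] : Fˣ →* PSL2 F where
  toFun a := mk (tS a)
  map_one' := by
    rw [mk_eq_one]
    left
    apply ext2 <;> simp
  map_mul' a b := by
    rw [← mk_mul]
    congr 1
    apply ext2
    · rw [mul00]; simp
    · rw [mul01]; simp
    · rw [mul10]; simp
    · rw [mul11]; simp [mul_comm]

/-- the element `u(b)` -/
abbrev u (b : F) : PSL2 F := mk (uS b)

/-- the element `t(a)` -/
abbrev t (a : Fˣ) : PSL2 F := mk (tS a)

/-- the Weyl element -/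
abbrev wP (F : Type*) [Field F] : PSL2 F := mk (w : SL2 F)

theorem u_add (a b : F) : u (a + b) = u a * u b := (uH F).map_mul (Multiplicative.ofAdd a) (Multiplicative.ofAdd b)

theorem u_zero : u (0 : F) = 1 := (uH F).map_one

theorem u_neg (a : F) : u (-a) = (u a)⁻¹ := (uH F).map_inv (Multiplicative.ofAdd a)

theorem t_mul (a b : Fˣ) : t (a * b) = t a * t b := (tH F).map_mul a b

theorem u_inj {a b : F} (h : u a = u b) : a = b := by
  rcases mk_eq_mk.1 h with h1 | h1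
  · have h2 := congrArg (fun x : SL2 F => x 0 1) h1
    exact h2
  · have h2 := congrArg (fun x : SL2 F => x 0 0) h1
    have h3 := congrArg (fun x : SL2 F => x 0 1) h1
    simp only [neg_ij, uS00, uS01] at h2 h3
    -- `1 = -1`
    have h4 : (2 : F) = 0 := by linear_combination h2
    linear_combination h3 - b * h4

/-- the Borel subgroup -/
def B (F : Type*) [Field F] : Subgroup (PSL2 F) :=
  ({ carrier := {x : SL2 F | x 1 0 = 0}
     one_mem' := one10
     mul_mem' := by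
      intro x y hx hy
      change (x * y) 1 0 = 0
      rw [mul10, show x 1 0 = 0 from hx, show y 1 0 = 0 from hy]
      ring
     inv_mem' := by
      intro x hx
      change x⁻¹ 1 0 = 0
      rw [inv10, show x 1 0 = 0 from hx, neg_zero] } : Subgroup (SL2 F)).map (QuotientGroup.mk' _)

theorem mem_B {x : SL2 F} : mk x ∈ B F ↔ x 1 0 = 0 := by
  constructor
  · rintro ⟨y, hy, hyx⟩
    have hyx' : mk y = mk x := hyx
    have hy' : y 1 0 = 0 := hy
    rcases mk_eq_mk.1 hyx' with h | h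
    · rw [← h]; exact hy'
    · rw [h, neg_ij, neg_eq_zero] at hy'
      exact hy'
  · intro h
    exact ⟨x, h, rfl⟩

/-- the unipotent radical -/
def U (F : Type*) [Field F] : Subgroup (PSL2 F) := (uH F).range

theorem mem_U {g : PSL2 F} : g ∈ U F ↔ ∃ b : F, u b = g := by
  constructor
  · rintro ⟨b, rfl⟩
    exact ⟨b.toAdd, rfl⟩
  · rintro ⟨b, rfl⟩
    exact ⟨Multiplicative.ofAdd b, rfl⟩

theorem wP_sq : wP F * wP F = 1 := by
  rw [← mk_mul, w_mul_self, mk_eq_one]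
  exact Or.inr rfl

theorem wP_inv : (wP F)⁻¹ = wP F := inv_eq_of_mul_eq_one_right wP_sq

theorem mem_cjw {x : SL2 F} : mk x ∈ cj (wP F) (B F) ↔ x 0 1 = 0 := by
  rw [mem_cj, ← mk_inv, ← mk_mul, ← mk_mul, mem_B]
  simp only [mul10, mul11, inv10, inv11, w10, w00, w11]
  constructor
  · intro h
    linear_combination -h
  · intro h
    linear_combination -h

theorem conj_u (x : SL2 F) (b : F) : (x * uS b * x⁻¹) 1 0 = - (x 1 0) ^ 2 * b := by
  rw [mul10, mul10, mul11, inv00, inv10]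
  simp only [uS00, uS01, uS10, uS11]
  ring

theorem mem_B_of_conj {x : SL2 F} {b : F} (hb : b ≠ 0) (h : mk x * u b * (mk x)⁻¹ ∈ B F) : mk x ∈ B F := by
  rw [← mk_inv, ← mk_mul, ← mk_mul, mem_B, conj_u] at h
  rw [mem_B]
  have h1 : (x 1 0) ^ 2 * b = 0 := by linear_combination -h
  rcases mul_eq_zero.1 h1 with h2 | h2
  · exact pow_eq_zero_iff (two_ne_zero) |>.1 h2
  · exact absurd h2 hb

theorem U_le_B : U F ≤ B F := by
  intro g hg
  obtain ⟨b, rfl⟩ := mem_U.1 hg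
  exact mem_B.2 rfl

theorem normalizer_U : Subgroup.normalizer (U F : Set (PSL2 F)) = B F := by
  have key : ∀ x : SL2 F, x 1 0 = 0 → ∀ b : F, mk x * u b * (mk x)⁻¹ = u ((x 0 0) ^ 2 * b) := by
    intro x hx b
    rw [← mk_inv, ← mk_mul, ← mk_mul]
    congr 1
    have hd := det2 x
    rw [hx, mul_zero, sub_zero] at hd
    apply ext2
    · rw [mul00, mul00, mul01, inv00, inv10, hx]
      simp only [uS00, uS01, uS10, uS11]
      linear_combination hd
    · rw [mul01, mul00, mul01, inv01, inv11]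
      simp only [uS00, uS01, uS10, uS11]
      ring
    · rw [mul10, mul10, mul11, inv00, inv10, hx]
      simp only [uS00, uS01, uS10, uS11]
      ring
    · rw [mul11, mul10, mul11, inv01, inv11, hx]
      simp only [uS00, uS01, uS10, uS11]
      linear_combination hd
  apply le_antisymm
  · intro g hg
    obtain ⟨x, rfl⟩ := mk_surj g
    rw [Subgroup.mem_normalizer_iff] at hg
    exact mem_B_of_conj one_ne_zero (U_le_B ((hg (u 1)).1 (mem_U.2 ⟨1, rfl⟩)))
  · intro g hg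
    obtain ⟨x, rfl⟩ := mk_surj g
    rw [mem_B] at hg
    have hd := det2 x
    rw [hg, mul_zero, sub_zero] at hd
    have h0 : x 0 0 ≠ 0 := fun e => by rw [e, zero_mul] at hd; exact zero_ne_one hd
    rw [Subgroup.mem_normalizer_iff]
    intro v
    constructor
    · intro hv
      obtain ⟨b, rfl⟩ := mem_U.1 hv
      exact mem_U.2 ⟨_, (key x hg b).symm⟩
    · intro hv
      obtain ⟨b, hb⟩ := mem_U.1 hv
      refine mem_U.2 ⟨b / (x 0 0) ^ 2, ?_⟩
      have h1 := key x hg (b / (x 0 0) ^ 2)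
      rw [mul_div_cancel₀ _ (pow_ne_zero 2 h0), hb] at h1
      exact mul_left_cancel (mul_right_cancel h1)

theorem conj_t (a : Fˣ) (b : F) : t a * u b * (t a)⁻¹ = u ((a : F) ^ 2 * b) := by
  rw [← mk_inv, ← mk_mul, ← mk_mul]
  congr 1
  have ha : (a : F) * ((a⁻¹ : Fˣ) : F) = 1 := Units.mul_inv a
  apply ext2
  · rw [mul00, mul00, mul01, inv00, inv10]
    simp
  · rw [mul01, mul00, mul01, inv01, inv11]
    simp
    ring
  · rw [mul10, mul10, mul11, inv00, inv10]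
    simp
  · rw [mul11, mul10, mul11, inv01, inv11]
    simp

theorem isPGroup_U (p : ℕ) [Fact p.Prime] [CharP F p] : IsPGroup p (U F) := by
  intro g
  refine ⟨1, ?_⟩
  obtain ⟨b, hb⟩ := mem_U.1 g.2
  apply Subtype.ext
  change (g : PSL2 F) ^ p ^ 1 = 1
  rw [pow_one, ← hb]
  have h1 : (uH F) (Multiplicative.ofAdd b ^ p) = (u b) ^ p := map_pow _ _ _
  rw [← h1, ← ofAdd_nsmul, nsmul_eq_mul, CharP.cast_eq_zero, zero_mul]
  exact map_one _

/-- a `p`-element of `B` is in `U` -/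
theorem mem_U_of_pow (p : ℕ) [Fact p.Prime] [CharP F p] {g : PSL2 F} (hg : g ∈ B F) {k : ℕ} (hk : g ^ p ^ k = 1) :
    g ∈ U F := by
  obtain ⟨x, rfl⟩ := mk_surj g
  rw [mem_B] at hg
  have hpow : ∀ n : ℕ, (x ^ n) 1 0 = 0 ∧ (x ^ n) 0 0 = (x 0 0) ^ n := by
    intro n
    induction n with
    | zero => rw [pow_zero, pow_zero]; exact ⟨one10, one00⟩
    | succ n ih =>
      rw [pow_succ, mul10, mul00, ih.1, ih.2, hg]
      exact ⟨by ring, by ring⟩
  have h1 : mk (x ^ p ^ k) = 1 := hk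
  have h2 : (x 0 0) ^ p ^ k = 1 ∨ (x 0 0) ^ p ^ k = -1 := by
    rw [← (hpow _).2]
    rcases mk_eq_one.1 h1 with h | h
    · left; rw [h]; exact one00
    · right; rw [h, neg_ij, one00]
  have h3 : ((x 0 0) ^ 2 - 1) ^ p ^ k = 0 := by
    rw [sub_pow_char_pow, one_pow, ← pow_mul, mul_comm 2, pow_mul]
    rcases h2 with h | h <;> rw [h] <;> ring
  have h4 : (x 0 0 - 1) * (x 0 0 + 1) = 0 := by
    have := pow_eq_zero_iff (pow_ne_zero k (Fact.out : p.Prime).ne_zero) |>.1 h3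
    linear_combination this
  have hd := det2 x
  rw [hg, mul_zero, sub_zero] at hd
  rcases mul_eq_zero.1 h4 with h | h
  · have h5 : x 0 0 = 1 := sub_eq_zero.1 h
    refine mem_U.2 ⟨x 0 1, congrArg mk ?_⟩
    apply ext2
    · rw [uS00, h5]
    · rw [uS01]
    · rw [uS10, hg]
    · rw [uS11]
      rw [h5, one_mul] at hd
      exact hd.symm
  · have h5 : x 0 0 = -1 := by linear_combination h
    refine mem_U.2 ⟨-(x 0 1), ?_⟩
    rw [← mk_neg x]
    refine congrArg mk ?_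
    apply ext2
    · rw [uS00, neg_ij, h5, neg_neg]
    · rw [uS01, neg_ij]
    · rw [uS10, neg_ij, hg, neg_zero]
    · rw [uS11, neg_ij]
      rw [h5] at hd
      linear_combination -hd

theorem tr {g : PSL2 F} (hg : g ∉ B F) : ∃ v ∈ U F, ∃ b ∈ B F, g = v * wP F * b := by
  obtain ⟨x, rfl⟩ := mk_surj g
  rw [mem_B] at hg
  have hd := det2 x
  let b : SL2 F := ⟨!![-(x 1 0), -(x 1 1); 0, -(x 1 0)⁻¹], by
    rw [det_fin_two_of]
    field_simp
    ring⟩
  refine ⟨u (x 0 0 / x 1 0), mem_U.2 ⟨_, rfl⟩, mk b, mem_B.2 rfl, ?_⟩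
  rw [← mk_mul, ← mk_mul]
  congr 1
  have b00 : b 0 0 = -(x 1 0) := rfl
  have b01 : b 0 1 = -(x 1 1) := rfl
  have b10 : b 1 0 = 0 := rfl
  have b11 : b 1 1 = -(x 1 0)⁻¹ := rfl
  apply ext2
  · rw [mul00, mul00, mul01, b00, b10]
    simp only [uS00, uS01, w00, w01, w10, w11]
    field_simp
    ring
  · rw [mul01, mul00, mul01, b01, b11]
    simp only [uS00, uS01, w00, w01, w10, w11]
    field_simp
    linear_combination -(x 1 0) * hd
  · rw [mul10, mul10, mul11, b00, b10]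
    simp only [uS10, uS11, w00, w01, w10, w11]
    ring
  · rw [mul11, mul10, mul11, b01, b11]
    simp only [uS10, uS11, w00, w01, w10, w11]
    ring

/-- **the rank one data** -/
def data (F : Type*) [Field F] [Finite F] (p : ℕ) [Fact p.Prime] [CharP F p] : R1 p (PSL2 F) where
  U := U F
  B := B F
  w := wP F
  nU := normalizer_U
  pU := isPGroup_U p
  mU := by
    intro S hUS hS
    by_contra hne
    have : Finite (PSL2 F) := inferInstance
    obtain ⟨y, hyS, hyU, hn⟩ := exists_norm_lt (Fact.out : p.Prime) hS hUS hne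
    apply hyU
    obtain ⟨k, hk⟩ := hS ⟨y, hyS⟩
    refine mem_U_of_pow p ?_ (k := k) (Subtype.ext_iff.1 hk)
    obtain ⟨x, rfl⟩ := mk_surj y
    exact mem_B_of_conj one_ne_zero (U_le_B (hn (u 1) (mem_U.2 ⟨1, rfl⟩)))
  wB := by
    rw [mem_B, w10]
    exact neg_ne_zero.2 one_ne_zero
  ww := by
    rw [wP_sq]
    exact one_mem _
  tr := fun g hg => tr hg
  ti := by
    rw [Subgroup.eq_bot_iff_forall]
    rintro g ⟨h1, h2⟩
    obtain ⟨b, rfl⟩ := mem_U.1 h1
    have h3 : b = 0 := mem_cjw.1 h2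
    rw [h3]
    exact u_zero

end Cfsg.Agent.H375.EPR.LTwo
end

-- part: H375/EPR/LTwoHyp
section
/-!
# `PSL₂(F)` : the hypotheses `R1.Hyp`, `|F| ≥ 8` even or `|F| ≥ 13` odd (helper375)
-/

set_option autoImplicit false
set_option linter.unusedSectionVars false

namespace Cfsg.Agent.H375.EPR.LTwo

open Matrix Cfsg.Agent.H284 Cfsg.Agent.H470.EPO
open Cfsg.Agent.ClassicalGeometry.SLTwoFour (w ext2 det2 mul00 mul01 mul10 mul11 w00 w01 w10 w11 neg_ij one00 one01
  one10 one11 w_mul_self)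
open Cfsg.Agent.ClassicalGeometry.PSL2Klein (mk mk_eq_mk mk_eq_one mk_neg)

variable {F : Type*} [Field F]

local notation "SL2" => Matrix.SpecialLinearGroup (Fin 2)
local notation "PSL2" => Matrix.ProjectiveSpecialLinearGroup (Fin 2)

/-- the torus -/
abbrev T0 (F : Type*) [Field F] : Subgroup (PSL2 F) := B F ⊓ cj (wP F) (B F)

theorem mem_T0' {x : SL2 F} : mk x ∈ T0 F ↔ x 1 0 = 0 ∧ x 0 1 = 0 := by
  rw [Subgroup.mem_inf, mem_B, mem_cjw]

theorem mem_T0 {g : PSL2 F} : g ∈ T0 F ↔ ∃ a : Fˣ, t a = g := by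
  constructor
  · intro h
    obtain ⟨x, rfl⟩ := mk_surj g
    rw [mem_T0'] at h
    have hd := det2 x
    rw [h.1, mul_zero, sub_zero] at hd
    refine ⟨⟨x 0 0, x 1 1, hd, by rw [mul_comm]; exact hd⟩, congrArg mk ?_⟩
    apply ext2
    · rfl
    · rw [tS01, h.2]
    · rw [tS10, h.1]
    · rfl
  · rintro ⟨a, rfl⟩
    exact mem_T0'.2 ⟨rfl, rfl⟩

theorem t_mem (a : Fˣ) : t a ∈ T0 F := mem_T0.2 ⟨a, rfl⟩

theorem t_eq_one {a : Fˣ} : t a = 1 ↔ (a : F) ^ 2 = 1 := by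
  rw [show t a = mk (tS a) from rfl, mk_eq_one]
  constructor
  · rintro (h | h)
    · have h1 := congrArg (fun x : SL2 F => x 0 0) h
      have h2 : (a : F) = 1 := h1
      rw [h2, one_pow]
    · have h1 := congrArg (fun x : SL2 F => x 0 0) h
      have h2 : (a : F) = -1 := by
        have h3 : (a : F) = (-1 : SL2 F) 0 0 := h1
        rw [h3, neg_ij, one00]
      rw [h2]; ring
  · intro h
    have h1 : ((a : F) - 1) * ((a : F) + 1) = 0 := by linear_combination h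
    rcases mul_eq_zero.1 h1 with h2 | h2
    · left
      have h3 : a = 1 := Units.ext (sub_eq_zero.1 h2)
      rw [h3]
      apply ext2 <;> simp
    · right
      have h3 : a = -1 := Units.ext (by push_cast; linear_combination h2)
      rw [h3]
      apply ext2
      · rw [tS00, neg_ij, one00]; push_cast; ring
      · rw [tS01, neg_ij, one01, neg_zero]
      · rw [tS10, neg_ij, one10, neg_zero]
      · rw [tS11, neg_ij, one11, inv_neg, inv_one]; push_cast; ring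

theorem comm_aux (a b : Fˣ) (c : F) (h : (a : F) ^ 2 ≠ 1) :
    u (c / (1 - (a : F) ^ 2)) * t a * (u (c / (1 - (a : F) ^ 2)))⁻¹ * (t a)⁻¹ = u c := by
  have h0 : 1 - (a : F) ^ 2 ≠ 0 := sub_ne_zero.2 (Ne.symm h)
  rw [← u_neg, mul_assoc, mul_assoc, ← mul_assoc (t a), conj_t, ← u_add]
  congr 2
  field_simp
  ring

/-- a Sylow subgroup is conjugate to `U` -/
theorem exists_cj {p : ℕ} {T : Type*} [Group T] [Finite T] [Fact p.Prime] (D : R1 p T) (P : Subgroup T)
    (hP : IsPGroup p P) (hc : Nat.card P = Nat.card D.U) : ∃ g : T, P = cj g D.U := by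
  let S : Sylow p T := ⟨D.U, D.pU, fun {Q} hQ hle => D.mU Q hle hQ⟩
  obtain ⟨S', hS'⟩ := hP.exists_le_sylow
  obtain ⟨g, hg⟩ := MulAction.exists_smul_eq T S S'
  have h1 : (S' : Subgroup T) = cj g D.U := by
    rw [← hg]
    rfl
  refine ⟨g, ?_⟩
  rw [← h1]
  apply Subgroup.eq_of_le_of_card_ge hS'
  rw [hc, h1, card_cj]

theorem card_U [Finite F] : Nat.card (U F) = Nat.card F := by
  refine (Nat.card_congr (Equiv.ofBijective (fun b : F => (⟨u b, mem_U.2 ⟨b, rfl⟩⟩ : U F)) ⟨?_, ?_⟩)).symm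
  · intro a b h
    exact u_inj (Subtype.ext_iff.1 h)
  · rintro ⟨g, hg⟩
    obtain ⟨b, rfl⟩ := mem_U.1 hg
    exact ⟨b, rfl⟩

theorem conj_t10 (x : SL2 F) (a : Fˣ) : (x⁻¹ * tS a * x) 1 0 = x 0 0 * x 1 0 * (((a⁻¹ : Fˣ) : F) - a) := by
  rw [mul10, mul10, mul11, inv10, inv11]
  simp only [tS00, tS01, tS10, tS11]
  ring

theorem conj_t01 (x : SL2 F) (a : Fˣ) : (x⁻¹ * tS a * x) 0 1 = x 0 1 * x 1 1 * ((a : F) - ((a⁻¹ : Fˣ) : F)) := by
  rw [mul01, mul00, mul01, inv00, inv01]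
  simp only [tS00, tS01, tS10, tS11]
  ring

theorem inv_sub_ne {a : Fˣ} (h : (a : F) ^ 2 ≠ 1) : ((a⁻¹ : Fˣ) : F) - a ≠ 0 := by
  intro h1
  apply h
  have h2 : (a : F) * ((a⁻¹ : Fˣ) : F) = 1 := Units.mul_inv a
  linear_combination -(a : F) * h1 + h2

theorem inv_sub_ne' {a : Fˣ} (h : (a : F) ^ 2 ≠ 1) : (a : F) - ((a⁻¹ : Fˣ) : F) ≠ 0 := by
  intro h1
  apply inv_sub_ne h
  linear_combination -h1

/-- if `T0 ≤ B^g` then `B^g = B` or `B^w` -/
theorem cj_cases {g : PSL2 F} {a : Fˣ} (ha : (a : F) ^ 2 ≠ 1) (h : t a ∈ cj g (B F)) :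
    g ∈ B F ∨ (wP F)⁻¹ * g ∈ B F := by
  obtain ⟨x, rfl⟩ := mk_surj g
  rw [mem_cj, ← mk_inv, ← mk_mul, ← mk_mul, mem_B, conj_t10] at h
  have h1 := (mul_eq_zero.1 h).resolve_right (inv_sub_ne ha)
  rcases mul_eq_zero.1 h1 with h2 | h2
  · right
    rw [wP_inv, ← mk_mul, mem_B, mul10, w10, w11, h2]
    ring
  · left
    exact mem_B.2 h2

theorem cj_of_mem {g : PSL2 F} (h : (wP F)⁻¹ * g ∈ B F) : cj g (B F) = cj (wP F) (B F) := by
  have h1 : g = wP F * ((wP F)⁻¹ * g) := by group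
  rw [h1, cj_mul, cj_eq_self h]

/-- `wP t(a) wP = t(a⁻¹)` -/
theorem w_t (a : Fˣ) : (wP F)⁻¹ * t a * wP F = t a⁻¹ := by
  rw [wP_inv, ← mk_mul, ← mk_mul, ← mk_neg]
  congr 1
  apply ext2
  · rw [neg_ij, mul00, mul00, mul01, w00, w01, w10]
    simp
  · rw [neg_ij, mul01, mul00, mul01, w00, w01, w11]
    simp
  · rw [neg_ij, mul10, mul10, mul11, w00, w11, w10]
    simp
  · rw [neg_ij, mul11, mul10, mul11, w10, w11, w01]
    simp

theorem hcomm [Finite F] (p : ℕ) [Fact p.Prime] [CharP F p] {a : Fˣ} (ha : (a : F) ^ 2 ≠ 1) :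
    ∀ X : Subgroup (PSL2 F), X ≤ (data F p).U →
      (∀ u ∈ (data F p).U, ∀ t ∈ (data F p).T0, u * t * u⁻¹ * t⁻¹ ∈ X) → X = (data F p).U := by
  intro X hX h
  apply le_antisymm hX
  intro g hg
  obtain ⟨c, rfl⟩ := mem_U.1 hg
  rw [← comm_aux a a c ha]
  exact h _ (mem_U.2 ⟨_, rfl⟩) _ (t_mem a)

theorem hp2 [Finite F] (p : ℕ) [Fact p.Prime] [CharP F p] (hp : p = 2) :
    ∀ φ : MulAut (data F p).U, (∀ t ∈ (data F p).T0, ∀ u v : (data F p).U, (v : PSL2 F) = t * u * t⁻¹ →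
    ((φ v : (data F p).U) : PSL2 F) = t * (φ u : (data F p).U) * t⁻¹) → ∀ m : ℕ, φ ^ 2 ^ m = 1 → φ = 1 := by
  subst hp
  intro φ h m hm
  have hU : ∀ b : F, u b ∈ (data F 2).U := fun b => mem_U.2 ⟨b, rfl⟩
  obtain ⟨c, hc⟩ := mem_U.1 (φ ⟨u 1, hU 1⟩).2
  have hsq : ∀ b : F, ∃ a : F, a ^ 2 = b := by
    intro b
    have hinj : Function.Injective (fun a : F => a ^ 2) := by
      intro a a' haa
      have h1 : (a - a') ^ 2 = 0 := by
        rw [sub_pow_char]
        exact sub_eq_zero.2 haa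
      exact sub_eq_zero.1 (pow_eq_zero_iff two_ne_zero |>.1 h1)
    exact (Finite.injective_iff_surjective.1 hinj) b
  have h1 : ∀ b : F, ((φ ⟨u b, hU b⟩ : (data F 2).U) : PSL2 F) = u (b * c) := by
    intro b
    by_cases hb : b = 0
    · subst hb
      have : (⟨u (0 : F), hU 0⟩ : (data F 2).U) = 1 := Subtype.ext u_zero
      rw [this, map_one, zero_mul]
      exact u_zero.symm
    · obtain ⟨a, ha⟩ := hsq b
      have ha0 : a ≠ 0 := by
        rintro rfl
        apply hb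
        rw [← ha]; ring
      have h2 := h (t (Units.mk0 a ha0)) (t_mem _) ⟨u 1, hU 1⟩ ⟨u b, hU b⟩ (by
        change u b = t _ * u 1 * (t _)⁻¹
        rw [conj_t, Units.val_mk0, ha, mul_one])
      rw [h2, ← hc, conj_t, Units.val_mk0, ha]
  have h3 : ∀ n : ℕ, ∀ b : F, (((φ ^ n) ⟨u b, hU b⟩ : (data F 2).U) : PSL2 F) = u (b * c ^ n) := by
    intro n
    induction n with
    | zero => intro b; rw [pow_zero, pow_zero, mul_one]; rfl
    | succ n ih =>
      intro b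
      rw [pow_succ, MulAut.mul_apply]
      have h4 : φ ⟨u b, hU b⟩ = ⟨u (b * c), hU _⟩ := Subtype.ext (h1 b)
      rw [h4, ih, show b * c * c ^ n = b * c ^ (n + 1) by ring]
  have h5 : c ^ 2 ^ m = 1 := by
    have h6 := h3 (2 ^ m) 1
    rw [hm, one_mul] at h6
    exact (u_inj h6).symm
  have h7 : c = 1 := by
    have h8 : (c - 1) ^ 2 ^ m = 0 := by
      rw [sub_pow_char_pow, one_pow, h5, sub_self]
    exact sub_eq_zero.1 (pow_eq_zero_iff (pow_ne_zero _ two_ne_zero) |>.1 h8)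
  ext v
  obtain ⟨b, hb⟩ := mem_U.1 v.2
  have h9 : v = ⟨u b, hU b⟩ := Subtype.ext hb.symm
  rw [h9, h1, h7, mul_one]
  rfl

/-- the function on the root subgroup -/
theorem hinv [Finite F] (p : ℕ) [Fact p.Prime] [CharP F p] {a : Fˣ} (ha : (a : F) ^ 2 ≠ 1)
    {x y z : Fˣ} (hxyz : (x : F) ^ 2 + (y : F) ^ 2 = (z : F) ^ 2)
    (hne : (x : F) ^ 4 + (x : F) ^ 2 * (y : F) ^ 2 + (y : F) ^ 4 ≠ 0) :
    ∀ φ : MulAut (PSL2 F), (∀ t ∈ (data F p).T0, φ t = t) → ∀ b ∈ (data F p).B, φ b ∈ (data F p).B := by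
  intro φ hφ
  have hfin : Finite (PSL2 F) := inferInstance
  obtain ⟨g, hg⟩ := exists_cj (data F p) ((data F p).U.map φ.toMonoidHom)
    ((data F p).pU.map _) (Nat.card_congr ((data F p).U.equivMapOfInjective _ φ.injective).toEquiv.symm)
  have hU : ∀ b : F, u b ∈ U F := fun b => mem_U.2 ⟨b, rfl⟩
  have h1 : ∀ v, φ v ∈ cj g (U F) ↔ v ∈ U F := by
    intro v
    constructor
    · intro hv
      have h2 : φ v ∈ (data F p).U.map φ.toMonoidHom := by rw [hg]; exact hv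
      obtain ⟨v', hv', h3⟩ := h2
      rw [← φ.injective h3]
      exact hv'
    · intro hv
      have h2 : φ v ∈ (data F p).U.map φ.toMonoidHom := ⟨v, hv, rfl⟩
      rw [hg] at h2
      exact h2
  have hN : ∀ b ∈ B F, ∀ v, v ∈ U F ↔ b * v * b⁻¹ ∈ U F := by
    intro b hb
    rw [← normalizer_U] at hb
    exact Subgroup.mem_normalizer_iff.1 hb
  -- `T0` normalises `U^g`
  have h2 : t a ∈ cj g (B F) := by
    rw [mem_cj, ← normalizer_U, Subgroup.mem_normalizer_iff]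
    intro v
    have h3 : v ∈ U F ↔ g * v * g⁻¹ ∈ cj g (U F) := by
      rw [mem_cj]
      have : g⁻¹ * (g * v * g⁻¹) * g = v := by group
      rw [this]
    have h3' : g⁻¹ * t a * g * v * (g⁻¹ * t a * g)⁻¹ ∈ U F ↔ t a * (g * v * g⁻¹) * (t a)⁻¹ ∈ cj g (U F) := by
      rw [mem_cj]
      have : g⁻¹ * (t a * (g * v * g⁻¹) * (t a)⁻¹) * g = g⁻¹ * t a * g * v * (g⁻¹ * t a * g)⁻¹ := by group
      rw [this]
    rw [h3, h3']
    -- pull back by `φ`
    obtain ⟨v', hv'⟩ := φ.surjective (g * v * g⁻¹)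
    rw [← hv']
    have h4 : t a * φ v' * (t a)⁻¹ = φ (t a * v' * (t a)⁻¹) := by
      rw [map_mul, map_mul, map_inv, hφ _ (t_mem a)]
    rw [h4, h1, h1]
    exact hN _ (t_mem a).1 v'
  rcases cj_cases ha h2 with h3 | h3
  · -- `φ U = U`
    have h4 : ∀ v, φ v ∈ U F ↔ v ∈ U F := by
      intro v
      rw [← h1 v, mem_cj, hN _ (inv_mem h3), inv_inv]
    intro b hb
    change φ b ∈ B F
    rw [← normalizer_U, Subgroup.mem_normalizer_iff]
    intro v
    obtain ⟨v', rfl⟩ := φ.surjective v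
    have h5 : φ b * φ v' * (φ b)⁻¹ = φ (b * v' * b⁻¹) := by
      rw [map_mul, map_mul, map_inv]
    rw [h5, h4, h4]
    exact hN b hb v'
  · exfalso
    have h4 : ∀ b : F, ∃ c : F, u c = (wP F)⁻¹ * φ (u b) * wP F := by
      intro b
      rw [← mem_U]
      have h5 := (h1 (u b)).2 (hU b)
      rw [mem_cj] at h5
      have h6 := (hN _ h3 _).1 h5
      have h7 : (wP F)⁻¹ * g * (g⁻¹ * φ (u b) * g) * ((wP F)⁻¹ * g)⁻¹ = (wP F)⁻¹ * φ (u b) * wP F := by group
      rwa [h7] at h6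
    choose f hf using h4
    have fadd : ∀ b b' : F, f (b + b') = f b + f b' := by
      intro b b'
      apply u_inj
      rw [hf, u_add, map_mul, u_add, hf, hf]
      group
    have f0 : f 1 ≠ 0 := by
      intro h5
      have h6 := hf 1
      rw [h5, u_zero] at h6
      have h7 : φ (u (1 : F)) = 1 := by
        have : φ (u (1 : F)) = wP F * ((wP F)⁻¹ * φ (u 1) * wP F) * (wP F)⁻¹ := by group
        rw [this, ← h6]; group
      have h8 : u (1 : F) = u 0 := by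
        rw [u_zero]
        exact φ.injective (by rw [h7, map_one])
      exact one_ne_zero (u_inj h8)
    have fmul : ∀ (c : Fˣ) (b : F), f ((c : F) ^ 2 * b) = ((c⁻¹ : Fˣ) : F) ^ 2 * f b := by
      intro c b
      apply u_inj
      rw [hf, ← conj_t, map_mul, map_mul, map_inv, hφ _ (t_mem c), ← conj_t, hf, ← w_t]
      group
    have h5 := fadd ((x : F) ^ 2 * 1) ((y : F) ^ 2 * 1)
    have h6 : (x : F) ^ 2 * 1 + (y : F) ^ 2 * 1 = (z : F) ^ 2 * 1 := by rw [← hxyz]; ring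
    rw [h6, fmul, fmul, fmul, ← add_mul] at h5
    have h7 := mul_right_cancel₀ f0 h5
    apply hne
    have hx : (x : F) * ((x⁻¹ : Fˣ) : F) = 1 := Units.mul_inv x
    have hy : (y : F) * ((y⁻¹ : Fˣ) : F) = 1 := Units.mul_inv y
    have hz : (z : F) * ((z⁻¹ : Fˣ) : F) = 1 := Units.mul_inv z
    generalize (x : F) = x' at *
    generalize (y : F) = y' at *
    generalize (z : F) = z' at *
    generalize ((x⁻¹ : Fˣ) : F) = xi at *
    generalize ((y⁻¹ : Fˣ) : F) = yi at *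
    generalize ((z⁻¹ : Fˣ) : F) = zi at *
    -- `z⁻² = x⁻² + y⁻²`
    have h8 : x' ^ 2 * y' ^ 2 = (x' ^ 2 + y' ^ 2) * z' ^ 2 := by
      have e1 : x' ^ 2 * y' ^ 2 * z' ^ 2 * zi ^ 2 = x' ^ 2 * y' ^ 2 := by
        have : x' ^ 2 * y' ^ 2 * z' ^ 2 * zi ^ 2 = x' ^ 2 * y' ^ 2 * (z' * zi) ^ 2 := by ring
        rw [this, hz]; ring
      have e2 : x' ^ 2 * y' ^ 2 * z' ^ 2 * (xi ^ 2 + yi ^ 2) = (x' ^ 2 + y' ^ 2) * z' ^ 2 := by
        have : x' ^ 2 * y' ^ 2 * z' ^ 2 * (xi ^ 2 + yi ^ 2) =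
            (x' * xi) ^ 2 * y' ^ 2 * z' ^ 2 + (y' * yi) ^ 2 * x' ^ 2 * z' ^ 2 := by ring
        rw [this, hx, hy]; ring
      rw [← e1, ← e2, h7]
    linear_combination (x' ^ 2 + y' ^ 2) * hxyz - h8

/-! ### overgroups of the torus -/

theorem card_mul_le {T : Type*} [Group T] [Finite T] {P Q M : Subgroup T} (hP : P ≤ M) (hQ : Q ≤ M)
    (h : P ⊓ Q = ⊥) : Nat.card P * Nat.card Q ≤ Nat.card M := by
  rw [← Nat.card_prod]
  refine Nat.card_le_card_of_injective (fun x : P × Q => (⟨x.1 * x.2, M.mul_mem (hP x.1.2) (hQ x.2.2)⟩ : M)) ?_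
  intro x y hxy
  exact Subgroup.mul_injective_of_disjoint (disjoint_iff.2 h) (Subtype.ext_iff.1 hxy)

theorem T0_eq_range : T0 F = (tH F).range := by
  ext g
  rw [mem_T0]
  rfl

theorem card_T0_mul [Finite F] : Nat.card (tH F).ker * Nat.card (T0 F) = Nat.card F - 1 := by
  rw [T0_eq_range, ← Subgroup.index_ker, Subgroup.card_mul_index, Nat.card_units]

theorem mem_ker {a : Fˣ} : a ∈ (tH F).ker ↔ a = 1 ∨ a = -1 := by
  rw [MonoidHom.mem_ker, show (tH F) a = t a from rfl, t_eq_one]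
  constructor
  · intro h
    have h1 : ((a : F) - 1) * ((a : F) + 1) = 0 := by linear_combination h
    rcases mul_eq_zero.1 h1 with h2 | h2
    · exact Or.inl (Units.ext (sub_eq_zero.1 h2))
    · exact Or.inr (Units.ext (by push_cast; linear_combination h2))
  · rintro (rfl | rfl)
    · simp
    · simp

theorem card_ker_le [Finite F] : Nat.card (tH F).ker ≤ 2 := by
  classical
  have h1 : ((tH F).ker : Set Fˣ) ⊆ ({1, -1} : Set Fˣ) := by
    intro a ha
    rcases mem_ker.1 ha with h | h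
    · rw [h]; exact Set.mem_insert _ _
    · rw [h]; exact Set.mem_insert_of_mem _ rfl
  have h2 := Set.ncard_le_ncard h1 (Set.toFinite _)
  have h3 : ({1, -1} : Set Fˣ).ncard ≤ 2 := Set.ncard_insert_le _ _ |>.trans (by rw [Set.ncard_singleton])
  exact (le_of_eq (by rfl)).trans (h2.trans h3)

theorem card_ker_two [Finite F] [CharP F 2] : Nat.card (tH F).ker = 1 := by
  rw [Subgroup.card_eq_one, Subgroup.eq_bot_iff_forall]
  intro a ha
  rcases mem_ker.1 ha with h | h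
  · exact h
  · rw [h]
    apply Units.ext
    push_cast
    exact CharTwo.neg_eq 1

theorem card_T0 [Finite F] : Nat.card F - 1 ≤ 2 * Nat.card (T0 F) := by
  rw [← card_T0_mul]
  exact Nat.mul_le_mul_right _ card_ker_le

theorem card_T0_two [Finite F] [CharP F 2] : Nat.card (T0 F) = Nat.card F - 1 := by
  rw [← card_T0_mul, card_ker_two, one_mul]

theorem inter_triv {x : SL2 F} (h1 : ¬ (x 0 0 = 0 ∧ x 1 1 = 0)) (h2 : ¬ (x 1 0 = 0 ∧ x 0 1 = 0)) {a : Fˣ}
    (h : (mk x)⁻¹ * t a * mk x ∈ T0 F) : t a = 1 := by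
  rw [t_eq_one]
  by_contra ha
  rw [← mk_inv, ← mk_mul, ← mk_mul, mem_T0', conj_t10, conj_t01] at h
  have h3 := (mul_eq_zero.1 h.1).resolve_right (inv_sub_ne ha)
  have h4 := (mul_eq_zero.1 h.2).resolve_right (inv_sub_ne' ha)
  have hd := det2 x
  rcases mul_eq_zero.1 h3 with h5 | h5
  · rcases mul_eq_zero.1 h4 with h6 | h6
    · rw [h5, h6] at hd
      simp at hd
    · exact h1 ⟨h5, h6⟩
  · rcases mul_eq_zero.1 h4 with h6 | h6
    · exact h2 ⟨h5, h6⟩
    · rw [h5, h6] at hd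
      simp at hd

theorem sq_le [Finite F] {K : Subgroup (PSL2 F)} (hK : T0 F ≤ K) {x : SL2 F} (hx : mk x ∈ K)
    (h1 : ¬ (x 0 0 = 0 ∧ x 1 1 = 0)) (h2 : ¬ (x 1 0 = 0 ∧ x 0 1 = 0)) :
    Nat.card (T0 F) * Nat.card (T0 F) ≤ Nat.card K := by
  have hfin : Finite (PSL2 F) := inferInstance
  have h3 := card_mul_le (P := T0 F) (Q := cj (mk x) (T0 F)) (M := K) hK ?_ ?_
  · rwa [card_cj] at h3
  · intro g hg
    rw [mem_cj] at hg
    have h4 := K.mul_mem (K.mul_mem hx (hK hg)) (K.inv_mem hx)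
    have h5 : mk x * ((mk x)⁻¹ * g * mk x) * (mk x)⁻¹ = g := by group
    rwa [h5] at h4
  · rw [Subgroup.eq_bot_iff_forall]
    rintro g ⟨hg1, hg2⟩
    obtain ⟨a, rfl⟩ := mem_T0.1 hg1
    exact inter_triv h1 h2 (mem_cj.1 hg2)

theorem borel_case [Finite F] (p : ℕ) [Fact p.Prime] [CharP F p] {M : Subgroup (PSL2 F)} {a : Fˣ}
    (ha : (a : F) ^ 2 ≠ 1) (hM : T0 F ≤ M) (hd : Nat.card F ∣ Nat.card M)
    (hlt : Nat.card M < Nat.card F * Nat.card F) : M ≤ B F ∨ M ≤ cj (wP F) (B F) := by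
  have hfin : Finite (PSL2 F) := inferInstance
  have := Fintype.ofFinite F
  obtain ⟨n, -, hn⟩ := FiniteField.card F p
  rw [← Nat.card_eq_fintype_card] at hn
  rw [hn] at hd
  obtain ⟨P0, hP0⟩ := Sylow.exists_subgroup_card_pow_prime p hd
  set P : Subgroup (PSL2 F) := P0.map M.subtype with hP
  have hPM : P ≤ M := by
    rintro _ ⟨y, -, rfl⟩
    exact y.2
  have hcP : Nat.card P = Nat.card F := by
    rw [hn, ← hP0]
    exact Nat.card_congr (P0.equivMapOfInjective _ M.subtype_injective).toEquiv.symm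
  obtain ⟨g, hg⟩ := exists_cj (data F p) P (IsPGroup.of_card (hcP.trans hn)) (hcP.trans card_U.symm)
  have hg' : P = cj g (U F) := hg
  have h1 : M ≤ cj g (B F) := by
    by_contra hcon
    obtain ⟨m, hm, hm2⟩ := SetLike.not_le_iff_exists.1 hcon
    have h3 := card_mul_le (P := P) (Q := cj m P) (M := M) hPM ?_ ?_
    · rw [card_cj, hcP] at h3
      omega
    · intro y hy
      rw [mem_cj] at hy
      have h4 := M.mul_mem (M.mul_mem hm (hPM hy)) (M.inv_mem hm)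
      have h5 : m * (m⁻¹ * y * m) * m⁻¹ = y := by group
      rwa [h5] at h4
    · rw [Subgroup.eq_bot_iff_forall]
      rintro y ⟨hy1, hy2⟩
      rw [hg'] at hy1
      have hy2' := mem_cj.1 hy2
      rw [hg', mem_cj] at hy2'
      obtain ⟨b, hb⟩ := mem_U.1 hy2'
      by_cases hb0 : b = 0
      · rw [hb0, u_zero] at hb
        have h6 : y = m * g * (g⁻¹ * (m⁻¹ * y * m) * g) * g⁻¹ * m⁻¹ := by group
        rw [h6, ← hb]; group
      · exfalso
        apply hm2
        rw [mem_cj]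
        obtain ⟨x, hx⟩ := mk_surj (g⁻¹ * m * g)
        rw [← hx]
        apply mem_B_of_conj hb0
        rw [hx, hb]
        apply U_le_B
        have h7 := mem_cj.1 hy1
        have h8 : g⁻¹ * m * g * (g⁻¹ * (m⁻¹ * y * m) * g) * (g⁻¹ * m * g)⁻¹ = g⁻¹ * y * g := by group
        rw [h8]
        exact h7
  rcases cj_cases ha (h1 (hM (t_mem a))) with h2 | h2
  · left
    rwa [cj_eq_self h2] at h1
  · right
    rwa [cj_of_mem h2] at h1

/-- normaliser of the torus : the automorphisms of `K` preserve `T0` -/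
theorem norm_case [Finite F] {K : Subgroup (PSL2 F)} {v : Fˣ} (hv : ∀ a : Fˣ, a ∈ Subgroup.zpowers v)
    (hv4 : v ^ 4 ≠ 1) (hK : T0 F ≤ K)
    (h : ∀ x : SL2 F, mk x ∈ K → (x 0 0 = 0 ∧ x 1 1 = 0) ∨ (x 1 0 = 0 ∧ x 0 1 = 0)) :
    ∀ φ : MulAut (PSL2 F), (∀ x ∈ K, φ x ∈ K) → ∀ z ∈ T0 F, φ z ∈ T0 F := by
  intro φ hφ
  have h1 : φ (t v) ∈ T0 F := by
    have h2 := hφ _ (hK (t_mem v))
    obtain ⟨x, hx⟩ := mk_surj (φ (t v))
    rw [← hx] at h2 ⊢
    rcases h x h2 with h3 | h3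
    · exfalso
      apply hv4
      have h4 : mk x * mk x = 1 := by
        rw [← mk_mul, mk_eq_one]
        right
        have hd := det2 x
        rw [h3.1, h3.2] at hd
        apply ext2
        · rw [neg_ij, one00, mul00, h3.1]
          linear_combination -hd
        · rw [neg_ij, one01, mul01, h3.1, h3.2]
          ring
        · rw [neg_ij, one10, mul10, h3.1, h3.2]
          ring
        · rw [neg_ij, one11, mul11, h3.2]
          linear_combination -hd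
      have h5 : t (v ^ 2) = 1 := by
        apply φ.injective
        rw [pow_two, t_mul, map_mul, ← hx, h4, map_one]
      rw [t_eq_one] at h5
      apply Units.ext
      push_cast at h5 ⊢
      linear_combination h5
    · exact mem_T0'.2 h3
  intro z hz
  obtain ⟨a, rfl⟩ := mem_T0.1 hz
  obtain ⟨n, rfl⟩ := Subgroup.mem_zpowers_iff.1 (hv a)
  have h2 : t (v ^ n) = (t v) ^ n := map_zpow (tH F) v n
  rw [h2, map_zpow]
  exact zpow_mem h1 n

theorem T0_ne_bot [Finite F] {a : Fˣ} (ha : (a : F) ^ 2 ≠ 1) : T0 F ≠ ⊥ := by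
  intro h
  have h1 := t_mem a
  rw [h, Subgroup.mem_bot, t_eq_one] at h1
  exact ha h1

theorem T0_ne_top : T0 F ≠ ⊤ := by
  intro h
  have h1 : wP F ∈ T0 F := by rw [h]; exact Subgroup.mem_top _
  have h2 := mem_T0'.1 h1
  rw [w10] at h2
  exact neg_ne_zero.2 one_ne_zero h2.1

theorem hov [Finite F] (p : ℕ) [Fact p.Prime] [CharP F p] {v : Fˣ} (hv : ∀ a : Fˣ, a ∈ Subgroup.zpowers v)
    (hv4 : v ^ 4 ≠ 1)
    (hbig : ∀ M : Subgroup (PSL2 F), IsCoatom M → Nat.card (T0 F) * Nat.card (T0 F) ≤ Nat.card M →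
      Nat.card F ∣ Nat.card M ∧ Nat.card M < Nat.card F * Nat.card F) :
    ∃ Zs : Finset (Subgroup (PSL2 F)), (Zs.card ≤ 1 ∨ Zs.card + 2 < p) ∧ (∀ Z ∈ Zs, Z ≠ ⊥ ∧ Z ≠ ⊤) ∧
    ∀ K : Subgroup (PSL2 F), (data F p).T0 ≤ K → K ≠ ⊤ → (K ≤ (data F p).B ∧ K ⊓ (data F p).U ≠ ⊥) ∨
      (K ≤ cj (data F p).w (data F p).B ∧ K ⊓ cj (data F p).w (data F p).U ≠ ⊥) ∨
      ∃ Z ∈ Zs, ∀ φ : MulAut (PSL2 F), (∀ x ∈ K, φ x ∈ K) → ∀ z ∈ Z, φ z ∈ Z := by
  have hfin : Finite (PSL2 F) := inferInstance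
  have ha : (v : F) ^ 2 ≠ 1 := by
    intro h
    apply hv4
    apply Units.ext
    push_cast
    linear_combination ((v : F) ^ 2 + 1) * h
  refine (data F p).ov_of (T0 F) (T0_ne_bot ha) T0_ne_top (fun φ h => h) ?_
  intro K hK hK1
  have hK' : T0 F ≤ K := hK
  by_cases h : ∀ x : SL2 F, mk x ∈ K → (x 0 0 = 0 ∧ x 1 1 = 0) ∨ (x 1 0 = 0 ∧ x 0 1 = 0)
  · exact Or.inr (Or.inr (norm_case hv hv4 hK' h))
  · push Not at h
    obtain ⟨x, hx, h1, h2⟩ := h
    have h3 := sq_le hK' hx (fun h4 => h1 h4.1 h4.2) (fun h4 => h2 h4.1 h4.2)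
    rcases eq_top_or_exists_le_coatom K with h4 | ⟨M, hM, hKM⟩
    · exact absurd h4 hK1
    · have h5 := hbig M hM (h3.trans (Nat.card_le_card_of_injective _ (Subgroup.inclusion_injective hKM)))
      rcases borel_case p ha (hK'.trans hKM) h5.1 h5.2 with h6 | h6
      · exact Or.inl (hKM.trans h6)
      · exact Or.inr (Or.inl (hKM.trans h6))

theorem exists_gen (F : Type*) [Field F] [Finite F] : ∃ v : Fˣ, (∀ a : Fˣ, a ∈ Subgroup.zpowers v) ∧
    ∀ n : ℕ, 0 < n → v ^ n = 1 → Nat.card F - 1 ≤ n := by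
  obtain ⟨v, hv⟩ := IsCyclic.exists_generator (α := Fˣ)
  refine ⟨v, hv, fun n hn h => ?_⟩
  have h1 : orderOf v = Nat.card F - 1 := by
    rw [orderOf_eq_card_of_forall_mem_zpowers hv, Nat.card_units]
  rw [← h1]
  exact Nat.le_of_dvd hn (orderOf_dvd_of_pow_eq_one h)

/-- **even** -/
theorem hyp_even (F : Type*) [Field F] [Finite F] [CharP F 2] (h8 : 8 ≤ Nat.card F) :
    (data F 2).Hyp := by
  have := Fintype.ofFinite F
  obtain ⟨v, hv, hn⟩ := exists_gen F
  have hv4 : v ^ 4 ≠ 1 := fun h => by have := hn 4 (by norm_num) h; omega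
  have hv3 : v ^ 3 ≠ 1 := fun h => by have := hn 3 (by norm_num) h; omega
  have hv1 : v ≠ 1 := fun h => by have := hn 1 (by norm_num) (by rw [h, one_pow]); omega
  have ha : (v : F) ^ 2 ≠ 1 := by
    intro h
    apply hv4
    apply Units.ext
    push_cast
    linear_combination ((v : F) ^ 2 + 1) * h
  have h2 : (2 : F) = 0 := CharTwo.two_eq_zero
  refine ⟨hcomm 2 ha, hp2 2, fun _ => ?_, ?_⟩
  · have hz : (v : F) + 1 ≠ 0 := by
      intro h
      apply hv1
      apply Units.ext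
      push_cast
      linear_combination h - h2
    refine hinv 2 ha (x := v) (y := 1) (z := Units.mk0 _ hz) ?_ ?_
    · rw [Units.val_mk0, Units.val_one]
      linear_combination -(v : F) * h2
    · intro h
      apply hv3
      apply Units.ext
      push_cast at h ⊢
      have h3 : ((v : F) ^ 2 + v + 1) ^ 2 = 0 := by linear_combination h + ((v : F) ^ 3 + (v : F) ^ 2 + v) * h2
      have h4 := pow_eq_zero_iff two_ne_zero |>.1 h3
      linear_combination ((v : F) - 1) * h4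
  · apply hov 2 hv hv4
    intro M hM hle
    have heven : Even (Fintype.card F) := by
      rw [← Nat.card_eq_fintype_card]
      obtain ⟨n, -, hn⟩ := FiniteField.card F 2
      rw [Nat.card_eq_fintype_card, hn]
      exact (even_two).pow_of_ne_zero n.ne_zero
    have hd := Cfsg.Agent.S5893.result heven (by rw [← Nat.card_eq_fintype_card]; omega) M hM
    rw [card_T0_two] at hle
    rw [← Nat.card_eq_fintype_card] at hd
    rcases hd with hd | ⟨⟨e⟩⟩ | ⟨⟨e⟩⟩ | ⟨F₀, i1, i2, r, hr, -, hq, ⟨e⟩⟩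
    · refine ⟨⟨_, hd⟩, ?_⟩
      rw [hd]
      apply Nat.mul_lt_mul_of_pos_left <;> omega
    · exfalso
      have h3 : Nat.card M = 2 * (Nat.card F - 1) := by
        rw [Nat.card_congr e.toEquiv, DihedralGroup.nat_card]
      rw [h3] at hle
      have := Nat.le_of_mul_le_mul_right hle (by omega)
      omega
    · exfalso
      have h3 : Nat.card M = 2 * (Nat.card F + 1) := by
        rw [Nat.card_congr e.toEquiv, DihedralGroup.nat_card]
      rw [h3] at hle
      obtain ⟨q, hq⟩ : ∃ q, Nat.card F = q + 8 := ⟨Nat.card F - 8, by omega⟩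
      rw [hq, show q + 8 - 1 = q + 7 by omega] at hle
      nlinarith
    · exfalso
      have he0 : Even (Fintype.card F₀) := by
        rw [← Nat.card_eq_fintype_card, hq] at heven
        exact (Nat.even_pow.1 heven).1
      have h3 : Nat.card M = Fintype.card F₀ * (Fintype.card F₀ ^ 2 - 1) := by
        rw [Nat.card_congr e.toEquiv, SmallSimple.PSLTwoPart.card_psl_two_even he0]
      have h4 : 1 < Fintype.card F₀ := Fintype.one_lt_card
      have h5 : Fintype.card F₀ ^ 2 ≤ Nat.card F := by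
        rw [hq]
        exact Nat.pow_le_pow_right (by omega) hr.two_le
      rw [h3] at hle
      generalize Fintype.card F₀ = q0 at *
      have h6 : (q0 ^ 2 - 1) * (q0 ^ 2 - 1) ≤ q0 * (q0 ^ 2 - 1) :=
        (Nat.mul_le_mul (Nat.sub_le_sub_right h5 1) (Nat.sub_le_sub_right h5 1)).trans hle
      have h7 : 0 < q0 ^ 2 - 1 := by
        have : 2 ^ 2 ≤ q0 ^ 2 := Nat.pow_le_pow_left h4 2
        omega
      have h8 := Nat.le_of_mul_le_mul_right h6 h7
      have h9 : q0 + q0 ≤ q0 ^ 2 := by nlinarith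
      omega

/-- **odd** -/
theorem hyp_odd (F : Type*) [Field F] [Finite F] (p : ℕ) [Fact p.Prime] [CharP F p] (hp : p ≠ 2)
    (h13 : 13 ≤ Nat.card F) : (data F p).Hyp := by
  have := Fintype.ofFinite F
  obtain ⟨v, hv, hn⟩ := exists_gen F
  have hv8 : v ^ 8 ≠ 1 := fun h => by have := hn 8 (by norm_num) h; omega
  have hv4 : v ^ 4 ≠ 1 := fun h => by have := hn 4 (by norm_num) h; omega
  have ha : (v : F) ^ 2 ≠ 1 := by
    intro h
    apply hv4
    apply Units.ext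
    push_cast
    linear_combination ((v : F) ^ 2 + 1) * h
  refine ⟨hcomm p ha, fun h => absurd h hp, fun hp3 => ?_, ?_⟩
  · have hp3' : p = 3 := by
      have := (Fact.out : p.Prime).two_le
      omega
    subst hp3'
    have h3 : (3 : F) = 0 := by
      have := CharP.cast_eq_zero F 3
      exact_mod_cast this
    have h8' : (v : F) ^ 8 ≠ 1 := by
      intro h
      apply hv8
      apply Units.ext
      push_cast
      exact h
    have hi : (v : F) * ((v⁻¹ : Fˣ) : F) = 1 := Units.mul_inv v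
    generalize ((v⁻¹ : Fˣ) : F) = vi at hi
    have hx : (v : F) - vi ≠ 0 := by
      intro h
      apply h8'
      have h1 : (v : F) ^ 2 = 1 := by linear_combination (v : F) * h + hi
      linear_combination ((v : F) ^ 6 + (v : F) ^ 4 + (v : F) ^ 2 + 1) * h1
    have hz : (v : F) + vi ≠ 0 := by
      intro h
      apply h8'
      have h1 : (v : F) ^ 2 = -1 := by linear_combination (v : F) * h - hi
      linear_combination ((v : F) ^ 6 - (v : F) ^ 4 + (v : F) ^ 2 - 1) * h1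
    refine hinv 3 ha (x := Units.mk0 _ hx) (y := 1) (z := Units.mk0 _ hz) ?_ ?_
    · rw [Units.val_mk0, Units.val_mk0, Units.val_one]
      linear_combination -4 * hi - h3
    · intro h
      rw [Units.val_mk0, Units.val_one] at h
      apply h8'
      have h4 : (((v : F) - vi) ^ 2 - 1) ^ 2 = 0 := by linear_combination h - ((v : F) - vi) ^ 2 * h3
      have h5 := pow_eq_zero_iff two_ne_zero |>.1 h4
      have h6 : (v : F) ^ 4 = -1 := by
        linear_combination (v : F) ^ 2 * h5 + (2 * (v : F) ^ 2 - ((v : F) * vi + 1)) * hi + (v : F) ^ 2 * h3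
      linear_combination ((v : F) ^ 4 - 1) * h6
  · apply hov p hv hv4
    intro M hM hle
    have hodd : Odd (Fintype.card F) := by
      obtain ⟨n, -, hn⟩ := FiniteField.card F p
      rw [hn]
      exact ((Fact.out : p.Prime).odd_of_ne_two hp).pow
    have hd := Cfsg.Agent.S5892.result p hodd (by rw [← Nat.card_eq_fintype_card]; omega) M hM
    have hT := card_T0 (F := F)
    rw [← Nat.card_eq_fintype_card] at hd hodd
    have hle' : (Nat.card F - 1) * (Nat.card F - 1) ≤ 4 * Nat.card M := by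
      calc (Nat.card F - 1) * (Nat.card F - 1) ≤ (2 * Nat.card (T0 F)) * (2 * Nat.card (T0 F)) :=
            Nat.mul_le_mul hT hT
        _ = 4 * (Nat.card (T0 F) * Nat.card (T0 F)) := by ring
        _ ≤ _ := Nat.mul_le_mul_left _ hle
    obtain ⟨q, hq⟩ : ∃ q, Nat.card F = q + 13 := ⟨Nat.card F - 13, by omega⟩
    rcases hd with hd | ⟨-, k, hk, ⟨e⟩⟩ | ⟨-, -, k, hk, ⟨e⟩⟩ | ⟨F₀, i1, i2, hF, ⟨e⟩⟩ |
      ⟨F₀, i1, i2, r, hr, hro, hF, ⟨e⟩⟩ | ⟨h1, -, ⟨e⟩⟩ | ⟨-, -, -, ⟨e⟩⟩ | ⟨-, -, ⟨e⟩⟩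
    · constructor
      · have h1 : Nat.card F ∣ 2 * Nat.card M := ⟨_, hd⟩
        exact (Nat.Coprime.dvd_mul_left (Nat.Coprime.symm (Nat.coprime_two_left.2 hodd))).1 h1
      · rw [hq, show q + 13 - 1 = q + 12 by omega] at hd
        rw [hq]
        nlinarith
    · exfalso
      have h3 : Nat.card M = 2 * k := by
        rw [Nat.card_congr e.toEquiv, DihedralGroup.nat_card]
      rw [h3, hk, hq, show q + 13 - 1 = q + 12 by omega] at hle'
      nlinarith
    · exfalso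
      have h3 : Nat.card M = 2 * k := by
        rw [Nat.card_congr e.toEquiv, DihedralGroup.nat_card]
      rw [h3, hk, hq, show q + 13 - 1 = q + 12 by omega] at hle'
      nlinarith
    · exfalso
      have h3 : Nat.card M = Fintype.card F₀ * (Fintype.card F₀ ^ 2 - 1) := by
        rw [Nat.card_congr e.toEquiv, ClassicalGeometry.PSL2Basic.card_PGL2]
      rw [h3] at hle'
      generalize Fintype.card F₀ = q0 at *
      rw [hF] at hle'
      have h4 : 4 ≤ q0 := by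
        by_contra h5
        have h6 : q0 ^ 2 ≤ 3 ^ 2 := Nat.pow_le_pow_left (by omega) 2
        omega
      have h4' : 5 ≤ q0 := by
        rcases Nat.lt_or_ge 4 q0 with h5 | h5
        · exact h5
        · exfalso
          have h6 : q0 = 4 := by omega
          rw [hF, h6] at hodd
          exact absurd hodd (by decide)
      have h7 : 0 < q0 ^ 2 - 1 := by omega
      have h8 : (q0 ^ 2 - 1) * (q0 ^ 2 - 1) ≤ (4 * q0) * (q0 ^ 2 - 1) := by
        rw [mul_assoc]; exact hle'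
      have h9 := Nat.le_of_mul_le_mul_right h8 h7
      have h10 : 5 * q0 ≤ q0 ^ 2 := by nlinarith
      omega
    · exfalso
      have ho0 : Odd (Fintype.card F₀) := by
        rw [hF] at hodd
        exact (Nat.odd_pow_iff hr.ne_zero).1 hodd
      have h3 : 2 * Nat.card M = Fintype.card F₀ * (Fintype.card F₀ ^ 2 - 1) := by
        rw [Nat.card_congr e.toEquiv, SmallSimple.PSLTwoPart.card_psl_two_odd ho0]
      have h4 : 1 < Fintype.card F₀ := Fintype.one_lt_card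
      have hr3 : 3 ≤ r := by
        have := hr.two_le
        rcases Nat.lt_or_ge 2 r with h5 | h5
        · exact h5
        · exfalso
          have : r = 2 := by omega
          rw [this] at hro
          exact absurd hro (by decide)
      have h5 : Fintype.card F₀ ^ 3 ≤ Nat.card F := by
        rw [hF]
        exact Nat.pow_le_pow_right (by omega) hr3
      have h6 : Fintype.card F₀ * (Fintype.card F₀ ^ 2 - 1) ≤ Fintype.card F₀ ^ 3 := by
        calc Fintype.card F₀ * (Fintype.card F₀ ^ 2 - 1) ≤ Fintype.card F₀ * Fintype.card F₀ ^ 2 :=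
              Nat.mul_le_mul_left _ (Nat.sub_le _ _)
          _ = _ := by ring
      have h7 : (Nat.card F - 1) * (Nat.card F - 1) ≤ 2 * Nat.card F := by
        have : 4 * Nat.card M = 2 * (2 * Nat.card M) := by ring
        omega
      rw [hq, show q + 13 - 1 = q + 12 by omega] at h7
      nlinarith
    · exfalso
      have h3 : Nat.card M = 60 := by
        rw [Nat.card_congr e.toEquiv, Nat.card_eq_fintype_card]
        rfl
      rw [h3] at hle'
      have h4 : Nat.card F - 1 < 16 := by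
        by_contra h5
        have : 16 * 16 ≤ (Nat.card F - 1) * (Nat.card F - 1) := Nat.mul_le_mul (by omega) (by omega)
        omega
      omega
    · exfalso
      have h3 : Nat.card M = 12 := by
        rw [Nat.card_congr e.toEquiv, Nat.card_eq_fintype_card]
        rfl
      rw [h3, hq, show q + 13 - 1 = q + 12 by omega] at hle'
      nlinarith
    · exfalso
      have h3 : Nat.card M = 24 := by
        rw [Nat.card_congr e.toEquiv, Nat.card_eq_fintype_card]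
        rfl
      rw [h3, hq, show q + 13 - 1 = q + 12 by omega] at hle'
      nlinarith

end Cfsg.Agent.H375.EPR.LTwo
end

-- part: H375/EPR/LTwoSmall
section
/-!
# `PSL₂(7)`, `PSL₂(11)` : the hypotheses `R1.Hyp` (helper375)
-/

set_option autoImplicit false
set_option linter.unusedSectionVars false

namespace Cfsg.Agent.H375.EPR.LTwo

open Matrix Cfsg.Agent.H284 Cfsg.Agent.H470.EPO
open Cfsg.Agent.ClassicalGeometry.SLTwoFour (w ext2 det2 mul00 mul01 mul10 mul11 w00 w01 w10 w11 neg_ij one00 one01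
  one10 one11 w_mul_self)
open Cfsg.Agent.ClassicalGeometry.PSL2Klein (mk mk_eq_mk mk_eq_one mk_neg)

local notation "SL2" => Matrix.SpecialLinearGroup (Fin 2)
local notation "PSL2" => Matrix.ProjectiveSpecialLinearGroup (Fin 2)

theorem key_B {p : ℕ} {T : Type*} [Group T] (D : R1 p T) {K : Subgroup T} (h3 : D.T0 ≤ K) (h4 : K ≤ D.B)
    (h5 : K ⊓ D.U = ⊥) : K = D.T0 := by
  apply le_antisymm _ h3
  intro k hk
  obtain ⟨u, hu, t, ht, rfl⟩ := D.exists_UT (h4 hk)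
  have h6 : u ∈ K := by
    have := mul_mem hk (inv_mem (h3 ht))
    rwa [mul_inv_cancel_right] at this
  have h7 : u ∈ K ⊓ D.U := ⟨h6, hu⟩
  rw [h5, Subgroup.mem_bot] at h7
  rw [h7, one_mul]
  exact ht

theorem cj_w_T0 {p : ℕ} {T : Type*} [Group T] (D : R1 p T) : cj D.w D.T0 = D.T0 := by
  show cj D.w (D.B ⊓ cj D.w D.B) = _
  rw [cj_inf, D.cj_w_cj_w, inf_comm]
  rfl

theorem key_w {p : ℕ} {T : Type*} [Group T] (D : R1 p T) {K : Subgroup T} (h3 : D.T0 ≤ K)
    (h4 : K ≤ cj D.w D.B) (h6 : K ⊓ cj D.w D.U = ⊥) : K = D.T0 := by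
  have h7 : cj D.w⁻¹ K = D.T0 := by
    apply key_B
    · have h8 := cj_mono (x := D.w⁻¹) h3
      rw [← cj_w_T0 D, cj_inv_cj] at h8
      exact h8
    · have h8 := cj_mono (x := D.w⁻¹) h4
      rwa [cj_inv_cj] at h8
    · have h8 := congrArg (cj D.w⁻¹) h6
      rw [cj_inf, cj_inv_cj] at h8
      rw [h8]
      exact Subgroup.map_bot _
  rw [← cj_w_T0 D, ← h7, cj_cj_inv]

section

variable {F : Type*} [Field F]

theorem hov2 [Finite F] (p : ℕ) [Fact p.Prime] [CharP F p] {v : Fˣ} (hv : ∀ a : Fˣ, a ∈ Subgroup.zpowers v)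
    (hv4 : v ^ 4 ≠ 1) (Z0 : Finset (Subgroup (PSL2 F))) (hc : Z0.card + 3 < p) (hZ : ∀ Z ∈ Z0, Z ≠ ⊥ ∧ Z ≠ ⊤)
    (hbig : ∀ K M : Subgroup (PSL2 F), T0 F ≤ K → K ≤ M → IsCoatom M →
      (∃ x : SL2 F, mk x ∈ K ∧ ¬ (x 0 0 = 0 ∧ x 1 1 = 0) ∧ ¬ (x 1 0 = 0 ∧ x 0 1 = 0)) →
      (Nat.card F ∣ Nat.card M ∧ Nat.card M < Nat.card F * Nat.card F) ∨
      ∃ Z ∈ Z0, ∀ φ : MulAut (PSL2 F), (∀ x ∈ K, φ x ∈ K) → ∀ z ∈ Z, φ z ∈ Z) :
    ∃ Zs : Finset (Subgroup (PSL2 F)), (Zs.card ≤ 1 ∨ Zs.card + 2 < p) ∧ (∀ Z ∈ Zs, Z ≠ ⊥ ∧ Z ≠ ⊤) ∧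
    ∀ K : Subgroup (PSL2 F), (data F p).T0 ≤ K → K ≠ ⊤ → (K ≤ (data F p).B ∧ K ⊓ (data F p).U ≠ ⊥) ∨
      (K ≤ cj (data F p).w (data F p).B ∧ K ⊓ cj (data F p).w (data F p).U ≠ ⊥) ∨
      ∃ Z ∈ Zs, ∀ φ : MulAut (PSL2 F), (∀ x ∈ K, φ x ∈ K) → ∀ z ∈ Z, φ z ∈ Z := by
  classical
  have hfin : Finite (PSL2 F) := inferInstance
  have ha : (v : F) ^ 2 ≠ 1 := by
    intro h
    apply hv4
    apply Units.ext
    push_cast
    linear_combination ((v : F) ^ 2 + 1) * h
  refine ⟨insert (T0 F) Z0, Or.inr ?_, ?_, ?_⟩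
  · have := Finset.card_insert_le (T0 F) Z0
    omega
  · intro Z hZ1
    rcases Finset.mem_insert.1 hZ1 with rfl | h
    · exact ⟨T0_ne_bot ha, T0_ne_top⟩
    · exact hZ Z h
  intro K hK hK1
  have hK' : T0 F ≤ K := hK
  by_cases h : ∀ x : SL2 F, mk x ∈ K → (x 0 0 = 0 ∧ x 1 1 = 0) ∨ (x 1 0 = 0 ∧ x 0 1 = 0)
  · exact Or.inr (Or.inr ⟨T0 F, Finset.mem_insert_self _ _, norm_case hv hv4 hK' h⟩)
  · push Not at h
    obtain ⟨x, hx, h1, h2⟩ := h
    have h1' : ¬ (x 0 0 = 0 ∧ x 1 1 = 0) := fun h4 => h1 h4.1 h4.2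
    have h2' : ¬ (x 1 0 = 0 ∧ x 0 1 = 0) := fun h4 => h2 h4.1 h4.2
    have hne : K ≠ (data F p).T0 := by
      intro h3
      rw [h3] at hx
      exact h2' (mem_T0'.1 hx)
    rcases eq_top_or_exists_le_coatom K with h4 | ⟨M, hM, hKM⟩
    · exact absurd h4 hK1
    · rcases hbig K M hK' hKM hM ⟨x, hx, h1', h2'⟩ with h5 | ⟨Z, hZ1, hZ2⟩
      · rcases borel_case p ha (hK'.trans hKM) h5.1 h5.2 with h6 | h6
        · exact Or.inl ⟨hKM.trans h6, fun h7 => hne (key_B _ hK (hKM.trans h6) h7)⟩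
        · exact Or.inr (Or.inl ⟨hKM.trans h6, fun h7 => hne (key_w _ hK (hKM.trans h6) h7)⟩)
      · exact Or.inr (Or.inr ⟨Z, Finset.mem_insert_of_mem hZ1, hZ2⟩)

theorem conj_tS (a : Fˣ) (y : SL2 F) : (tS a * y * (tS a)⁻¹) 0 0 = y 0 0 ∧
    (tS a * y * (tS a)⁻¹) 0 1 = (a : F) ^ 2 * y 0 1 ∧ (tS a * y * (tS a)⁻¹) 1 0 = ((a⁻¹ : Fˣ) : F) ^ 2 * y 1 0 ∧
    (tS a * y * (tS a)⁻¹) 1 1 = y 1 1 := by
  have ha : (a : F) * ((a⁻¹ : Fˣ) : F) = 1 := Units.mul_inv a
  refine ⟨?_, ?_, ?_, ?_⟩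
  · rw [mul00, mul00, mul01, inv00, inv10]
    simp only [tS00, tS01, tS10, tS11]
    linear_combination (y 0 0) * ha
  · rw [mul01, mul00, mul01, inv01, inv11]
    simp only [tS00, tS01, tS10, tS11]
    ring
  · rw [mul10, mul10, mul11, inv00, inv10]
    simp only [tS00, tS01, tS10, tS11]
    ring
  · rw [mul11, mul10, mul11, inv01, inv11]
    simp only [tS00, tS01, tS10, tS11]
    linear_combination (y 1 1) * ha

theorem sq00 (y : SL2 F) : (y * y) 0 1 = y 0 1 * (y 0 0 + y 1 1) ∧ (y * y) 1 0 = y 1 0 * (y 0 0 + y 1 1) ∧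
    (y * y) 0 0 = y 0 0 * (y 0 0 + y 1 1) - 1 ∧ (y * y) 1 1 = y 1 1 * (y 0 0 + y 1 1) - 1 := by
  have hd := det2 y
  refine ⟨?_, ?_, ?_, ?_⟩
  · rw [mul01]; ring
  · rw [mul10]; ring
  · rw [mul00]; linear_combination -hd
  · rw [mul11]; linear_combination -hd

/-- an involution has trace zero -/
theorem tr_zero (h2 : (2 : F) ≠ 0) {y : SL2 F} (h : mk y * mk y = 1) (h1 : mk y ≠ 1) : y 1 1 = - y 0 0 := by
  have hd := det2 y
  obtain ⟨s1, s2, s3, s4⟩ := sq00 y
  by_contra hne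
  have h0 : y 0 0 + y 1 1 ≠ 0 := fun e => hne (by linear_combination e)
  rw [← mk_mul, mk_eq_one] at h
  have hb : y 0 1 = 0 := by
    rcases h with h | h
    · rw [h, one01] at s1
      exact (mul_eq_zero.1 s1.symm).resolve_right h0
    · rw [h, neg_ij, one01, neg_zero] at s1
      exact (mul_eq_zero.1 s1.symm).resolve_right h0
  have hc : y 1 0 = 0 := by
    rcases h with h | h
    · rw [h, one10] at s2
      exact (mul_eq_zero.1 s2.symm).resolve_right h0
    · rw [h, neg_ij, one10, neg_zero] at s2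
      exact (mul_eq_zero.1 s2.symm).resolve_right h0
  rw [hb, zero_mul, sub_zero] at hd
  have h3 : y 0 0 * (y 0 0 + y 1 1) = y 1 1 * (y 0 0 + y 1 1) := by
    rcases h with h | h
    · rw [h] at s3 s4
      rw [one00] at s3
      rw [one11] at s4
      linear_combination s4 - s3
    · rw [h, neg_ij] at s3 s4
      rw [one00] at s3
      rw [one11] at s4
      linear_combination s4 - s3
  have h4 : y 0 0 = y 1 1 := mul_right_cancel₀ h0 h3
  apply h1
  rw [mk_eq_one]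
  rw [← h4] at hd
  have h5 : (y 0 0 - 1) * (y 0 0 + 1) = 0 := by linear_combination hd
  rcases mul_eq_zero.1 h5 with h6 | h6
  · left
    apply ext2
    · rw [one00]; linear_combination h6
    · rw [hb, one01]
    · rw [hc, one10]
    · rw [one11, ← h4]; linear_combination h6
  · right
    apply ext2
    · rw [neg_ij, one00]; linear_combination h6
    · rw [neg_ij, hb, one01, neg_zero]
    · rw [neg_ij, hc, one10, neg_zero]
    · rw [neg_ij, one11, ← h4]; linear_combination h6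

end

/-! ### facts on `S₄` -/

set_option maxRecDepth 100000 in
theorem s4a : ∀ a : Equiv.Perm (Fin 4), a ^ 3 = 1 → ∀ b : Equiv.Perm (Fin 4), b ^ 3 = 1 →
    (a * b * a⁻¹ * b⁻¹) ^ 2 = 1 := by (simp only [↓Cfsg.Agent.PermCode.M, Cfsg.Agent.PermCode.P4.R, Cfsg.Agent.PermCode.B]; decide +kernel)

set_option maxRecDepth 100000 in
theorem s4b : ∀ a : Equiv.Perm (Fin 4), a ^ 3 = 1 → a ≠ 1 → ∀ b : Equiv.Perm (Fin 4), b ^ 3 = 1 → b ≠ 1 → b ≠ a →
    b ≠ a⁻¹ → a * b * a⁻¹ * b⁻¹ ≠ 1 := by (simp only [↓Cfsg.Agent.PermCode.M, Cfsg.Agent.PermCode.P4.R, Cfsg.Agent.PermCode.B]; decide +kernel)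

set_option maxRecDepth 100000 in
theorem s4c : ∀ a : Equiv.Perm (Fin 4), a ^ 3 = 1 ∧ a ≠ 1 → ∀ n : Equiv.Perm (Fin 4), (n ^ 2 = 1 ∧
    Equiv.Perm.sign n = 1 ∧ n ≠ 1) → (n * (a * n * a⁻¹)) ^ 2 = 1 ∧ n * (a * n * a⁻¹) ≠ 1 := by (simp only [↓Cfsg.Agent.PermCode.M, Cfsg.Agent.PermCode.P4.R, Cfsg.Agent.PermCode.B]; decide +kernel)

set_option maxRecDepth 100000 in
set_option synthInstance.maxHeartbeats 200000 in
set_option synthInstance.maxSize 2000 in
theorem s4d : ∀ a : Equiv.Perm (Fin 4), a ^ 3 = 1 ∧ a ≠ 1 → ∀ n : Equiv.Perm (Fin 4), (n ^ 2 = 1 ∧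
    Equiv.Perm.sign n = 1 ∧ n ≠ 1) →
    ∀ y : Equiv.Perm (Fin 4), (y ^ 2 = 1 ∧ Equiv.Perm.sign y = 1) →
      y = 1 ∨ y = n ∨ y = a * n * a⁻¹ ∨ y = a⁻¹ * n * a := by (simp only [↓Cfsg.Agent.PermCode.M, Cfsg.Agent.PermCode.P4.R, Cfsg.Agent.PermCode.B]; decide +kernel)

/-! ### `q = 7` -/

instance fact7 : Fact (Nat.Prime 7) := ⟨by norm_num⟩

/-- generator -/
def v7 : (ZMod 7)ˣ := ⟨3, 5, by decide, by decide⟩

theorem v7_gen : ∀ a : (ZMod 7)ˣ, a ∈ Subgroup.zpowers v7 := by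
  intro a
  rw [Subgroup.mem_zpowers_iff]
  have h : ∀ x : ZMod 7, x ≠ 0 → x = 3 ^ 0 ∨ x = 3 ^ 1 ∨ x = 3 ^ 2 ∨ x = 3 ^ 3 ∨ x = 3 ^ 4 ∨ x = 3 ^ 5 := by decide
  rcases h a a.ne_zero with h | h | h | h | h | h
  · exact ⟨(0 : ℕ), by rw [zpow_natCast]; exact Units.ext (by rw [h]; rfl)⟩
  · exact ⟨(1 : ℕ), by rw [zpow_natCast]; exact Units.ext (by rw [h]; rfl)⟩
  · exact ⟨(2 : ℕ), by rw [zpow_natCast]; exact Units.ext (by rw [h]; rfl)⟩
  · exact ⟨(3 : ℕ), by rw [zpow_natCast]; exact Units.ext (by rw [h]; rfl)⟩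
  · exact ⟨(4 : ℕ), by rw [zpow_natCast]; exact Units.ext (by rw [h]; rfl)⟩
  · exact ⟨(5 : ℕ), by rw [zpow_natCast]; exact Units.ext (by rw [h]; rfl)⟩

/-- the element of order three -/
abbrev τ7 : PSL2 (ZMod 7) := t v7

theorem τ7_cube : τ7 ^ 3 = 1 := by
  have h : τ7 ^ 3 = t (v7 ^ 3) := (map_pow (tH (ZMod 7)) v7 3).symm
  rw [h, t_eq_one]
  decide

theorem τ7_ne : τ7 ≠ 1 := by
  rw [Ne, t_eq_one]
  decide

/-- the four group -/
def Z7 (n : PSL2 (ZMod 7)) : Subgroup (PSL2 (ZMod 7)) :=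
  Subgroup.closure {n, τ7 * n * τ7⁻¹, τ7⁻¹ * n * τ7}

theorem Z7_conj (n : PSL2 (ZMod 7)) : Z7 (τ7 * n * τ7⁻¹) = Z7 n := by
  have h1 : τ7 * (τ7 * n * τ7⁻¹) * τ7⁻¹ = τ7⁻¹ * n * τ7 := by
    have h2 : τ7 * τ7 = τ7⁻¹ := by
      rw [eq_inv_iff_mul_eq_one, ← pow_two, ← pow_succ, τ7_cube]
    calc τ7 * (τ7 * n * τ7⁻¹) * τ7⁻¹ = (τ7 * τ7) * n * (τ7 * τ7)⁻¹ := by group
      _ = _ := by rw [h2, inv_inv]
  have h3 : τ7⁻¹ * (τ7 * n * τ7⁻¹) * τ7 = n := by group
  unfold Z7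
  rw [h1, h3]
  refine congrArg Subgroup.closure (Set.ext fun y => ?_)
  simp only [Set.mem_insert_iff, Set.mem_singleton_iff]
  exact or_rotate.symm

/-- the involutions -/
def ζ7 (ε : ZMod 7) (h : ε * ε = 1) : SL2 (ZMod 7) := ⟨!![3, ε; 4 * ε, -3], by
  rw [det_fin_two_of]
  have : (3 : ZMod 7) * -3 - ε * (4 * ε) = -9 - 4 * (ε * ε) := by ring
  rw [this, h]
  decide⟩

theorem Z7_cases (y : SL2 (ZMod 7)) (h0 : y 0 0 = 3) (h1 : y 1 1 = -3) (h2 : y 0 1 * y 1 0 = 4) :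
    Z7 (mk y) = Z7 (mk (ζ7 1 (by decide))) ∨ Z7 (mk y) = Z7 (mk (ζ7 (-1) (by decide))) := by
  have key : ∀ b c : ZMod 7, b * c = 4 →
      ((b = 1 ∧ c = 4 * 1) ∨ (b = (v7 : ZMod 7) ^ 2 * 1 ∧ c = ((v7⁻¹ : (ZMod 7)ˣ) : ZMod 7) ^ 2 * (4 * 1)) ∨
      (b = (v7 : ZMod 7) ^ 2 * ((v7 : ZMod 7) ^ 2 * 1) ∧
        c = ((v7⁻¹ : (ZMod 7)ˣ) : ZMod 7) ^ 2 * (((v7⁻¹ : (ZMod 7)ˣ) : ZMod 7) ^ 2 * (4 * 1)))) ∨
      ((b = -1 ∧ c = 4 * -1) ∨ (b = (v7 : ZMod 7) ^ 2 * -1 ∧ c = ((v7⁻¹ : (ZMod 7)ˣ) : ZMod 7) ^ 2 * (4 * -1)) ∨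
      (b = (v7 : ZMod 7) ^ 2 * ((v7 : ZMod 7) ^ 2 * -1) ∧
        c = ((v7⁻¹ : (ZMod 7)ˣ) : ZMod 7) ^ 2 * (((v7⁻¹ : (ZMod 7)ˣ) : ZMod 7) ^ 2 * (4 * -1)))) := by decide
  have key2 : ∀ (ε : ZMod 7) (h : ε * ε = 1), ((y 0 1 = ε ∧ y 1 0 = 4 * ε) ∨
      (y 0 1 = (v7 : ZMod 7) ^ 2 * ε ∧ y 1 0 = ((v7⁻¹ : (ZMod 7)ˣ) : ZMod 7) ^ 2 * (4 * ε)) ∨
      (y 0 1 = (v7 : ZMod 7) ^ 2 * ((v7 : ZMod 7) ^ 2 * ε) ∧
        y 1 0 = ((v7⁻¹ : (ZMod 7)ˣ) : ZMod 7) ^ 2 * (((v7⁻¹ : (ZMod 7)ˣ) : ZMod 7) ^ 2 * (4 * ε)))) →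
      Z7 (mk y) = Z7 (mk (ζ7 ε h)) := by
    intro ε h hcases
    obtain ⟨a1, a2, a3, a4⟩ := conj_tS v7 (ζ7 ε h)
    obtain ⟨b1, b2, b3, b4⟩ := conj_tS v7 (tS v7 * ζ7 ε h * (tS v7)⁻¹)
    rcases hcases with h3 | h3 | h3
    · congr 2
      apply ext2
      · rw [h0]; rfl
      · rw [h3.1]; rfl
      · rw [h3.2]; rfl
      · rw [h1]; rfl
    · rw [← Z7_conj (mk (ζ7 ε h))]
      congr 1
      change mk y = mk (tS v7 * ζ7 ε h * (tS v7)⁻¹)
      congr 1
      apply ext2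
      · rw [h0, a1]; rfl
      · rw [h3.1, a2]; rfl
      · rw [h3.2, a3]; rfl
      · rw [h1, a4]; rfl
    · rw [← Z7_conj (mk (ζ7 ε h)), ← Z7_conj (τ7 * _ * _)]
      congr 1
      change mk y = mk (tS v7 * (tS v7 * ζ7 ε h * (tS v7)⁻¹) * (tS v7)⁻¹)
      congr 1
      apply ext2
      · rw [h0, b1, a1]; rfl
      · rw [h3.1, b2, a2]; rfl
      · rw [h3.2, b3, a3]; rfl
      · rw [h1, b4, a4]; rfl
  rcases key _ _ h2 with h3 | h3
  · exact Or.inl (key2 1 (by decide) h3)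
  · exact Or.inr (key2 (-1) (by decide) h3)

/-- an involution which generates a four group with its conjugate under `τ` -/
theorem Z7_of_inv {n : PSL2 (ZMod 7)} (h1 : n * n = 1) (h2 : n ≠ 1)
    (h3 : (n * (τ7 * n * τ7⁻¹)) * (n * (τ7 * n * τ7⁻¹)) = 1) (h4 : n * (τ7 * n * τ7⁻¹) ≠ 1) :
    Z7 n = Z7 (mk (ζ7 1 (by decide))) ∨ Z7 n = Z7 (mk (ζ7 (-1) (by decide))) := by
  obtain ⟨y, rfl⟩ := mk_surj n
  have h20 : (2 : ZMod 7) ≠ 0 := by decide
  have e1 := tr_zero h20 h1 h2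
  have hx : mk y * (τ7 * mk y * τ7⁻¹) = mk (y * (tS v7 * y * (tS v7)⁻¹)) := rfl
  rw [hx] at h3 h4
  have e2 := tr_zero h20 h3 h4
  obtain ⟨a1, a2, a3, a4⟩ := conj_tS v7 y
  rw [mul11, mul00, a1, a2, a3, a4] at e2
  have hd := det2 y
  rw [e1] at hd e2
  have hv : (v7 : ZMod 7) = 3 := rfl
  have hv' : ((v7⁻¹ : (ZMod 7)ˣ) : ZMod 7) = 5 := rfl
  rw [hv, hv'] at e2
  have key : ∀ a m : ZMod 7, a * -a - m = 1 → -a * -a + a * a + (3 ^ 2 + 5 ^ 2) * m = 0 →
      (a = 3 ∨ a = -3) ∧ m = 4 := by decide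
  obtain ⟨h5, h6⟩ := key (y 0 0) (y 0 1 * y 1 0) hd (by linear_combination e2)
  rcases h5 with h5 | h5
  · exact Z7_cases y h5 (by rw [e1, h5]) h6
  · rw [← mk_neg y]
    apply Z7_cases
    · rw [neg_ij, h5, neg_neg]
    · rw [neg_ij, e1, h5, neg_neg]
    · rw [neg_ij, neg_ij, neg_mul_neg, h6]

theorem s4_case {K M : Subgroup (PSL2 (ZMod 7))} (hK : T0 (ZMod 7) ≤ K) (hKM : K ≤ M)
    (e : M ≃* Equiv.Perm (Fin 4)) {x : SL2 (ZMod 7)} (hx : mk x ∈ K) (hx1 : ¬ (x 0 0 = 0 ∧ x 1 1 = 0))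
    (hx2 : ¬ (x 1 0 = 0 ∧ x 0 1 = 0)) :
    ∃ n : PSL2 (ZMod 7), n ∈ K ∧ n ≠ 1 ∧ (Z7 n = Z7 (mk (ζ7 1 (by decide))) ∨ Z7 n = Z7 (mk (ζ7 (-1) (by decide)))) ∧
      Z7 n ≤ K ∧ ∀ φ : MulAut (PSL2 (ZMod 7)), (∀ x ∈ K, φ x ∈ K) → ∀ z ∈ Z7 n, φ z ∈ Z7 n := by
  have hτ : τ7 ∈ K := hK (t_mem v7)
  set g := mk x with hg
  set σ := g⁻¹ * τ7 * g with hσ
  have hσK : σ ∈ K := K.mul_mem (K.mul_mem (K.inv_mem hx) hτ) hx
  have hσT : σ ∉ T0 (ZMod 7) := fun h => τ7_ne (inter_triv hx1 hx2 h)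
  have hσ3 : σ ^ 3 = 1 := by
    have h1 := conj_pow (a := g⁻¹) (b := τ7) (i := 3)
    rw [inv_inv] at h1
    rw [hσ, h1, τ7_cube]
    group
  -- transfer to `S₄`
  let f : ∀ y : PSL2 (ZMod 7), y ∈ K → Equiv.Perm (Fin 4) := fun y hy => e ⟨y, hKM hy⟩
  have fmul : ∀ (y z : PSL2 (ZMod 7)) (hy : y ∈ K) (hz : z ∈ K), f (y * z) (K.mul_mem hy hz) = f y hy * f z hz := by
    intro y z hy hz
    change e ⟨y * z, _⟩ = e ⟨y, _⟩ * e ⟨z, _⟩
    rw [← map_mul]
    rfl
  have finv : ∀ (y : PSL2 (ZMod 7)) (hy : y ∈ K), f y⁻¹ (K.inv_mem hy) = (f y hy)⁻¹ := by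
    intro y hy
    change e ⟨y⁻¹, _⟩ = (e ⟨y, _⟩)⁻¹
    rw [← map_inv]
    rfl
  have finj : ∀ (y z : PSL2 (ZMod 7)) (hy : y ∈ K) (hz : z ∈ K), f y hy = f z hz → y = z := by
    intro y z hy hz h
    have := e.injective h
    exact Subtype.ext_iff.1 this
  have fone : f 1 K.one_mem = 1 := by
    change e ⟨1, _⟩ = 1
    rw [← map_one e]
    rfl
  have fpow : ∀ (y : PSL2 (ZMod 7)) (hy : y ∈ K) (m : ℕ), f (y ^ m) (K.pow_mem hy m) = (f y hy) ^ m := by
    intro y hy m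
    change e ⟨y ^ m, _⟩ = (e ⟨y, _⟩) ^ m
    rw [← map_pow]
    rfl
  have fext : ∀ (y z : PSL2 (ZMod 7)) (hy : y ∈ K) (hz : z ∈ K), y = z → f y hy = f z hz := by
    intro y z hy hz h
    subst h
    rfl
  have fcube : ∀ (y : PSL2 (ZMod 7)) (hy : y ∈ K), y ^ 3 = 1 → (f y hy) ^ 3 = 1 := by
    intro y hy h
    rw [← fpow y hy 3, ← fone]
    exact fext (y ^ 3) 1 (K.pow_mem hy 3) K.one_mem h
  have fne : ∀ (y z : PSL2 (ZMod 7)) (hy : y ∈ K) (hz : z ∈ K), y ≠ z → f y hy ≠ f z hz :=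
    fun y z hy hz h h1 => h (finj y z hy hz h1)
  have fcom : ∀ (y z : PSL2 (ZMod 7)) (hy : y ∈ K) (hz : z ∈ K),
      f (y * z * y⁻¹ * z⁻¹) (K.mul_mem (K.mul_mem (K.mul_mem hy hz) (K.inv_mem hy)) (K.inv_mem hz)) =
        f y hy * f z hz * (f y hy)⁻¹ * (f z hz)⁻¹ := by
    intro y z hy hz
    rw [fmul _ _ (K.mul_mem (K.mul_mem hy hz) (K.inv_mem hy)) (K.inv_mem hz),
      fmul _ _ (K.mul_mem hy hz) (K.inv_mem hy), fmul _ _ hy hz, finv _ hy, finv _ hz]
  have fconj : ∀ (y z : PSL2 (ZMod 7)) (hy : y ∈ K) (hz : z ∈ K),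
      f (y * z * y⁻¹) (K.mul_mem (K.mul_mem hy hz) (K.inv_mem hy)) = f y hy * f z hz * (f y hy)⁻¹ := by
    intro y z hy hz
    rw [fmul _ _ (K.mul_mem hy hz) (K.inv_mem hy), fmul _ _ hy hz, finv _ hy]
  have fconj' : ∀ (y z : PSL2 (ZMod 7)) (hy : y ∈ K) (hz : z ∈ K),
      f (y⁻¹ * z * y) (K.mul_mem (K.mul_mem (K.inv_mem hy) hz) hy) = (f y hy)⁻¹ * f z hz * f y hy := by
    intro y z hy hz
    rw [fmul _ _ (K.mul_mem (K.inv_mem hy) hz) hy, fmul _ _ (K.inv_mem hy) hz, finv _ hy]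
  -- commutators of elements of order three
  have hcomm : ∀ (c d : PSL2 (ZMod 7)) (hc : c ∈ K) (hd : d ∈ K), c ^ 3 = 1 → d ^ 3 = 1 →
      (f c hc * f d hd * (f c hc)⁻¹ * (f d hd)⁻¹) ^ 2 = 1 ∧
      Equiv.Perm.sign (f c hc * f d hd * (f c hc)⁻¹ * (f d hd)⁻¹) = 1 := by
    intro c d hc hd h1 h2
    refine ⟨s4a _ (fcube c hc h1) _ (fcube d hd h2), ?_⟩
    rw [map_mul, map_mul, map_mul, map_inv, map_inv]
    generalize Equiv.Perm.sign (f c hc) = a
    generalize Equiv.Perm.sign (f d hd) = b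
    rw [mul_comm a b, mul_inv_cancel_right, mul_inv_cancel]
  set n := τ7 * σ * τ7⁻¹ * σ⁻¹ with hn
  have hnK : n ∈ K := K.mul_mem (K.mul_mem (K.mul_mem hτ hσK) (K.inv_mem hτ)) (K.inv_mem hσK)
  have A : (f τ7 hτ) ^ 3 = 1 ∧ f τ7 hτ ≠ 1 := ⟨fcube τ7 hτ τ7_cube, fone ▸ fne _ _ hτ K.one_mem τ7_ne⟩
  have N : (f n hnK) ^ 2 = 1 ∧ Equiv.Perm.sign (f n hnK) = 1 ∧ f n hnK ≠ 1 := by
    have h1 := hcomm τ7 σ hτ hσK τ7_cube hσ3
    have h2 : f n hnK = f τ7 hτ * f σ hσK * (f τ7 hτ)⁻¹ * (f σ hσK)⁻¹ := fcom τ7 σ hτ hσK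
    rw [h2]
    refine ⟨h1.1, h1.2, ?_⟩
    apply s4b _ A.1 A.2 _ (fcube σ hσK hσ3)
    · exact fone ▸ fne _ _ hσK K.one_mem (fun h => hσT (h ▸ Subgroup.one_mem _))
    · exact fne _ _ hσK hτ (fun h => hσT (h ▸ t_mem v7))
    · rw [← finv _ hτ]
      exact fne _ _ hσK (K.inv_mem hτ) (fun h => hσT (h ▸ Subgroup.inv_mem _ (t_mem v7)))
  have hfour := s4c _ A _ N
  have hall := s4d _ A _ N
  have hn1 : n ≠ 1 := fun h => N.2.2 (by rw [← fone]; exact fext n 1 hnK K.one_mem h)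
  have hcK : τ7 * n * τ7⁻¹ ∈ K := K.mul_mem (K.mul_mem hτ hnK) (K.inv_mem hτ)
  have hcK' : τ7⁻¹ * n * τ7 ∈ K := K.mul_mem (K.mul_mem (K.inv_mem hτ) hnK) hτ
  have hmem : ∀ y (hy : y ∈ K), (f y hy) ^ 2 = 1 → Equiv.Perm.sign (f y hy) = 1 → y ∈ Z7 n := by
    intro y hy h1 h2
    rcases hall _ ⟨h1, h2⟩ with h | h | h | h
    · have : y = 1 := finj _ _ hy K.one_mem (h.trans fone.symm)
      rw [this]; exact one_mem _
    · rw [finj _ _ hy hnK h]
      exact Subgroup.subset_closure (by simp)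
    · rw [← fconj _ _ hτ hnK] at h
      rw [finj _ _ hy hcK h]
      exact Subgroup.subset_closure (by simp)
    · rw [← fconj' _ _ hτ hnK] at h
      rw [finj _ _ hy hcK' h]
      exact Subgroup.subset_closure (by simp)
  refine ⟨n, hnK, hn1, ?_, ?_, ?_⟩
  · apply Z7_of_inv
    · apply finj _ _ (K.mul_mem hnK hnK) K.one_mem
      rw [fmul _ _ hnK hnK, fone, ← pow_two]
      exact N.1
    · exact hn1
    · apply finj _ _ (K.mul_mem (K.mul_mem hnK hcK) (K.mul_mem hnK hcK)) K.one_mem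
      rw [fmul _ _ (K.mul_mem hnK hcK) (K.mul_mem hnK hcK), fmul _ _ hnK hcK, fconj _ _ hτ hnK, fone, ← pow_two]
      exact hfour.1
    · intro h
      apply hfour.2
      rw [← fconj _ _ hτ hnK, ← fmul _ _ hnK hcK, ← fone]
      exact fext _ _ (K.mul_mem hnK hcK) K.one_mem h
  · unfold Z7
    rw [Subgroup.closure_le]
    rintro y (rfl | rfl | rfl)
    · exact hnK
    · exact hcK
    · exact hcK'
  · intro φ hφ
    have himg : ∀ c d : PSL2 (ZMod 7), c ∈ K → d ∈ K → c ^ 3 = 1 → d ^ 3 = 1 → φ (c * d * c⁻¹ * d⁻¹) ∈ Z7 n := by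
      intro c d hc hd h1 h2
      have e1 : φ (c * d * c⁻¹ * d⁻¹) = φ c * φ d * (φ c)⁻¹ * (φ d)⁻¹ := by
        rw [map_mul, map_mul, map_mul, map_inv, map_inv]
      rw [e1]
      have h3 : (φ c) ^ 3 = 1 := by rw [← map_pow, h1, map_one]
      have h4 : (φ d) ^ 3 = 1 := by rw [← map_pow, h2, map_one]
      have h5 := hcomm _ _ (hφ c hc) (hφ d hd) h3 h4
      apply hmem _ (K.mul_mem (K.mul_mem (K.mul_mem (hφ c hc) (hφ d hd)) (K.inv_mem (hφ c hc))) (K.inv_mem (hφ d hd)))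
      · rw [fcom _ _ (hφ c hc) (hφ d hd)]; exact h5.1
      · rw [fcom _ _ (hφ c hc) (hφ d hd)]; exact h5.2
    have hle : Z7 n ≤ (Z7 n).comap φ.toMonoidHom := by
      conv_lhs => unfold Z7
      rw [Subgroup.closure_le]
      rintro y (rfl | rfl | rfl)
      · exact himg τ7 σ hτ hσK τ7_cube hσ3
      · have e1 : τ7 * n * τ7⁻¹ = τ7 * (τ7 * σ * τ7⁻¹) * τ7⁻¹ * (τ7 * σ * τ7⁻¹)⁻¹ := by rw [hn]; group
        rw [e1]
        refine himg τ7 (τ7 * σ * τ7⁻¹) hτ (K.mul_mem (K.mul_mem hτ hσK) (K.inv_mem hτ)) τ7_cube ?_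
        have : (τ7 * σ * τ7⁻¹) ^ 3 = τ7 * σ ^ 3 * τ7⁻¹ := by rw [conj_pow]
        rw [this, hσ3]; group
      · have e1 : τ7⁻¹ * n * τ7 = τ7 * (τ7⁻¹ * σ * τ7) * τ7⁻¹ * (τ7⁻¹ * σ * τ7)⁻¹ := by rw [hn]; group
        rw [e1]
        refine himg τ7 (τ7⁻¹ * σ * τ7) hτ (K.mul_mem (K.mul_mem (K.inv_mem hτ) hσK) hτ) τ7_cube ?_
        have : (τ7⁻¹ * σ * τ7) ^ 3 = τ7⁻¹ * σ ^ 3 * τ7 := by
          have := conj_pow (a := τ7⁻¹) (b := σ) (i := 3)
          rwa [inv_inv] at this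
        rw [this, hσ3]; group
    exact fun z hz => hle hz

/-- **`q = 7`** -/
theorem hyp_seven : (data (ZMod 7) 7).Hyp := by
  classical
  have ha : (v7 : ZMod 7) ^ 2 ≠ 1 := by decide
  refine ⟨hcomm 7 ha, fun h => absurd h (by norm_num), fun h => absurd h (by norm_num), ?_⟩
  have hcard : Nat.card (ZMod 7) = 7 := by rw [Nat.card_zmod]
  refine hov2 7 v7_gen (by decide)
    (({Z7 (mk (ζ7 1 (by decide))), Z7 (mk (ζ7 (-1) (by decide)))} : Finset (Subgroup (PSL2 (ZMod 7)))).filter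
      (fun Z => Z ≠ ⊥ ∧ Z ≠ ⊤)) ?_ ?_ ?_
  · have h1 := Finset.card_filter_le
      ({Z7 (mk (ζ7 1 (by decide))), Z7 (mk (ζ7 (-1) (by decide)))} : Finset (Subgroup (PSL2 (ZMod 7))))
      (fun Z => Z ≠ ⊥ ∧ Z ≠ ⊤)
    have h2 := Finset.card_le_two (a := Z7 (mk (ζ7 1 (by decide)))) (b := Z7 (mk (ζ7 (-1) (by decide))))
    omega
  · intro Z hZ
    exact (Finset.mem_filter.1 hZ).2
  · rintro K M hK hKM hM ⟨x, hx, hx1, hx2⟩
    have hq : Fintype.card (ZMod 7) = 7 := ZMod.card 7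
    have hd := Cfsg.Agent.S5892.result (F := ZMod 7) 7 (by rw [hq]; decide) (by rw [hq]; norm_num) M hM
    rw [hq] at hd
    rcases hd with hd | ⟨h1, -⟩ | ⟨h1, -⟩ | ⟨F₀, i1, i2, hF, -⟩ |
      ⟨F₀, i1, i2, r, hr, hro, hF, -⟩ | ⟨h1, -⟩ | ⟨-, h1, -⟩ | ⟨-, -, ⟨e⟩⟩
    · left
      rw [hcard]
      omega
    · omega
    · exact absurd rfl h1
    · exfalso
      have h2 : (Fintype.card F₀ ^ 2).Prime := by rw [← hF]; norm_num
      exact Nat.Prime.not_prime_pow le_rfl h2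
    · exfalso
      have h2 : (Fintype.card F₀ ^ r).Prime := by rw [← hF]; norm_num
      exact Nat.Prime.not_prime_pow hr.two_le h2
    · omega
    · omega
    · right
      obtain ⟨n, hn, hn1, hcases, hle, hinvt⟩ := s4_case hK hKM e hx hx1 hx2
      refine ⟨Z7 n, Finset.mem_filter.2 ⟨?_, ?_, ?_⟩, hinvt⟩
      · rcases hcases with h | h
        · rw [h]; simp
        · rw [h]; simp
      · intro h
        have h1 : n ∈ Z7 n := Subgroup.subset_closure (by simp)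
        rw [h] at h1
        exact hn1 (Subgroup.mem_bot.1 h1)
      · intro h
        rw [h, top_le_iff] at hle
        exact hM.1 (top_le_iff.1 (hle ▸ hKM))

end Cfsg.Agent.H375.EPR.LTwo
end

-- part: H375/EPR/LTwoEleven
section
/-!
# `PSL₂(11)` : the hypotheses `R1.Hyp` (helper375)
-/

set_option autoImplicit false
set_option linter.unusedSectionVars false

namespace Cfsg.Agent.H375.EPR.LTwo

open Matrix Cfsg.Agent.H284 Cfsg.Agent.H470.EPO
open Cfsg.Agent.ClassicalGeometry.SLTwoFour (w ext2 det2 mul00 mul01 mul10 mul11 w00 w01 w10 w11 neg_ij one00 one01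
  one10 one11 w_mul_self)
open Cfsg.Agent.ClassicalGeometry.PSL2Klein (mk mk_eq_mk mk_eq_one mk_neg)

local notation "SL2" => Matrix.SpecialLinearGroup (Fin 2)
local notation "PSL2" => Matrix.ProjectiveSpecialLinearGroup (Fin 2)

instance fact11 : Fact (Nat.Prime 11) := ⟨by norm_num⟩

/-- generator -/
def v11 : (ZMod 11)ˣ := ⟨2, 6, by decide, by decide⟩

theorem v11_gen : ∀ a : (ZMod 11)ˣ, a ∈ Subgroup.zpowers v11 := by
  intro a
  rw [Subgroup.mem_zpowers_iff]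
  have h : ∀ x : ZMod 11, x ≠ 0 → ∃ n : Fin 10, x = 2 ^ (n : ℕ) := by decide
  obtain ⟨n, hn⟩ := h a a.ne_zero
  refine ⟨((n : ℕ) : ℤ), ?_⟩
  rw [zpow_natCast]
  apply Units.ext
  rw [hn, Units.val_pow_eq_pow_val]
  rfl

/-- the involutions -/
def ζ11 (a ε : ZMod 11) (h : ε * ε = 1) : SL2 (ZMod 11) := ⟨!![a, ε; -(1 + a * a) * ε, -a], by
  rw [det_fin_two_of]
  have : a * -a - ε * (-(1 + a * a) * ε) = -(a * a) + (1 + a * a) * (ε * ε) := by ring
  rw [this, h]
  ring⟩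

set_option maxRecDepth 1000000 in
/-- orders in `A₅` -/
theorem a5_orders (M : Type*) [Group M] (e : M ≃* alternatingGroup (Fin 5)) (g : M) :
    g * g = 1 ∨ g * g * g = 1 ∨ g * g * g * g * g = 1 := by
  have h : ∀ x : alternatingGroup (Fin 5), x * x = 1 ∨ x * x * x = 1 ∨ x * x * x * x * x = 1 := by (simp only [↓Cfsg.Agent.PermCode.M, Cfsg.Agent.PermCode.P5.R, Cfsg.Agent.PermCode.B]; decide +kernel)
  rcases h (e g) with h1 | h1 | h1
  · left
    apply e.injective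
    rw [map_mul, h1, map_one]
  · right; left
    apply e.injective
    rw [map_mul, map_mul, h1, map_one]
  · right; right
    apply e.injective
    rw [map_mul, map_mul, map_mul, map_mul, h1, map_one]

section

variable {F : Type*} [Field F]

/-- powers and the trace -/
theorem step {P y : SL2 F} {U V : F} (h0 : P 0 0 = U * y 0 0 - V) (h1 : P 0 1 = U * y 0 1) :
    (P * y) 0 0 = ((y 0 0 + y 1 1) * U - V) * y 0 0 - U ∧ (P * y) 0 1 = ((y 0 0 + y 1 1) * U - V) * y 0 1 := by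
  have hd := det2 y
  refine ⟨?_, ?_⟩
  · rw [mul00, h0, h1]
    linear_combination -U * hd
  · rw [mul01, h0, h1]
    ring

theorem trace_cases {y : SL2 F} (hb : y 0 1 ≠ 0)
    (h : mk y * mk y = 1 ∨ mk y * mk y * mk y = 1 ∨ mk y * mk y * mk y * mk y * mk y = 1) :
    y 0 0 + y 1 1 = 0 ∨ (y 0 0 + y 1 1) ^ 2 = 1 ∨ (y 0 0 + y 1 1) ^ 4 - 3 * (y 0 0 + y 1 1) ^ 2 + 1 = 0 := by
  have s1 : y 0 0 = 1 * y 0 0 - 0 ∧ y 0 1 = 1 * y 0 1 := ⟨by ring, by ring⟩
  have s2 := step s1.1 s1.2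
  have s3 := step s2.1 s2.2
  have s4 := step s3.1 s3.2
  have s5 := step s4.1 s4.2
  have hz : ∀ P : SL2 F, mk P = 1 → P 0 1 = 0 := by
    intro P hP
    rcases mk_eq_one.1 hP with h1 | h1
    · rw [h1, one01]
    · rw [h1, neg_ij, one01, neg_zero]
  rcases h with h | h | h
  · have h1 := hz (y * y) h
    rw [s2.2] at h1
    left
    linear_combination (mul_eq_zero.1 h1).resolve_right hb
  · have h1 := hz (y * y * y) h
    rw [s3.2] at h1
    right; left
    linear_combination (mul_eq_zero.1 h1).resolve_right hb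
  · have h1 := hz (y * y * y * y * y) h
    rw [s5.2] at h1
    right; right
    linear_combination (mul_eq_zero.1 h1).resolve_right hb

theorem mem_norm_of_inv {x : SL2 F} (h : mk x * mk x = 1)
    (hx : (x 0 0 = 0 ∧ x 1 1 = 0) ∨ (x 1 0 = 0 ∧ x 0 1 = 0)) :
    mk x ∈ Subgroup.normalizer (T0 F : Set (PSL2 F)) := by
  rcases hx with hx | hx
  · have hi : (mk x)⁻¹ = mk x := inv_eq_of_mul_eq_one_right h
    have key : ∀ g ∈ T0 F, (mk x)⁻¹ * g * mk x ∈ T0 F := by
      intro g hg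
      obtain ⟨a, rfl⟩ := mem_T0.1 hg
      rw [← mk_inv, ← mk_mul, ← mk_mul, mem_T0', conj_t10, conj_t01, hx.1, hx.2]
      exact ⟨by ring, by ring⟩
    rw [Subgroup.mem_normalizer_iff]
    intro g
    constructor
    · intro hg
      have h1 := key g hg
      rw [hi] at h1
      rw [hi]
      exact h1
    · intro hg
      have h1 := key _ hg
      have h2 : (mk x)⁻¹ * (mk x * g * (mk x)⁻¹) * mk x = g := by group
      rwa [h2] at h1
  · exact Subgroup.le_normalizer (mem_T0'.2 hx)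

theorem cond_of_mem_norm {x : SL2 F} {a : Fˣ} (ha : (a : F) ^ 2 ≠ 1)
    (hx : mk x ∈ Subgroup.normalizer (T0 F : Set (PSL2 F))) :
    (x 0 0 = 0 ∧ x 1 1 = 0) ∨ (x 1 0 = 0 ∧ x 0 1 = 0) := by
  by_contra hcon
  push Not at hcon
  have h1 := (Subgroup.mem_normalizer_iff'.1 hx ((mk x)⁻¹ * t a)).1
  have h2 : (mk x)⁻¹ * t a * mk x ∈ T0 F := by
    have h3 := inv_mem hx
    have h4 := (Subgroup.mem_normalizer_iff.1 h3 (t a)).1 (t_mem a)
    rwa [inv_inv] at h4
  have h5 := inter_triv (fun h => hcon.1 h.1 h.2) (fun h => hcon.2 h.1 h.2) h2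
  rw [t_eq_one] at h5
  exact ha h5

end

theorem card_T0_11 : 5 ≤ Nat.card (T0 (ZMod 11)) := by
  have h := card_T0 (F := ZMod 11)
  rw [Nat.card_zmod] at h
  omega

theorem a5_simple {M : Type*} [Group M] (e : M ≃* alternatingGroup (Fin 5)) : IsSimpleGroup M :=
  e.isSimpleGroup

theorem a5_card {M : Type*} [Group M] (e : M ≃* alternatingGroup (Fin 5)) : Nat.card M = 60 := by
  rw [Nat.card_congr e.toEquiv, Nat.card_eq_fintype_card]
  rfl

theorem eq_of_a5 {K M : Subgroup (PSL2 (ZMod 11))} (hK : T0 (ZMod 11) ≤ K) (hKM : K ≤ M)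
    (e : M ≃* alternatingGroup (Fin 5)) {x : SL2 (ZMod 11)} (hx : mk x ∈ K) (hx1 : ¬ (x 0 0 = 0 ∧ x 1 1 = 0))
    (hx2 : ¬ (x 1 0 = 0 ∧ x 0 1 = 0)) : K = M := by
  have hfin : Finite (PSL2 (ZMod 11)) := inferInstance
  have h1 := sq_le hK hx hx1 hx2
  have h2 : 5 * 5 ≤ Nat.card (T0 (ZMod 11)) * Nat.card (T0 (ZMod 11)) := Nat.mul_le_mul card_T0_11 card_T0_11
  have hcM := a5_card e
  have hcK : Nat.card (K.subgroupOf M) = Nat.card K := Nat.card_congr (Subgroup.subgroupOfEquivOfLe hKM).toEquiv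
  have hidx := Subgroup.card_mul_index (K.subgroupOf M)
  rw [hcK, hcM] at hidx
  have hsimp := a5_simple e
  have h3 : (K.subgroupOf M).index < 3 := by
    by_contra hcon
    have : 25 * 3 ≤ Nat.card K * (K.subgroupOf M).index := Nat.mul_le_mul (by omega) (by omega)
    omega
  interval_cases hi : (K.subgroupOf M).index
  · omega
  · rw [Subgroup.index_eq_one, Subgroup.subgroupOf_eq_top] at hi
    exact le_antisymm hKM hi
  · exfalso
    have hn : (K.subgroupOf M).Normal := Subgroup.normal_of_index_eq_two hi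
    rcases hn.eq_bot_or_eq_top with h4 | h4
    · rw [h4, Subgroup.card_bot] at hcK
      omega
    · rw [h4, Subgroup.index_top] at hi
      omega

/-- there is an involution outside the normaliser of the torus -/
theorem exists_inv {M : Subgroup (PSL2 (ZMod 11))} (e : M ≃* alternatingGroup (Fin 5))
    {x : SL2 (ZMod 11)} (hx : mk x ∈ M) (hx1 : ¬ (x 0 0 = 0 ∧ x 1 1 = 0))
    (hx2 : ¬ (x 1 0 = 0 ∧ x 0 1 = 0)) :
    ∃ y : SL2 (ZMod 11), mk y ∈ M ∧ mk y * mk y = 1 ∧ ¬ (y 0 0 = 0 ∧ y 1 1 = 0) ∧ ¬ (y 1 0 = 0 ∧ y 0 1 = 0) := by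
  have hfin : Finite (PSL2 (ZMod 11)) := inferInstance
  by_contra hcon
  push Not at hcon
  have ha : (v11 : ZMod 11) ^ 2 ≠ 1 := by decide
  have hsimp := a5_simple e
  have hcM := a5_card e
  let s : Set M := {m | m * m = 1}
  have hconj : Group.conjugatesOfSet s ⊆ s := by
    intro m hm
    obtain ⟨n, hn, hc⟩ := Group.mem_conjugatesOfSet_iff.1 hm
    obtain ⟨c, rfl⟩ := isConj_iff.1 hc
    change c * n * c⁻¹ * (c * n * c⁻¹) = 1
    have hn' : n * n = 1 := hn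
    calc c * n * c⁻¹ * (c * n * c⁻¹) = c * (n * n) * c⁻¹ := by group
      _ = 1 := by rw [hn']; group
  have hle : Subgroup.normalClosure s ≤ (Subgroup.normalizer (T0 (ZMod 11) : Set (PSL2 (ZMod 11)))).subgroupOf M := by
    change Subgroup.closure (Group.conjugatesOfSet s) ≤ _
    rw [Subgroup.closure_le]
    intro m hm
    have hm1 : m * m = 1 := hconj hm
    change (m : PSL2 (ZMod 11)) ∈ Subgroup.normalizer (T0 (ZMod 11) : Set (PSL2 (ZMod 11)))
    obtain ⟨y, hy⟩ := mk_surj (m : PSL2 (ZMod 11))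
    have hy1 : mk y * mk y = 1 := by
      rw [hy]
      exact Subtype.ext_iff.1 hm1
    rw [← hy]
    apply mem_norm_of_inv hy1
    by_contra h3
    push Not at h3
    have h4 := hcon y (hy ▸ m.2) hy1
    by_cases h5 : y 0 0 = 0 ∧ y 1 1 = 0
    · exact h3.1 h5.1 h5.2
    · have h6 := h4 (fun h7 h8 => h5 ⟨h7, h8⟩)
      by_cases h7 : y 1 0 = 0 ∧ y 0 1 = 0
      · exact h3.2 h7.1 h7.2
      · exact h7 ⟨h6.1, h6.2⟩
  have hnc : (Subgroup.normalClosure s).Normal := Subgroup.normalClosure_normal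
  rcases hnc.eq_bot_or_eq_top with h4 | h4
  · obtain ⟨m, hm⟩ := exists_prime_orderOf_dvd_card' (G := M) 2 (by rw [hcM]; norm_num)
    have h5 : m ∈ s := by
      change m * m = 1
      have h6 := pow_orderOf_eq_one m
      rw [hm, pow_two] at h6
      exact h6
    have h6 := Subgroup.subset_normalClosure h5
    rw [h4] at h6
    have h7 : m = 1 := Subgroup.mem_bot.1 h6
    rw [h7, orderOf_one] at hm
    exact absurd hm (by norm_num)
  · rw [h4] at hle
    have h5 : (⟨mk x, hx⟩ : M) ∈ (Subgroup.normalizer (T0 (ZMod 11) : Set (PSL2 (ZMod 11)))).subgroupOf M :=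
      hle (Subgroup.mem_top _)
    rcases cond_of_mem_norm ha (show mk x ∈ _ from h5) with h6 | h6
    · exact hx1 h6
    · exact hx2 h6

/-- **normal form** -/
theorem exists_zeta {M : Subgroup (PSL2 (ZMod 11))} (hT : T0 (ZMod 11) ≤ M) (e : M ≃* alternatingGroup (Fin 5))
    {x : SL2 (ZMod 11)} (hx : mk x ∈ M) (hx1 : ¬ (x 0 0 = 0 ∧ x 1 1 = 0))
    (hx2 : ¬ (x 1 0 = 0 ∧ x 0 1 = 0)) :
    ∃ a ε : ZMod 11, ∃ h : ε * ε = 1, (a = 1 ∨ a = 3) ∧ (ε = 1 ∨ ε = -1) ∧ mk (ζ11 a ε h) ∈ M := by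
  obtain ⟨y, hy, hy2, hy3, hy4⟩ := exists_inv e hx hx1 hx2
  have hne : mk y ≠ 1 := by
    intro h
    rcases mk_eq_one.1 h with h | h
    · exact hy4 ⟨by rw [h, one10], by rw [h, one01]⟩
    · exact hy4 ⟨by rw [h, neg_ij, one10, neg_zero], by rw [h, neg_ij, one01, neg_zero]⟩
  have htr := tr_zero (by decide : (2 : ZMod 11) ≠ 0) hy2 hne
  have hd := det2 y
  rw [htr] at hd
  have ha0 : y 0 0 ≠ 0 := fun h => hy3 ⟨h, by rw [htr, h, neg_zero]⟩
  have hb0 : y 0 1 ≠ 0 := by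
    intro h
    rw [h] at hd
    have key : ∀ a : ZMod 11, a * -a - 0 ≠ 1 := by decide
    rw [zero_mul] at hd
    exact key _ hd
  have htrace : ∀ s : (ZMod 11)ˣ, ((s : ZMod 11) * y 0 0 + ((s⁻¹ : (ZMod 11)ˣ) : ZMod 11) * -y 0 0 = 0 ∨
      ((s : ZMod 11) * y 0 0 + ((s⁻¹ : (ZMod 11)ˣ) : ZMod 11) * -y 0 0) ^ 2 = 1 ∨
      ((s : ZMod 11) * y 0 0 + ((s⁻¹ : (ZMod 11)ˣ) : ZMod 11) * -y 0 0) ^ 4 -
        3 * ((s : ZMod 11) * y 0 0 + ((s⁻¹ : (ZMod 11)ˣ) : ZMod 11) * -y 0 0) ^ 2 + 1 = 0) := by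
    intro s
    have hg : mk (tS s * y) ∈ M := M.mul_mem (hT (t_mem s)) hy
    have e00 : (tS s * y) 0 0 = (s : ZMod 11) * y 0 0 := by
      rw [mul00]; simp only [tS00, tS01]; ring
    have e01 : (tS s * y) 0 1 = (s : ZMod 11) * y 0 1 := by
      rw [mul01]; simp only [tS00, tS01]; ring
    have e11 : (tS s * y) 1 1 = ((s⁻¹ : (ZMod 11)ˣ) : ZMod 11) * -y 0 0 := by
      rw [mul11, htr]; simp only [tS10, tS11]; ring
    have h1 := trace_cases (y := tS s * y) (by rw [e01]; exact mul_ne_zero s.ne_zero hb0) (by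
      have h2 := a5_orders M e ⟨_, hg⟩
      simp only [Subtype.ext_iff] at h2
      exact h2)
    rw [e00, e11] at h1
    exact h1
  -- the value of `a`
  have hval : y 0 0 = 1 ∨ y 0 0 = -1 ∨ y 0 0 = 3 ∨ y 0 0 = -3 := by
    have h1 := htrace ⟨3, 4, by decide, by decide⟩
    have h2 := htrace ⟨2, 6, by decide, by decide⟩
    change ((3 : ZMod 11) * y 0 0 + (4 : ZMod 11) * -y 0 0 = 0 ∨
      ((3 : ZMod 11) * y 0 0 + (4 : ZMod 11) * -y 0 0) ^ 2 = 1 ∨
      ((3 : ZMod 11) * y 0 0 + (4 : ZMod 11) * -y 0 0) ^ 4 -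
        3 * ((3 : ZMod 11) * y 0 0 + (4 : ZMod 11) * -y 0 0) ^ 2 + 1 = 0) at h1
    change ((2 : ZMod 11) * y 0 0 + (6 : ZMod 11) * -y 0 0 = 0 ∨
      ((2 : ZMod 11) * y 0 0 + (6 : ZMod 11) * -y 0 0) ^ 2 = 1 ∨
      ((2 : ZMod 11) * y 0 0 + (6 : ZMod 11) * -y 0 0) ^ 4 -
        3 * ((2 : ZMod 11) * y 0 0 + (6 : ZMod 11) * -y 0 0) ^ 2 + 1 = 0) at h2
    have key : ∀ a : ZMod 11, a ≠ 0 → (3 * a + 4 * -a = 0 ∨ (3 * a + 4 * -a) ^ 2 = 1 ∨
        (3 * a + 4 * -a) ^ 4 - 3 * (3 * a + 4 * -a) ^ 2 + 1 = 0) →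
        (2 * a + 6 * -a = 0 ∨ (2 * a + 6 * -a) ^ 2 = 1 ∨
        (2 * a + 6 * -a) ^ 4 - 3 * (2 * a + 6 * -a) ^ 2 + 1 = 0) →
        a = 1 ∨ a = -1 ∨ a = 3 ∨ a = -3 := by decide
    exact key _ ha0 h1 h2
  -- reduce to `a = 1, 3`
  have main : ∀ z : SL2 (ZMod 11), mk z ∈ M → z 1 1 = - z 0 0 → z 0 1 ≠ 0 → (z 0 0 = 1 ∨ z 0 0 = 3) →
      ∃ a ε : ZMod 11, ∃ h : ε * ε = 1, (a = 1 ∨ a = 3) ∧ (ε = 1 ∨ ε = -1) ∧ mk (ζ11 a ε h) ∈ M := by
    intro z hz hz1 hz2 hz3
    have hdz := det2 z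
    rw [hz1] at hdz
    have key : ∀ b : ZMod 11, b ≠ 0 → ∃ s : ZMod 11, s ≠ 0 ∧ (b = s ^ 2 * 1 ∨ b = s ^ 2 * -1) := by decide
    obtain ⟨s, hs, hcase⟩ := key _ hz2
    obtain ⟨ε, hε, hε', hb⟩ : ∃ ε : ZMod 11, ε * ε = 1 ∧ (ε = 1 ∨ ε = -1) ∧ z 0 1 = s ^ 2 * ε := by
      rcases hcase with h | h
      · exact ⟨1, by decide, Or.inl rfl, h⟩
      · exact ⟨-1, by decide, Or.inr rfl, h⟩
    refine ⟨z 0 0, ε, hε, hz3, hε', ?_⟩
    let sU : (ZMod 11)ˣ := Units.mk0 s hs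
    have hsv : (sU : ZMod 11) = s := rfl
    have hsi : (sU : ZMod 11) * ((sU⁻¹ : (ZMod 11)ˣ) : ZMod 11) = 1 := Units.mul_inv sU
    have heq : tS sU * ζ11 (z 0 0) ε hε * (tS sU)⁻¹ = z := by
      obtain ⟨a1, a2, a3, a4⟩ := conj_tS sU (ζ11 (z 0 0) ε hε)
      have c0 : (ζ11 (z 0 0) ε hε) 0 0 = z 0 0 := rfl
      have c1 : (ζ11 (z 0 0) ε hε) 0 1 = ε := rfl
      have c2 : (ζ11 (z 0 0) ε hε) 1 0 = -(1 + z 0 0 * z 0 0) * ε := rfl
      have c3 : (ζ11 (z 0 0) ε hε) 1 1 = -z 0 0 := rfl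
      apply ext2
      · rw [a1, c0]
      · rw [a2, c1, hb, hsv]
      · rw [a3, c2]
        have hc : z 1 0 * (s ^ 2 * ε) = -(1 + z 0 0 * z 0 0) := by
          rw [← hb]
          linear_combination -hdz
        rw [hsv] at hsi
        generalize ((sU⁻¹ : (ZMod 11)ˣ) : ZMod 11) = si at hsi
        rw [← hc]
        linear_combination (z 1 0 * s ^ 2 * si ^ 2) * hε + z 1 0 * (s * si + 1) * hsi
      · rw [a4, c3, hz1]
    have h1 : mk (ζ11 (z 0 0) ε hε) = (t sU)⁻¹ * mk z * t sU := by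
      have h2 : mk z = t sU * mk (ζ11 (z 0 0) ε hε) * (t sU)⁻¹ := by
        conv_lhs => rw [← heq]
        rfl
      rw [h2]; group
    rw [h1]
    exact M.mul_mem (M.mul_mem (M.inv_mem (hT (t_mem sU))) hz) (hT (t_mem sU))
  rcases hval with h | h | h | h
  · exact main y hy htr hb0 (Or.inl h)
  · refine main (-y) (by rw [mk_neg]; exact hy) (by rw [neg_ij, neg_ij, htr]) ?_ (Or.inl (by rw [neg_ij, h, neg_neg]))
    rw [neg_ij]; exact neg_ne_zero.2 hb0
  · exact main y hy htr hb0 (Or.inr h)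
  · refine main (-y) (by rw [mk_neg]; exact hy) (by rw [neg_ij, neg_ij, htr]) ?_ (Or.inr (by rw [neg_ij, h, neg_neg]))
    rw [neg_ij]; exact neg_ne_zero.2 hb0

/-- the candidates -/
def Z11 (n : PSL2 (ZMod 11)) : Subgroup (PSL2 (ZMod 11)) := T0 (ZMod 11) ⊔ Subgroup.zpowers n

/-- **`q = 11`** -/
theorem hyp_eleven : (data (ZMod 11) 11).Hyp := by
  classical
  have ha : (v11 : ZMod 11) ^ 2 ≠ 1 := by decide
  refine ⟨hcomm 11 ha, fun h => absurd h (by norm_num), fun h => absurd h (by norm_num), ?_⟩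
  have hcard : Nat.card (ZMod 11) = 11 := by rw [Nat.card_zmod]
  let Z0 : Finset (Subgroup (PSL2 (ZMod 11))) := {Z11 (mk (ζ11 1 1 (by decide))), Z11 (mk (ζ11 1 (-1) (by decide))),
    Z11 (mk (ζ11 3 1 (by decide))), Z11 (mk (ζ11 3 (-1) (by decide)))}
  refine hov2 11 v11_gen (by decide) (Z0.filter (fun Z => Z ≠ ⊥ ∧ Z ≠ ⊤)) ?_ ?_ ?_
  · have h1 := Finset.card_filter_le Z0 (fun Z => Z ≠ ⊥ ∧ Z ≠ ⊤)
    have h2 : Z0.card ≤ 4 := Finset.card_le_four
    omega
  · intro Z hZ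
    exact (Finset.mem_filter.1 hZ).2
  · rintro K M hK hKM hM ⟨x, hx, hx1, hx2⟩
    have hq : Fintype.card (ZMod 11) = 11 := ZMod.card 11
    have hd := Cfsg.Agent.S5892.result (F := ZMod 11) 11 (by rw [hq]; decide) (by rw [hq]; norm_num) M hM
    rw [hq] at hd
    have h25 : 25 ≤ Nat.card M := by
      have h1 := sq_le (hK.trans hKM) (hKM hx) hx1 hx2
      have h2 : 5 * 5 ≤ Nat.card (T0 (ZMod 11)) * Nat.card (T0 (ZMod 11)) := Nat.mul_le_mul card_T0_11 card_T0_11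
      omega
    rcases hd with hd | ⟨h1, -⟩ | ⟨-, -, k, hk, ⟨e⟩⟩ | ⟨F₀, i1, i2, hF, -⟩ |
      ⟨F₀, i1, i2, r, hr, hro, hF, -⟩ | ⟨-, -, ⟨e⟩⟩ | ⟨-, -, -, ⟨e⟩⟩ | ⟨-, -, ⟨e⟩⟩
    · left
      rw [hcard]
      omega
    · omega
    · exfalso
      have h3 : Nat.card M = 2 * k := by
        rw [Nat.card_congr e.toEquiv, DihedralGroup.nat_card]
      omega
    · exfalso
      have h2 : (Fintype.card F₀ ^ 2).Prime := by rw [← hF]; norm_num
      exact Nat.Prime.not_prime_pow le_rfl h2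
    · exfalso
      have h2 : (Fintype.card F₀ ^ r).Prime := by rw [← hF]; norm_num
      exact Nat.Prime.not_prime_pow hr.two_le h2
    · right
      have hKM' : K = M := eq_of_a5 hK hKM e hx hx1 hx2
      subst hKM'
      obtain ⟨a, ε, h, ha', hε', hm⟩ := exists_zeta hK e hx hx1 hx2
      have hZK : Z11 (mk (ζ11 a ε h)) = K := by
        have hle : Z11 (mk (ζ11 a ε h)) ≤ K := sup_le hK (by rw [Subgroup.zpowers_le]; exact hm)
        refine eq_of_a5 (x := ζ11 a ε h) le_sup_left hle e ?_ ?_ ?_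
        · exact Subgroup.mem_sup_right (Subgroup.mem_zpowers _)
        · rintro ⟨h1, -⟩
          have h2 : a = 0 := h1
          rcases ha' with h3 | h3
          · rw [h3] at h2; exact absurd h2 (by decide)
          · rw [h3] at h2; exact absurd h2 (by decide)
        · rintro ⟨-, h1⟩
          have h2 : ε = 0 := h1
          rcases hε' with h3 | h3
          · rw [h3] at h2; exact absurd h2 (by decide)
          · rw [h3] at h2; exact absurd h2 (by decide)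
      refine ⟨Z11 (mk (ζ11 a ε h)), Finset.mem_filter.2 ⟨?_, ?_, ?_⟩, ?_⟩
      · rcases ha' with rfl | rfl <;> rcases hε' with rfl | rfl
        · exact Finset.mem_insert_self _ _
        · exact Finset.mem_insert_of_mem (Finset.mem_insert_self _ _)
        · exact Finset.mem_insert_of_mem (Finset.mem_insert_of_mem (Finset.mem_insert_self _ _))
        · exact Finset.mem_insert_of_mem (Finset.mem_insert_of_mem (Finset.mem_insert_of_mem
            (Finset.mem_singleton_self _)))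
      · intro h1
        apply T0_ne_bot ha
        rw [eq_bot_iff, ← h1]
        exact le_sup_left
      · rw [hZK]
        exact hM.1
      · rw [hZK]
        exact fun φ hφ => hφ
    · exfalso
      have h3 : Nat.card M = 12 := by
        rw [Nat.card_congr e.toEquiv, Nat.card_eq_fintype_card]
        rfl
      omega
    · exfalso
      have h3 : Nat.card M = 24 := by
        rw [Nat.card_congr e.toEquiv, Nat.card_eq_fintype_card]
        rfl
      omega

end Cfsg.Agent.H375.EPR.LTwo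
end

-- part: H375/EPR/LTwoAll
section
/-!
# `PSL₂(q)`, `q ≥ 7`, `q ≠ 9` : rank one data and hypotheses (helper375)
-/

set_option autoImplicit false

namespace Cfsg.Agent.H375.EPR.LTwo

open Matrix Cfsg.Agent.H284 Cfsg.Agent.H470.EPO

/-- `|F| = r` prime : the characteristic is `r` -/
theorem char_of_card {p r : ℕ} [Fact p.Prime] (hr : r.Prime) {F : Type*} [Field F] [Fintype F] [CharP F p]
    (h : Fintype.card F = r) : p = r := by
  obtain ⟨n, -, hn⟩ := FiniteField.card F p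
  rw [h] at hn
  have h1 : p ∣ r := by
    rw [hn]
    exact dvd_pow_self p n.ne_zero
  exact (Nat.prime_dvd_prime_iff_eq Fact.out hr).1 h1

/-- **`PSL₂(q)`, `q ≥ 7`, `q ≠ 9`** -/
theorem r1_psl {p : ℕ} [Fact p.Prime] {F : Type} [Field F] [Fintype F] [CharP F p] (h7 : 7 ≤ Fintype.card F)
    (h9 : Fintype.card F ≠ 9) {T : Type*} [Group T] (e : T ≃* Matrix.ProjectiveSpecialLinearGroup (Fin 2) F) :
    ∃ D : R1 p T, D.Hyp := by
  obtain ⟨n, hp, hn⟩ := FiniteField.card F p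
  have hc : Nat.card F = Fintype.card F := Nat.card_eq_fintype_card
  by_cases hp2 : p = 2
  · subst hp2
    have h8 : 8 ≤ Nat.card F := by
      rw [hc]
      by_contra hcon
      have h1 : Fintype.card F = 7 := by omega
      have h2 : 2 ∣ Fintype.card F := by
        rw [hn]
        exact dvd_pow_self 2 n.ne_zero
      omega
    exact R1.exists_ofEquiv e ⟨data F 2, hyp_even F h8⟩
  · have hodd : Odd (Fintype.card F) := by
      rw [hn]
      exact ((Fact.out : p.Prime).odd_of_ne_two hp2).pow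
    by_cases h13 : 13 ≤ Fintype.card F
    · exact R1.exists_ofEquiv e ⟨data F p, hyp_odd F p hp2 (by rw [hc]; exact h13)⟩
    · have h711 : Fintype.card F = 7 ∨ Fintype.card F = 11 := by
        obtain ⟨k, hk⟩ := hodd
        omega
      rcases h711 with h | h
      · have hp7 := char_of_card (p := p) (by norm_num : Nat.Prime 7) h
        subst hp7
        obtain ⟨e'⟩ := H363.PslCard.psl_of_card (n := Fin 2) (F := F) (F' := ZMod 7) (by rw [h, ZMod.card])
        exact R1.exists_ofEquiv (e.trans e') ⟨data (ZMod 7) 7, hyp_seven⟩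
      · have hp11 := char_of_card (p := p) (by norm_num : Nat.Prime 11) h
        subst hp11
        obtain ⟨e'⟩ := H363.PslCard.psl_of_card (n := Fin 2) (F := F) (F' := ZMod 11) (by rw [h, ZMod.card])
        exact R1.exists_ofEquiv (e.trans e') ⟨data (ZMod 11) 11, hyp_eleven⟩

end Cfsg.Agent.H375.EPR.LTwo
end

-- part: H247/EPF/HasL
section
/-!
# `7 : 3` in groups over the field with two elements (helper247)

`Has73 T` : an element `x` of order `7` and `g` with `g x g⁻¹ = x ^ 2`. `HasL T` : a homomorphism from `SL₃(2)` to `T`, nontrivial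
on the elements of order `7`.
-/

set_option autoImplicit false
set_option linter.unusedSectionVars false

namespace Cfsg.Agent.H247.EPF

open Matrix

abbrev L3 := Matrix.SpecialLinearGroup (Fin 3) (ZMod 2)

def x0 : L3 := ⟨!![0, 0, 1; 1, 0, 1; 0, 1, 0], by decide⟩
def g0 : L3 := ⟨!![1, 0, 0; 0, 0, 1; 0, 1, 1], by decide⟩

theorem x0_seven : x0 ^ 7 = 1 := by decide
theorem g0_x0 : g0 * x0 = x0 ^ 2 * g0 := by decide

/-- an element of order `7` which is conjugate to its square -/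
def Has73 (T : Type*) [Group T] : Prop := ∃ x g : T, x ≠ 1 ∧ x ^ 7 = 1 ∧ g * x * g⁻¹ = x ^ 2

/-- a nontrivial image of `SL₃(2)` -/
def HasL (T : Type*) [Group T] : Prop := ∃ f : L3 →* T, f x0 ≠ 1

theorem HasL.has {T : Type*} [Group T] (h : HasL T) : Has73 T := by
  obtain ⟨f, hf⟩ := h
  refine ⟨f x0, f g0, hf, by rw [← map_pow, x0_seven, map_one], ?_⟩
  rw [← map_mul, g0_x0, map_mul, mul_inv_cancel_right, map_pow]

theorem Has73.map {T S : Type*} [Group T] [Group S] (h : Has73 T) (f : T →* S) (hf : Function.Injective f) :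
    Has73 S := by
  obtain ⟨x, g, h1, h2, h3⟩ := h
  refine ⟨f x, f g, fun hc => h1 (hf (hc.trans f.map_one.symm)), by rw [← map_pow, h2, map_one], ?_⟩
  rw [← map_inv, ← map_mul, ← map_mul, h3, map_pow]

theorem HasL.map {T S : Type*} [Group T] [Group S] (h : HasL T) (f : T →* S) (hf : Function.Injective f) :
    HasL S := by
  obtain ⟨j, h1⟩ := h
  exact ⟨f.comp j, fun hc => h1 (hf (hc.trans f.map_one.symm))⟩

/-- quotients by the centre -/
theorem Has73.quot {T : Type*} [Group T] (h : Has73 T) : Has73 (T ⧸ Subgroup.center T) := by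
  obtain ⟨x, g, h1, h2, h3⟩ := h
  refine ⟨QuotientGroup.mk x, QuotientGroup.mk g, ?_, ?_, ?_⟩
  · intro hc
    rw [QuotientGroup.eq_one_iff, Subgroup.mem_center_iff] at hc
    apply h1
    have h4 : g * x * g⁻¹ = x := by rw [hc g, mul_inv_cancel_right]
    rw [h4, pow_two] at h3
    exact (mul_eq_left.1 h3.symm)
  · rw [← QuotientGroup.mk_pow, h2]; rfl
  · rw [← QuotientGroup.mk_mul, ← QuotientGroup.mk_inv, ← QuotientGroup.mk_mul, h3]; rfl

/-- `g₀` is a commutator -/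
theorem g0_comm : ∃ a b : L3, g0 = a * b * a⁻¹ * b⁻¹ :=
  ⟨⟨!![1, 0, 0; 0, 0, 1; 0, 1, 0], by decide⟩, g0, by decide⟩

theorem HasL.comm {T : Type*} [Group T] (h : HasL T) : Has73 (commutator T) := by
  obtain ⟨f, hf⟩ := h
  obtain ⟨a, b, hab⟩ := g0_comm
  have hg : f g0 ∈ commutator T := by
    rw [hab, map_mul, map_mul, map_mul, map_inv, map_inv]
    exact Subgroup.commutator_mem_commutator (Subgroup.mem_top _) (Subgroup.mem_top _)
  have h2 : f g0 * f x0 * (f g0)⁻¹ = f x0 ^ 2 := by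
    rw [← map_mul, g0_x0, map_mul, mul_inv_cancel_right, map_pow]
  have hx : f x0 ∈ commutator T := by
    have h3 : f x0 = f g0 * f x0 * (f g0)⁻¹ * (f x0)⁻¹ := by
      rw [h2, pow_two, mul_inv_cancel_right]
    rw [h3]
    exact Subgroup.commutator_mem_commutator (Subgroup.mem_top _) (Subgroup.mem_top _)
  refine ⟨⟨f x0, hx⟩, ⟨f g0, hg⟩, fun hc => hf (congrArg Subtype.val hc), Subtype.ext ?_, Subtype.ext h2⟩
  show f x0 ^ 7 = 1
  rw [← map_pow, x0_seven, map_one]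

end Cfsg.Agent.H247.EPF
end

-- part: H247/EPF/Classical
section
/-!
# `7 : 3` in the classical groups over the field with two elements (helper247)
-/

set_option autoImplicit false
set_option linter.unusedSectionVars false

namespace Cfsg.Agent.H247.EPF

open Matrix

section SLn

variable {F : Type*} [Field F] (ι : ZMod 2 →+* F)

/-- the block embedding -/
def blk (k : ℕ) : L3 →* Matrix.SpecialLinearGroup (Fin (3 + k)) F where
  toFun A := ⟨Matrix.reindex finSumFinEquiv finSumFinEquiv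
    (fromBlocks ((A : Matrix (Fin 3) (Fin 3) (ZMod 2)).map ι) 0 0 (1 : Matrix (Fin k) (Fin k) F)), by
      rw [Matrix.det_reindex_self, Matrix.det_fromBlocks_zero₂₁, Matrix.det_one, mul_one]
      have h := RingHom.map_det ι (A : Matrix (Fin 3) (Fin 3) (ZMod 2))
      rw [A.2, map_one] at h
      exact h.symm⟩
  map_one' := by
    apply Subtype.ext
    show Matrix.reindex _ _ (fromBlocks ((1 : Matrix (Fin 3) (Fin 3) (ZMod 2)).map ι) 0 0 1) = 1
    rw [Matrix.map_one ι (map_zero ι) (map_one ι), fromBlocks_one]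
    exact Matrix.submatrix_one_equiv _
  map_mul' A B := by
    apply Subtype.ext
    show Matrix.reindex _ _ (fromBlocks (((A : Matrix (Fin 3) (Fin 3) (ZMod 2)) * (B : Matrix (Fin 3) (Fin 3) (ZMod 2))).map ι)
      0 0 1) = Matrix.reindex _ _ (fromBlocks ((A : Matrix (Fin 3) (Fin 3) (ZMod 2)).map ι) 0 0 1) *
        Matrix.reindex _ _ (fromBlocks ((B : Matrix (Fin 3) (Fin 3) (ZMod 2)).map ι) 0 0 1)
    rw [Matrix.reindex_apply, Matrix.reindex_apply, Matrix.reindex_apply, Matrix.submatrix_mul_equiv,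
      fromBlocks_multiply, Matrix.map_mul]
    simp

theorem blk_ne (k : ℕ) : blk ι k x0 ≠ 1 := by
  intro h
  have h1 := congrArg Subtype.val h
  have h2 : Matrix.reindex finSumFinEquiv finSumFinEquiv
    (fromBlocks ((x0 : Matrix (Fin 3) (Fin 3) (ZMod 2)).map ι) 0 0 (1 : Matrix (Fin k) (Fin k) F)) =
      (1 : Matrix (Fin (3 + k)) (Fin (3 + k)) F) := h1
  have h3 := congrFun (congrFun h2 (finSumFinEquiv (Sum.inl 0))) (finSumFinEquiv (Sum.inl 0))
  rw [Matrix.reindex_apply, Matrix.submatrix_apply, Equiv.symm_apply_apply, fromBlocks_apply₁₁, Matrix.one_apply_eq,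
    Matrix.map_apply] at h3
  have h4 : (x0 : Matrix (Fin 3) (Fin 3) (ZMod 2)) 0 0 = 0 := rfl
  rw [h4, map_zero] at h3
  exact zero_ne_one h3

include ι in
theorem hasL_SL {n : ℕ} (hn : 3 ≤ n) : HasL (Matrix.SpecialLinearGroup (Fin n) F) := by
  obtain ⟨k, rfl⟩ := Nat.exists_eq_add_of_le hn
  exact ⟨blk ι k, blk_ne ι k⟩

end SLn

section Double

variable {F : Type*} [Field F] {m : ℕ}

/-- `B ↦ diag (B, B⁻ᵀ)` -/
def dbl (B : Matrix.SpecialLinearGroup (Fin m) F) : Matrix (Fin m ⊕ Fin m) (Fin m ⊕ Fin m) F :=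
  fromBlocks (B : Matrix (Fin m) (Fin m) F) 0 0 ((B⁻¹ : Matrix.SpecialLinearGroup (Fin m) F) : Matrix (Fin m) (Fin m) F)ᵀ

theorem dbl_one : dbl (1 : Matrix.SpecialLinearGroup (Fin m) F) = 1 := by
  rw [dbl, inv_one, Matrix.SpecialLinearGroup.coe_one, Matrix.transpose_one, fromBlocks_one]

theorem dbl_mul (A B : Matrix.SpecialLinearGroup (Fin m) F) : dbl (A * B) = dbl A * dbl B := by
  rw [dbl, dbl, dbl, fromBlocks_multiply, _root_.mul_inv_rev, Matrix.SpecialLinearGroup.coe_mul,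
    Matrix.SpecialLinearGroup.coe_mul, Matrix.transpose_mul]
  simp

theorem dbl_inj {A : Matrix.SpecialLinearGroup (Fin m) F} (h : dbl A = 1) : A = 1 := by
  apply Subtype.ext
  rw [dbl, ← fromBlocks_one, fromBlocks_inj] at h
  exact h.1

theorem coe_mul_inv (B : Matrix.SpecialLinearGroup (Fin m) F) :
    (B : Matrix (Fin m) (Fin m) F) * ((B⁻¹ : Matrix.SpecialLinearGroup (Fin m) F) : Matrix (Fin m) (Fin m) F) = 1 := by
  rw [← Matrix.SpecialLinearGroup.coe_mul, mul_inv_cancel, Matrix.SpecialLinearGroup.coe_one]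

theorem coe_inv_mul (B : Matrix.SpecialLinearGroup (Fin m) F) :
    ((B⁻¹ : Matrix.SpecialLinearGroup (Fin m) F) : Matrix (Fin m) (Fin m) F) * (B : Matrix (Fin m) (Fin m) F) = 1 := by
  rw [← Matrix.SpecialLinearGroup.coe_mul, inv_mul_cancel, Matrix.SpecialLinearGroup.coe_one]

theorem dbl_mem (B : Matrix.SpecialLinearGroup (Fin m) F) : dbl B ∈ Matrix.symplecticGroup (Fin m) F := by
  rw [SymplecticGroup.mem_iff, dbl, Matrix.J, fromBlocks_transpose, fromBlocks_multiply, fromBlocks_multiply]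
  simp only [Matrix.transpose_zero, Matrix.transpose_transpose, Matrix.mul_zero, Matrix.zero_mul, add_zero, zero_add,
    Matrix.mul_one, Matrix.mul_neg, Matrix.neg_mul]
  congr 1
  · rw [coe_mul_inv]
  · rw [← Matrix.transpose_mul, coe_mul_inv, Matrix.transpose_one]
  · exact neg_zero

/-- `SL_m → Sp_{2m}` -/
def toSp : Matrix.SpecialLinearGroup (Fin m) F →* Matrix.symplecticGroup (Fin m) F where
  toFun B := ⟨dbl B, dbl_mem B⟩
  map_one' := Subtype.ext dbl_one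
  map_mul' A B := Subtype.ext (dbl_mul A B)

theorem toSp_inj : Function.Injective (toSp (F := F) (m := m)) := by
  rw [injective_iff_map_eq_one]
  intro A hA
  exact dbl_inj (congrArg Subtype.val hA)

/-- `SL_m → GL_{2m}` -/
def dblU : Matrix.SpecialLinearGroup (Fin m) F →* Matrix.GeneralLinearGroup (Fin m ⊕ Fin m) F where
  toFun B := ⟨dbl B, dbl B⁻¹, by rw [← dbl_mul, mul_inv_cancel, dbl_one], by rw [← dbl_mul, inv_mul_cancel, dbl_one]⟩
  map_one' := Units.ext dbl_one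
  map_mul' A B := Units.ext (dbl_mul A B)

theorem dbl_form (B : Matrix.SpecialLinearGroup (Fin m) F) (u : Fin m ⊕ Fin m → F) :
    ∑ i : Fin m, (dbl B *ᵥ u) (.inl i) * (dbl B *ᵥ u) (.inr i) = ∑ i : Fin m, u (.inl i) * u (.inr i) := by
  have h1 : dbl B *ᵥ u = Sum.elim ((B : Matrix (Fin m) (Fin m) F) *ᵥ (u ∘ Sum.inl))
      (((B⁻¹ : Matrix.SpecialLinearGroup (Fin m) F) : Matrix (Fin m) (Fin m) F)ᵀ *ᵥ (u ∘ Sum.inr)) := by
    rw [dbl, Matrix.fromBlocks_mulVec, Matrix.zero_mulVec, Matrix.zero_mulVec, add_zero, zero_add]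
  rw [h1]
  show ((B : Matrix (Fin m) (Fin m) F) *ᵥ (u ∘ Sum.inl)) ⬝ᵥ
    (((B⁻¹ : Matrix.SpecialLinearGroup (Fin m) F) : Matrix (Fin m) (Fin m) F)ᵀ *ᵥ (u ∘ Sum.inr)) = (u ∘ Sum.inl) ⬝ᵥ (u ∘ Sum.inr)
  rw [Matrix.mulVec_transpose, dotProduct_comm, ← Matrix.dotProduct_mulVec, Matrix.mulVec_mulVec, coe_inv_mul,
    Matrix.one_mulVec, dotProduct_comm]

theorem dblU_mem (B : Matrix.SpecialLinearGroup (Fin m) F) : dblU B ∈ isometryGroup F (quadFormPlus m F) := by
  intro u _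
  exact dbl_form B u

/-- `SL_m → O⁺_{2m}` -/
def toOp : Matrix.SpecialLinearGroup (Fin m) F →* isometryGroup F (quadFormPlus m F) :=
  dblU.codRestrict _ dblU_mem

theorem toOp_inj : Function.Injective (toOp (F := F) (m := m)) := by
  rw [injective_iff_map_eq_one]
  intro A hA
  exact dbl_inj (congrArg (fun x => ((x.1 : Matrix.GeneralLinearGroup (Fin m ⊕ Fin m) F) :
    Matrix (Fin m ⊕ Fin m) (Fin m ⊕ Fin m) F)) hA)

/-- `B ↦ diag (B, B⁻ᵀ, 1)` -/
def trp (B : Matrix.SpecialLinearGroup (Fin m) F) : Matrix ((Fin m ⊕ Fin m) ⊕ Fin 2) ((Fin m ⊕ Fin m) ⊕ Fin 2) F :=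
  fromBlocks (dbl B) 0 0 1

theorem trp_one : trp (1 : Matrix.SpecialLinearGroup (Fin m) F) = 1 := by
  rw [trp, dbl_one, fromBlocks_one]

theorem trp_mul (A B : Matrix.SpecialLinearGroup (Fin m) F) : trp (A * B) = trp A * trp B := by
  rw [trp, trp, trp, fromBlocks_multiply, dbl_mul]
  simp

theorem trp_inj {A : Matrix.SpecialLinearGroup (Fin m) F} (h : trp A = 1) : A = 1 := by
  rw [trp, ← fromBlocks_one, fromBlocks_inj] at h
  exact dbl_inj h.1

/-- `SL_m → GL_{2m+2}` -/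
def trpU : Matrix.SpecialLinearGroup (Fin m) F →* Matrix.GeneralLinearGroup ((Fin m ⊕ Fin m) ⊕ Fin 2) F where
  toFun B := ⟨trp B, trp B⁻¹, by rw [← trp_mul, mul_inv_cancel, trp_one], by rw [← trp_mul, inv_mul_cancel, trp_one]⟩
  map_one' := Units.ext trp_one
  map_mul' A B := Units.ext (trp_mul A B)

theorem trpU_mem (a b : F) (B : Matrix.SpecialLinearGroup (Fin m) F) :
    trpU B ∈ isometryGroup F (quadFormMinus m F a b) := by
  intro u _
  have h1 : trp B *ᵥ u = Sum.elim (dbl B *ᵥ (u ∘ Sum.inl)) (u ∘ Sum.inr) := by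
    rw [trp, Matrix.fromBlocks_mulVec, Matrix.zero_mulVec, Matrix.zero_mulVec, add_zero, zero_add, Matrix.one_mulVec]
  show quadFormMinus m F a b (trp B *ᵥ u) = quadFormMinus m F a b u
  rw [h1]
  have h2 := dbl_form B (u ∘ Sum.inl)
  simp only [quadFormMinus, Sum.elim_inl, Sum.elim_inr, Function.comp_apply] at h2 ⊢
  rw [h2]

/-- `SL_m → O⁻_{2m+2}` -/
def toOm (a b : F) : Matrix.SpecialLinearGroup (Fin m) F →* isometryGroup F (quadFormMinus m F a b) :=
  trpU.codRestrict _ (trpU_mem a b)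

theorem toOm_inj (a b : F) : Function.Injective (toOm (F := F) (m := m) a b) := by
  rw [injective_iff_map_eq_one]
  intro A hA
  exact trp_inj (congrArg (fun x => ((x.1 : Matrix.GeneralLinearGroup ((Fin m ⊕ Fin m) ⊕ Fin 2) F) :
    Matrix ((Fin m ⊕ Fin m) ⊕ Fin 2) ((Fin m ⊕ Fin m) ⊕ Fin 2) F)) hA)

end Double

section Rows

variable {F : Type*} [Field F] (ι : ZMod 2 →+* F)

include ι

theorem has_psl {n : ℕ} (hn : 3 ≤ n) : Has73 (Matrix.ProjectiveSpecialLinearGroup (Fin n) F) :=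
  (hasL_SL ι hn).has.quot

theorem has_psp {m : ℕ} (hm : 3 ≤ m) : Has73 (PSp m F) :=
  ((hasL_SL ι hm).map toSp toSp_inj).has.quot

theorem has_plus {m : ℕ} (hm : 3 ≤ m) : Has73 (POmega F (quadFormPlus m F)) :=
  ((hasL_SL ι hm).map toOp toOp_inj).comm.quot

theorem has_minus {m : ℕ} (hm : 3 ≤ m) (a b : F) : Has73 (POmega F (quadFormMinus m F a b)) :=
  ((hasL_SL ι hm).map (toOm a b) (toOm_inj a b)).comm.quot

end Rows

end Cfsg.Agent.H247.EPF
end

-- part: H247/EPF/Unitary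
section
/-!
# `7 : 3` in `PSU_{2m}(2)`, `m ≥ 3` (helper247)
-/

set_option autoImplicit false
set_option linter.unusedSectionVars false

namespace Cfsg.Agent.H247.EPF

open Matrix

section SUn

variable {F : Type*} [Field F] (ι : ZMod 2 →+* F) (σ : F →+* F) (w : F) (hw : w ^ 2 + w + 1 = 0)
  (hσ : ∀ x, σ x = x ^ 2)

/-- the base change -/
def PP (w : F) : Matrix (Fin 3 ⊕ Fin 3) (Fin 3 ⊕ Fin 3) F := fromBlocks 1 (w • 1) 1 (w ^ 2 • 1)

/-- its inverse -/
def QQ (w : F) : Matrix (Fin 3 ⊕ Fin 3) (Fin 3 ⊕ Fin 3) F := fromBlocks (w ^ 2 • 1) (w • 1) 1 1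

include hw in
theorem two_eq (h2 : (2 : F) = 0) : w ^ 2 = w + 1 ∧ w ^ 3 = 1 := by
  constructor
  · linear_combination hw - (w + 1) * h2
  · linear_combination (w - 1) * hw

include hw in
theorem QP (h2 : (2 : F) = 0) : QQ w * PP w = 1 := by
  obtain ⟨h3, h4⟩ := two_eq w hw h2
  rw [QQ, PP, fromBlocks_multiply, ← fromBlocks_one]
  simp only [Matrix.smul_mul, Matrix.one_mul, Matrix.mul_one, smul_smul, ← add_smul]
  congr 1
  · conv_rhs => rw [← one_smul F (1 : Matrix (Fin 3) (Fin 3) F)]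
    congr 1
    linear_combination h3 + w * h2
  · conv_rhs => rw [← zero_smul F (1 : Matrix (Fin 3) (Fin 3) F)]
    congr 1
    linear_combination w ^ 3 * h2
  · conv_rhs => rw [← zero_smul F (1 : Matrix (Fin 3) (Fin 3) F)]
    rw [← two_smul F (1 : Matrix (Fin 3) (Fin 3) F)]
    congr 1
  · conv_rhs => rw [← one_smul F (1 : Matrix (Fin 3) (Fin 3) F)]
    congr 1
    linear_combination h3 + w * h2

include hw in
theorem PQ (h2 : (2 : F) = 0) : PP w * QQ w = 1 := mul_eq_one_comm.1 (QP w hw h2)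

/-- the block matrix -/
def Dm (A : L3) : Matrix (Fin 3 ⊕ Fin 3) (Fin 3 ⊕ Fin 3) F := dbl (Matrix.SpecialLinearGroup.map ι A)

/-- the conjugated block matrix -/
def Wm (A : L3) : Matrix (Fin 3 ⊕ Fin 3) (Fin 3 ⊕ Fin 3) F := PP w * Dm ι A * QQ w

theorem Dm_one : Dm ι (1 : L3) = (1 : Matrix (Fin 3 ⊕ Fin 3) (Fin 3 ⊕ Fin 3) F) := by
  rw [Dm, map_one, dbl_one]

theorem Dm_mul (A B : L3) : Dm ι (A * B) = Dm ι A * Dm ι B := by
  rw [Dm, map_mul, dbl_mul]; rfl

include hw in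
theorem Wm_one (h2 : (2 : F) = 0) : Wm ι w (1 : L3) = 1 := by
  rw [Wm, Dm_one, Matrix.mul_one, PQ w hw h2]

include hw in
theorem Wm_mul (h2 : (2 : F) = 0) (A B : L3) : Wm ι w (A * B) = Wm ι w A * Wm ι w B := by
  rw [Wm, Wm, Wm, Dm_mul]
  calc PP w * (Dm ι A * Dm ι B) * QQ w = PP w * Dm ι A * 1 * Dm ι B * QQ w := by
        rw [Matrix.mul_one]; simp only [Matrix.mul_assoc]
    _ = PP w * Dm ι A * (QQ w * PP w) * Dm ι B * QQ w := by rw [QP w hw h2]
    _ = _ := by simp only [Matrix.mul_assoc]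

theorem Dm_det (A : L3) : (Dm ι A).det = 1 := by
  rw [Dm, dbl, Matrix.det_fromBlocks_zero₂₁, Matrix.det_transpose, Matrix.SpecialLinearGroup.det_coe,
    Matrix.SpecialLinearGroup.det_coe, mul_one]

include hw in
theorem Wm_det (h2 : (2 : F) = 0) (A : L3) : (Wm ι w A).det = 1 := by
  rw [Wm, Matrix.det_mul, Matrix.det_mul, Dm_det, mul_one, ← Matrix.det_mul, PQ w hw h2, Matrix.det_one]

include hσ in
theorem ι_fix (a : ZMod 2) : σ (ι a) = ι a := by
  rw [hσ, ← map_pow]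
  congr 1
  revert a
  decide

include hσ in
theorem Dm_map (A : L3) : (Dm ι A).map σ = Dm ι A := by
  rw [Dm, dbl, fromBlocks_map]
  have h1 : ∀ B : L3, ((Matrix.SpecialLinearGroup.map ι B : Matrix.SpecialLinearGroup (Fin 3) F) :
      Matrix (Fin 3) (Fin 3) F).map σ = ((Matrix.SpecialLinearGroup.map ι B : Matrix.SpecialLinearGroup (Fin 3) F) :
      Matrix (Fin 3) (Fin 3) F) := by
    intro B
    ext i j
    exact ι_fix ι σ hσ _
  rw [h1, Matrix.transpose_map, ← map_inv, h1, Matrix.map_zero _ (map_zero σ)]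

/-- the hyperbolic form -/
def JJ : Matrix (Fin 3 ⊕ Fin 3) (Fin 3 ⊕ Fin 3) F := fromBlocks 0 1 1 0

include hw hσ in
theorem PP_form (h2 : (2 : F) = 0) : (PP w)ᵀ * (PP w).map σ = JJ := by
  obtain ⟨h3, h4⟩ := two_eq w hw h2
  have e1 : (1 : Matrix (Fin 3) (Fin 3) F).map σ = 1 := Matrix.map_one σ (map_zero σ) (map_one σ)
  have e2 : ∀ a : F, (a • (1 : Matrix (Fin 3) (Fin 3) F)).map σ = (a ^ 2) • (1 : Matrix (Fin 3) (Fin 3) F) := by
    intro a
    ext i j
    rw [Matrix.map_apply, Matrix.smul_apply, Matrix.smul_apply, smul_eq_mul, smul_eq_mul, map_mul, hσ a]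
    congr 1
    exact congrFun (congrFun e1 i) j
  rw [PP, JJ, fromBlocks_transpose, fromBlocks_map, fromBlocks_multiply, e1, e2, e2]
  simp only [Matrix.transpose_smul, Matrix.transpose_one, Matrix.smul_mul, Matrix.one_mul, Matrix.mul_one, smul_smul,
    ← add_smul]
  congr 1
  · rw [← two_smul F (1 : Matrix (Fin 3) (Fin 3) F), h2, zero_smul]
  · conv_rhs => rw [← one_smul F (1 : Matrix (Fin 3) (Fin 3) F)]
    congr 1
    linear_combination h3 + w * h4 + w * h2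
  · conv_rhs => rw [← one_smul F (1 : Matrix (Fin 3) (Fin 3) F)]
    congr 1
    linear_combination h3 + w * h2
  · conv_rhs => rw [← zero_smul F (1 : Matrix (Fin 3) (Fin 3) F)]
    congr 1
    linear_combination (w ^ 3 + 1) * h4 + h4 + h2

theorem Dm_form (A : L3) : (Dm ι A)ᵀ * JJ * Dm ι A = (JJ : Matrix (Fin 3 ⊕ Fin 3) (Fin 3 ⊕ Fin 3) F) := by
  rw [Dm, dbl, JJ, fromBlocks_transpose, fromBlocks_multiply, fromBlocks_multiply]
  simp only [Matrix.transpose_zero, Matrix.transpose_transpose, Matrix.mul_zero, Matrix.zero_mul, add_zero, zero_add,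
    Matrix.mul_one]
  congr 1
  · rw [← Matrix.transpose_mul, coe_inv_mul, Matrix.transpose_one]
  · rw [coe_inv_mul]

include hw hσ in
theorem Wm_form (h2 : (2 : F) = 0) (A : L3) : (Wm ι w A)ᵀ * (Wm ι w A).map σ = 1 := by
  have h1 : (PP w * QQ w)ᵀ * (PP w * QQ w).map σ = 1 := by
    rw [PQ w hw h2, Matrix.transpose_one, Matrix.map_one σ (map_zero σ) (map_one σ), Matrix.mul_one]
  rw [Matrix.transpose_mul, Matrix.map_mul] at h1
  rw [Wm, Matrix.transpose_mul, Matrix.transpose_mul, Matrix.map_mul, Matrix.map_mul, Dm_map ι σ hσ]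
  calc (QQ w)ᵀ * ((Dm ι A)ᵀ * (PP w)ᵀ) * ((PP w).map σ * Dm ι A * (QQ w).map σ)
      = (QQ w)ᵀ * ((Dm ι A)ᵀ * ((PP w)ᵀ * (PP w).map σ) * Dm ι A) * (QQ w).map σ := by simp only [Matrix.mul_assoc]
    _ = (QQ w)ᵀ * ((PP w)ᵀ * (PP w).map σ) * (QQ w).map σ := by rw [PP_form σ w hw hσ h2, Dm_form]
    _ = 1 := by rw [← h1]; simp only [Matrix.mul_assoc]

/-- the index set -/
def eu (k : ℕ) : (Fin 3 ⊕ Fin 3) ⊕ Fin k ≃ Fin (3 + 3 + k) :=
  (Equiv.sumCongr finSumFinEquiv (Equiv.refl _)).trans finSumFinEquiv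

/-- the matrices in `SL_{6 + k}` -/
def blW (h2 : (2 : F) = 0) (k : ℕ) : L3 →* Matrix.SpecialLinearGroup (Fin (3 + 3 + k)) F where
  toFun A := ⟨Matrix.reindex (eu k) (eu k) (fromBlocks (Wm ι w A) 0 0 (1 : Matrix (Fin k) (Fin k) F)), by
      rw [Matrix.det_reindex_self, Matrix.det_fromBlocks_zero₂₁, Matrix.det_one, mul_one, Wm_det ι w hw h2]⟩
  map_one' := by
    apply Subtype.ext
    show Matrix.reindex _ _ (fromBlocks (Wm ι w 1) 0 0 1) = 1
    rw [Wm_one ι w hw h2, fromBlocks_one]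
    exact Matrix.submatrix_one_equiv _
  map_mul' A B := by
    apply Subtype.ext
    show Matrix.reindex _ _ (fromBlocks (Wm ι w (A * B)) 0 0 1) =
      Matrix.reindex _ _ (fromBlocks (Wm ι w A) 0 0 1) * Matrix.reindex _ _ (fromBlocks (Wm ι w B) 0 0 1)
    rw [Matrix.reindex_apply, Matrix.reindex_apply, Matrix.reindex_apply, Matrix.submatrix_mul_equiv,
      fromBlocks_multiply, Wm_mul ι w hw h2]
    simp

include hσ in
theorem blW_mem (h2 : (2 : F) = 0) (k : ℕ) (A : L3) : blW ι w hw h2 k A ∈ SU (3 + 3 + k) F 2 := by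
  rw [Cfsg.Agent.H155.Unit.mem_SU_iff_matrix σ hσ]
  show (Matrix.reindex (eu k) (eu k) (fromBlocks (Wm ι w A) 0 0 (1 : Matrix (Fin k) (Fin k) F)))ᵀ *
    (Matrix.reindex (eu k) (eu k) (fromBlocks (Wm ι w A) 0 0 (1 : Matrix (Fin k) (Fin k) F))).map σ = 1
  have e1 : (1 : Matrix (Fin k) (Fin k) F).map σ = 1 := Matrix.map_one σ (map_zero σ) (map_one σ)
  rw [Matrix.reindex_apply, Matrix.transpose_submatrix, ← Matrix.submatrix_map, Matrix.submatrix_mul_equiv,
    fromBlocks_transpose, fromBlocks_map, fromBlocks_multiply, e1, Matrix.map_zero _ (map_zero σ),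
    Wm_form ι σ w hw hσ h2]
  simp

theorem blW_ne (h2 : (2 : F) = 0) (k : ℕ) : blW ι w hw h2 k x0 ≠ 1 := by
  intro h
  have h1 : Matrix.reindex (eu k) (eu k) (fromBlocks (Wm ι w x0) 0 0 (1 : Matrix (Fin k) (Fin k) F)) = 1 :=
    congrArg Subtype.val h
  have h3 : fromBlocks (Wm ι w x0) 0 0 (1 : Matrix (Fin k) (Fin k) F) = 1 := by
    apply (Matrix.reindex (eu k) (eu k)).injective
    rw [h1]
    exact (Matrix.submatrix_one_equiv _).symm
  rw [← fromBlocks_one, fromBlocks_inj] at h3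
  have h4 : Dm ι x0 = 1 := by
    have h5 : QQ w * Wm ι w x0 * PP w = 1 := by rw [h3.1, Matrix.mul_one, QP w hw h2]
    rw [← h5, Wm]
    calc Dm ι x0 = 1 * Dm ι x0 * 1 := by rw [Matrix.mul_one, Matrix.one_mul]
      _ = (QQ w * PP w) * Dm ι x0 * (QQ w * PP w) := by rw [QP w hw h2]
      _ = _ := by simp only [Matrix.mul_assoc]
  have h5 := dbl_inj h4
  have h6 := congrFun (congrFun (congrArg Subtype.val h5) 0) 0
  have h7 : ι ((x0 : Matrix (Fin 3) (Fin 3) (ZMod 2)) 0 0) = 1 := h6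
  have h8 : (x0 : Matrix (Fin 3) (Fin 3) (ZMod 2)) 0 0 = 0 := rfl
  rw [h8, map_zero] at h7
  exact zero_ne_one h7

include ι hw hσ in
theorem has_psu (h2 : (2 : F) = 0) {m : ℕ} (hm : 3 ≤ m) : Has73 (PSU (2 * m) F 2) := by
  obtain ⟨k, rfl⟩ := Nat.exists_eq_add_of_le hm
  have e : 2 * (3 + k) = 3 + 3 + 2 * k := by ring
  rw [e]
  have h : HasL (SU (3 + 3 + 2 * k) F 2) :=
    ⟨(blW ι w hw h2 (2 * k)).codRestrict _ (blW_mem ι σ w hw hσ h2 _), fun hc =>
      blW_ne ι w hw h2 _ (congrArg Subtype.val hc)⟩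
  exact h.has.quot

end SUn

end Cfsg.Agent.H247.EPF
end

-- part: H247/EPF/OverTwo
section
/-!
# The groups over the field with two elements: `7 : 3`, or `17` divides the order, or `U₄(2)` (helper247)
-/

set_option autoImplicit false
set_option linter.unusedSectionVars false

namespace Cfsg.Agent.H247.EPF

open Cfsg.Lie Cfsg.Agent.H542.EPX

/-- the prime field -/
theorem exists_iota {F : Type*} [Field F] [Finite F] (h : 2 ∣ Nat.card F) : (2 : F) = 0 ∧ Nonempty (ZMod 2 →+* F) := by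
  obtain ⟨p, hp⟩ := CharP.exists F
  have hpp : p.Prime := CharP.char_is_prime F p
  have : Fact p.Prime := ⟨hpp⟩
  let _ : Fintype F := Fintype.ofFinite F
  obtain ⟨n, -, hn⟩ := FiniteField.card F p
  rw [Nat.card_eq_fintype_card, hn] at h
  have h2 := (Nat.prime_dvd_prime_iff_eq Nat.prime_two hpp).1 (Nat.prime_two.dvd_of_dvd_pow h)
  subst h2
  refine ⟨?_, ⟨ZMod.castHom (dvd_refl 2) F⟩⟩
  exact_mod_cast CharP.cast_eq_zero F 2

/-- a primitive cube root of unity -/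
theorem exists_omega {F : Type*} [Field F] [Fintype F] (hF : Fintype.card F = 4) : ∃ w : F, w ^ 2 + w + 1 = 0 := by
  classical
  have h1 : ∃ w : F, w ≠ 0 ∧ w ≠ 1 := by
    by_contra hcon
    push Not at hcon
    have h2 : (Finset.univ : Finset F) ⊆ {0, 1} := by
      intro x _
      rw [Finset.mem_insert, Finset.mem_singleton]
      by_cases hx : x = 0
      · exact Or.inl hx
      · exact Or.inr (hcon x hx)
    have h3 := Finset.card_le_card h2
    rw [Finset.card_univ, hF] at h3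
    have h4 := Finset.card_le_two (a := (0 : F)) (b := 1)
    omega
  obtain ⟨w, h0, h1⟩ := h1
  refine ⟨w, ?_⟩
  have h2 : w ^ 3 = 1 := by
    have := FiniteField.pow_card_sub_one_eq_one w h0
    rwa [hF] at this
  have h3 : (w - 1) * (w ^ 2 + w + 1) = 0 := by linear_combination h2
  exact (mul_eq_zero.1 h3).resolve_left (sub_ne_zero.2 h1)

theorem over_two {T : Type} [Group T] (h : OverTwo T) : Has73 T ∨ 17 ∣ Nat.card T ∨
    ∃ (F : Type) (_ : Field F) (_ : Fintype F), Fintype.card F = 4 ∧ Nonempty (T ≃* PSU 4 F 2) := by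
  have mp : ∀ {S : Type} [Group S], T ≃* S → Has73 S → Has73 T := fun e h => h.map e.symm.toMonoidHom e.symm.injective
  rcases h with h | h | h | h | h | h | h | h
  · obtain ⟨F, _, _, n, hF, hn, ⟨e⟩⟩ := h
    obtain ⟨h2, ⟨ι⟩⟩ := exists_iota (F := F) (by rw [Nat.card_eq_fintype_card, hF])
    exact Or.inl (mp e (has_psl ι hn))
  · obtain ⟨F, _, _, m, hF, hm, ⟨e⟩⟩ := h
    obtain ⟨h2, ⟨ι⟩⟩ := exists_iota (F := F) (by rw [Nat.card_eq_fintype_card, hF])
    exact Or.inl (mp e (has_psp ι hm))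
  · obtain ⟨F, _, _, m, hF, hm, ⟨e⟩⟩ := h
    rcases (by omega : m = 2 ∨ 3 ≤ m) with rfl | h3
    · exact Or.inr (Or.inr ⟨F, inferInstance, inferInstance, hF, ⟨e⟩⟩)
    obtain ⟨h2, ⟨ι⟩⟩ := exists_iota (F := F) (by rw [Nat.card_eq_fintype_card, hF]; norm_num)
    obtain ⟨w, hw⟩ := exists_omega hF
    have : CharP F 2 := CharTwo.of_one_ne_zero_of_two_eq_zero one_ne_zero h2
    exact Or.inl (mp e (has_psu ι (frobenius F 2) w hw (fun x => frobenius_def 2 x) h2 h3))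
  · obtain ⟨F, _, _, m, hF, hm, ⟨e⟩⟩ := h
    obtain ⟨h2, ⟨ι⟩⟩ := exists_iota (F := F) (by rw [Nat.card_eq_fintype_card, hF])
    exact Or.inl (mp e (has_plus ι (by omega)))
  · obtain ⟨F, _, _, m, a, b, hF, hm, -, ⟨e⟩⟩ := h
    obtain ⟨h2, ⟨ι⟩⟩ := exists_iota (F := F) (by rw [Nat.card_eq_fintype_card, hF])
    exact Or.inl (mp e (has_minus ι (by omega) a b))
  · obtain ⟨F, _, _, hF, h⟩ := h
    refine Or.inr (Or.inl ?_)
    rcases h with ⟨⟨e⟩⟩ | ⟨⟨e⟩⟩ | ⟨⟨e⟩⟩ | ⟨⟨e⟩⟩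
    · rw [Nat.card_congr e.toEquiv, Cfsg.Agent.S1062.result hF]
      exact Dvd.dvd.mul_right (Dvd.dvd.mul_left (by norm_num) _) _
    · have h1 := Cfsg.Agent.S1063.result hF
      rw [← Nat.card_congr e.toEquiv] at h1
      norm_num at h1
      rw [h1]
      norm_num
    · have h1 := Cfsg.Agent.S1064.result hF
      rw [← Nat.card_congr e.toEquiv] at h1
      norm_num at h1
      rw [h1]
      norm_num
    · rw [Nat.card_congr e.toEquiv, Cfsg.Agent.S1065.result hF]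
      norm_num
  · obtain ⟨K, _, _, hK, ⟨e⟩⟩ := h
    refine Or.inr (Or.inl ?_)
    have h1 := Cfsg.Agent.S1066.result (K := K) (q := 2) Nat.prime_two.isPrimePow (by rw [hK]; norm_num)
    rw [← Nat.card_congr e.toEquiv] at h1
    norm_num at h1
    omega
  · obtain ⟨K, _, _, hK, ⟨e⟩⟩ := h
    obtain ⟨k, f, hk, hf⟩ := Cfsg.Agent.H564.TD.exists_g2 (K := K) (q := 2) Nat.prime_two.isPrimePow (by rw [hK]; norm_num)
    have hfin : Finite k := inferInstance
    let _ : Fintype k := Fintype.ofFinite k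
    obtain ⟨g, hg⟩ := Cfsg.Agent.H963.PQR.exists_sl3 (F := k)
    obtain ⟨h2, ⟨ι⟩⟩ := exists_iota (F := k) (by rw [hk])
    exact Or.inl (mp e (((hasL_SL ι le_rfl).map (f.comp g) (hf.comp hg)).has))

end Cfsg.Agent.H247.EPF
end

-- part: H371/EPF/No73
section
/-!
# S5745, `²F₄(q)`: fusion in the torus, no subgroup `7 : 3` (helper371)

* `fus_T` : two elements of the torus which are conjugate in `G` are conjugate under the Weyl group;
* `pow_eight` : `n ^ 8` centralises the torus;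
* `no_fus` : an element of prime order `p ∣ q - 1` is not conjugate to `x ^ i` if `i ^ 8 ≢ 1`;
* `no73` : in `²F₄(q)`, `q ≥ 8`, no element of order `7` is conjugate to its square.
-/

set_option autoImplicit false
set_option linter.unusedSectionVars false

namespace Cfsg.Agent.H371.EPF

open Cfsg.Agent.KFacts.TwF4 Cfsg.Agent.KFacts.TwF4.Full
open Cfsg.Agent.SplitTwo Cfsg.Agent.SplitTwo.ZS Cfsg.Agent.TitsThree.RankTwoZ
open Cfsg.Agent.SplitTwo.RootSysZ Subgroup Cfsg.Lie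

universe u

variable {F : Type*} [Field F] {σ : F →+* F} {G : Type u} [Group G] (S : Full σ G)

section

variable [Finite F] [Finite G] (hF : ∃ c : Fˣ, c ≠ 1) (hR : S.R.p = 2)

include hF hR

/-- a 2-element of `B` lies in `U` -/
theorem mem_U_of {x : G} (hx : x ∈ J S.XZ 1 8 ⊔ S.T) (h2 : IsPGroup 2 (zpowers x)) : x ∈ J S.XZ 1 8 := by
  have hfact : Fact (Nat.Prime 2) := ⟨Nat.prime_two⟩
  have h3 : Subgroup.zpowers x ≤ normalizer (J S.XZ 1 8 : Set G) := by
    rw [Subgroup.zpowers_le, H424.EPX.norm_U' S hF hR]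
    exact hx
  have h4 : IsPGroup 2 (J S.XZ 1 8 ⊔ Subgroup.zpowers x : Subgroup G) := by
    rw [sup_comm]
    exact h2.to_sup_of_normal_right' (H424.EPX.U_two S hF hR) h3
  have h5 := H424.EPX.U_max' S hF hR le_sup_left h4
  rw [← h5]
  exact (le_sup_right : Subgroup.zpowers x ≤ _) (Subgroup.mem_zpowers x)

/-- **fusion in the torus** -/
theorem fus_T {t t' g : G} (ht : t ∈ S.T) (ht' : t' ∈ S.T) (h : g * t * g⁻¹ = t') :
    ∃ n w, w ∈ S.T ∧ S.IsDihE (w⁻¹ * n) ∧ n * t * n⁻¹ = t' := by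
  obtain ⟨b, hb, t0, ht0, w, hw, b', hb', rfl⟩ := S.bruhatE g
  refine ⟨t0 * w, t0, ht0, by rwa [inv_mul_cancel_left], ?_⟩
  set n := t0 * w with hn
  have hnT : n * t * n⁻¹ ∈ S.T := by
    obtain ⟨c, hc⟩ := hw
    have key : ∀ f : ZMod (2 * 8) → ZMod (2 * 8), (∀ k, f (f k) = k ∨ True) → Maps S.R.X w f →
        Maps S.R.X n f := by
      intro f _ hf
      exact (Maps.mul (S.T_iff.1 ht0) hf).congr fun _ => rfl
    rcases hc with hc | hc
    · have h1 := key _ (fun _ => Or.inr trivial) hc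
      have h2 : Maps S.R.X n⁻¹ (fun k => ((2 * -c : ℤ) : ZMod (2 * 8)) + k) := h1.inv fun k => by push_cast; ring
      refine S.T_iff.2 (((h1.mul (S.T_iff.1 ht)).mul h2).congr fun k => ?_)
      simp only [id, Function.comp]
      push_cast
      ring
    · have h1 := key _ (fun _ => Or.inr trivial) hc
      have h2 : Maps S.R.X n⁻¹ (fun k => ((2 * c : ℤ) : ZMod (2 * 8)) - k) := h1.inv fun k => by push_cast; ring
      refine S.T_iff.2 (((h1.mul (S.T_iff.1 ht)).mul h2).congr fun k => ?_)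
      simp only [id, Function.comp]
      ring
  have e0 : b * t0 * w * b' = b * n * b' := by rw [hn]; group
  rw [e0] at h
  -- `β t' = n v n⁻¹ (n t n⁻¹)`
  have e1 : n * (b' * (t * b'⁻¹ * t⁻¹)) * n⁻¹ = (b⁻¹ * (t' * b * t'⁻¹)) * (t' * (n * t * n⁻¹)⁻¹) := by
    have h1 : b * n * b' * t * (b * n * b')⁻¹ = t' := h
    have h2 : n * b' * t * b'⁻¹ * n⁻¹ = b⁻¹ * t' * b := by rw [← h1]; group
    have h3 : n * (b' * (t * b'⁻¹ * t⁻¹)) * n⁻¹ = (n * b' * t * b'⁻¹ * n⁻¹) * (n * t * n⁻¹)⁻¹ := by group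
    rw [h3, h2]; group
  have hv : b' * (t * b'⁻¹ * t⁻¹) ∈ J S.XZ 1 8 := mul_mem hb' (S.T_conj_J ht (inv_mem hb'))
  have hβ : b⁻¹ * (t' * b * t'⁻¹) ∈ J S.XZ 1 8 := mul_mem (inv_mem hb) (S.T_conj_J ht' hb)
  have hs : t' * (n * t * n⁻¹)⁻¹ ∈ S.T := mul_mem ht' (inv_mem hnT)
  have h2 : IsPGroup 2 (zpowers (n * (b' * (t * b'⁻¹ * t⁻¹)) * n⁻¹)) := by
    have h3 : IsPGroup 2 ((J S.XZ 1 8).map (MulAut.conj n).toMonoidHom) := (H424.EPX.U_two S hF hR).map _
    refine h3.to_le ?_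
    rw [zpowers_le]
    exact ⟨_, hv, rfl⟩
  have h3 := mem_U_of S hF hR (x := n * (b' * (t * b'⁻¹ * t⁻¹)) * n⁻¹)
    (by rw [e1]; exact mul_mem (mem_sup_left hβ) (mem_sup_right hs)) h2
  have h4 : t' * (n * t * n⁻¹)⁻¹ ∈ J S.XZ 1 8 := by
    have e2 : t' * (n * t * n⁻¹)⁻¹ = (b⁻¹ * (t' * b * t'⁻¹))⁻¹ * (n * (b' * (t * b'⁻¹ * t⁻¹)) * n⁻¹) := by
      rw [e1]; group
    rw [e2]
    exact mul_mem (inv_mem hβ) h3
  have h5 := S.U_inf_T hs h4
  exact (mul_inv_eq_one.1 h5).symm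

end

/-- `n ^ 8` is in the torus -/
theorem pow_eight {n w : G} (hw : w ∈ S.T) (hn : S.IsDihE (w⁻¹ * n)) : n ^ 8 ∈ S.T := by
  obtain ⟨c, hc⟩ := hn
  have key : ∀ f : ZMod (2 * 8) → ZMod (2 * 8), Maps S.R.X (w⁻¹ * n) f → Maps S.R.X n f := by
    intro f hf
    have h1 := (Maps.mul (S.T_iff.1 hw) hf).congr (g := f) fun _ => rfl
    rwa [mul_inv_cancel_left] at h1
  rcases hc with hc | hc
  · have h1 := key _ hc
    have h2 := h1.mul h1
    have h4 := h2.mul h2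
    have h8 := h4.mul h4
    have e : n ^ 8 = n * n * (n * n) * (n * n * (n * n)) := by
      rw [show (8 : ℕ) = 2 * 2 * 2 by norm_num, pow_mul, pow_mul, pow_two n, pow_two (n * n), pow_two]
    rw [e]
    refine S.T_iff.2 (h8.congr fun k => ?_)
    have h16 : (16 : ZMod (2 * 8)) = 0 := by decide
    simp only [id, Function.comp]
    push_cast
    linear_combination (c : ZMod (2 * 8)) * h16
  · have h1 := key _ hc
    have h2 := h1.mul h1
    have h3 : n * n ∈ S.T := S.T_iff.2 (h2.congr fun k => by simp only [id, Function.comp]; ring)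
    have e : n ^ 8 = (n * n) ^ 4 := by rw [show (8 : ℕ) = 2 * 4 by norm_num, pow_mul, pow_two]
    rw [e]
    exact pow_mem h3 4

section

variable [Finite F] [Finite G] (hF : ∃ c : Fˣ, c ≠ 1) (hR : S.R.p = 2)

include hF hR

/-- a torus element of order `p` is conjugate to `t ^ i` only if `i ^ 8 ≡ 1` modulo `p` -/
theorem pow_of_fus {t g : G} (ht : t ∈ S.T) {i : ℕ} (h : g * t * g⁻¹ = t ^ i) : t ^ i ^ 8 = t := by
  obtain ⟨n, w, hw, hn, h1⟩ := fus_T S hF hR ht (pow_mem ht i) h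
  have h8 := pow_eight S hw hn
  have key : ∀ k : ℕ, n ^ k * t * (n ^ k)⁻¹ = t ^ i ^ k := by
    intro k
    induction k with
    | zero => simp
    | succ k ih =>
      have e : n ^ (k + 1) * t * (n ^ (k + 1))⁻¹ = n * (n ^ k * t * (n ^ k)⁻¹) * n⁻¹ := by
        rw [pow_succ' n k, mul_inv_rev]; group
      rw [e, ih, ← conj_pow, h1, ← pow_mul, pow_succ' i k]
  have h2 := key 8
  rw [← h2, S.T_comm h8 ht, mul_inv_cancel_right]

end

/-- **In `²F₄(q)`, `q ≥ 8`, no element of order seven is conjugate to its square.** -/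
theorem no73 {K : Type u} [Field K] [Fintype K] {m : ℕ} (hm : 1 ≤ m) (hK : Fintype.card K = 2 ^ (2 * m + 1))
    (x g : ↥(twistedF4 K (2 ^ m))) (hx : orderOf x = 7) : g * x * g⁻¹ ≠ x ^ 2 := by
  intro hg
  obtain ⟨φ, hφ⟩ := Cfsg.Agent.ChevalleyStructure.TwF4.TwistedFix.exists_rln hK
  have := Cfsg.Agent.ChevalleyStructure.TwF4.Twisted.charP_two hK
  have hfin : Finite ↥(twistedF4 K (2 ^ m)) := inferInstance
  have hFc : Nat.card K = 2 ^ (2 * m + 1) := by rw [Nat.card_eq_fintype_card, hK]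
  have h8 : 8 ≤ Nat.card K := by
    rw [hFc]
    calc 8 = 2 ^ 3 := by norm_num
      _ ≤ _ := Nat.pow_le_pow_right (by norm_num) (by omega)
  obtain ⟨S, hR⟩ : ∃ S : Full φ ↥(twistedF4 K (2 ^ m)), S.R.p = 2 := ⟨Cfsg.Agent.KFacts.TwF4.Inst.full hK hφ, rfl⟩
  have hcard : Nat.card ↥(twistedF4 K (2 ^ m)) = Nat.card K ^ 12 * (Nat.card K - 1) * (Nat.card K ^ 3 + 1) *
      (Nat.card K ^ 4 - 1) * (Nat.card K ^ 6 + 1) := by
    rw [hFc]; exact Cfsg.Agent.S1068.result hK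
  have h7 : 7 ∣ Nat.card K - 1 := by
    have h1 : 7 ∣ Nat.card ↥(twistedF4 K (2 ^ m)) := hx ▸ orderOf_dvd_natCard x
    have h2 : (Nat.card K : ZMod 7) = 1 ∨ (Nat.card K : ZMod 7) = 2 ∨ (Nat.card K : ZMod 7) = 4 := by
      rw [hFc]
      push_cast
      have h3 : (2 : ZMod 7) ^ 3 = 1 := by decide
      have h4 : (2 : ZMod 7) ^ (2 * m + 1) = 2 ^ ((2 * m + 1) % 3) := by
        conv_lhs => rw [← Nat.div_add_mod (2 * m + 1) 3, pow_add, pow_mul, h3, one_pow, one_mul]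
      rw [h4]
      have h5 := Nat.mod_lt (2 * m + 1) (show 3 > 0 by norm_num)
      generalize (2 * m + 1) % 3 = r at h5 ⊢
      interval_cases r <;> decide
    have hq1 : 1 ≤ Nat.card K := by omega
    have hq4 : 1 ≤ Nat.card K ^ 4 := Nat.one_le_pow _ _ (by omega)
    rw [hcard, ← ZMod.natCast_eq_zero_iff] at h1
    rw [← ZMod.natCast_eq_zero_iff, Nat.cast_sub hq1]
    push_cast [Nat.cast_sub hq1, Nat.cast_sub hq4] at h1 ⊢
    rcases h2 with h2 | h2 | h2
    · rw [h2]; decide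
    · rw [h2] at h1
      exact absurd h1 (by decide)
    · rw [h2] at h1
      exact absurd h1 (by decide)
  have hF : ∃ c : Kˣ, c ≠ 1 := by
    have h1 : 1 < Nat.card Kˣ := by
      rw [Nat.card_units]
      omega
    have h2 : Nontrivial Kˣ := Finite.one_lt_card_iff_nontrivial.1 h1
    exact exists_ne 1
  obtain ⟨c, hc⟩ := H448.TwFC.exists_conj_T S (by omega) hcard (by norm_num : Nat.Prime 7) (by norm_num) h7 hx
  have h1 : (c⁻¹ * g * c) * (c⁻¹ * x * c) * (c⁻¹ * g * c)⁻¹ = (c⁻¹ * x * c) ^ 2 := by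
    have e : (c⁻¹ * g * c) * (c⁻¹ * x * c) * (c⁻¹ * g * c)⁻¹ = c⁻¹ * (g * x * g⁻¹) * c := by group
    rw [e, hg, pow_two, pow_two]; group
  have h2 := pow_of_fus S hF hR hc h1
  have ho : orderOf (c⁻¹ * x * c) = 7 := by
    rw [← hx]
    have := (MulAut.conj c⁻¹).orderOf_eq x
    simpa using this
  have h3 : (c⁻¹ * x * c) ^ 7 = 1 := by rw [← ho]; exact pow_orderOf_eq_one _
  have h4 : (c⁻¹ * x * c) ^ 3 = 1 := by
    have e : (c⁻¹ * x * c) ^ 2 ^ 8 = (c⁻¹ * x * c) * (c⁻¹ * x * c) ^ 3 := by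
      have e1 : (2 : ℕ) ^ 8 = 7 * 36 + 4 := by norm_num
      rw [e1, pow_add, pow_mul, h3, one_pow, one_mul, ← pow_succ']
    rw [e] at h2
    exact mul_eq_left.1 h2
  have h5 := orderOf_dvd_of_pow_eq_one h4
  rw [ho] at h5
  omega

end Cfsg.Agent.H371.EPF
end

-- part: H247/EPF/TF4Q2
section
/-!
# `OwnQ2 (²F₄(q))`, `q ≥ 8` (helper247, S5745)
-/

set_option autoImplicit false
set_option linter.unusedSectionVars false

namespace Cfsg.Agent.H247.EPF

open Cfsg.Lie Cfsg.Agent.H542.EPX Cfsg.Agent.H209.EPX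

theorem q_mod (m : ℕ) : 2 ^ (2 * m + 1) % 17 = 2 ∨ 2 ^ (2 * m + 1) % 17 = 8 ∨ 2 ^ (2 * m + 1) % 17 = 15 ∨
    2 ^ (2 * m + 1) % 17 = 9 := by
  induction m with
  | zero => left; norm_num
  | succ n ih =>
    have e : 2 ^ (2 * (n + 1) + 1) = 4 * 2 ^ (2 * n + 1) := by ring
    omega

theorem not17 (m : ℕ) : ¬ 17 ∣ (2 ^ (2 * m + 1)) ^ 12 * (2 ^ (2 * m + 1) - 1) * ((2 ^ (2 * m + 1)) ^ 3 + 1) *
    ((2 ^ (2 * m + 1)) ^ 4 - 1) * ((2 ^ (2 * m + 1)) ^ 6 + 1) := by
  have hq := q_mod m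
  have h1 : 1 ≤ 2 ^ (2 * m + 1) := Nat.one_le_two_pow
  generalize 2 ^ (2 * m + 1) = q at hq h1 ⊢
  have h4 : 1 ≤ q ^ 4 := Nat.one_le_pow _ _ h1
  intro hd
  rw [← ZMod.natCast_eq_zero_iff] at hd
  push_cast [Nat.cast_sub h1, Nat.cast_sub h4] at hd
  have hr : (q : ZMod 17) = ((q % 17 : ℕ) : ZMod 17) := (ZMod.natCast_mod q 17).symm
  rw [hr] at hd
  rcases hq with h | h | h | h <;> rw [h] at hd <;> revert hd <;> decide

theorem card_u42 {F : Type*} [Field F] [Fintype F] (hF : Fintype.card F = 4) : Nat.card (PSU 4 F 2) = 25920 := by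
  have h1 := Cfsg.Agent.S0280.result (F := F) (q := 2) (by rw [hF]; norm_num) 4 (by norm_num)
  rw [Finset.prod_range_succ, Finset.prod_range_succ, Finset.prod_range_succ, Finset.prod_range_succ,
    Finset.prod_range_zero] at h1
  have e1 : ¬ Even 1 := by decide
  have e3 : ¬ Even 3 := by decide
  have e2 : Even 2 := by decide
  rw [if_pos (by decide : Even 0), if_neg e1, if_pos e2, if_neg e3] at h1
  norm_num at h1
  omega

theorem single_inj {k : ℕ} {T : Type*} [Group T] (i : Fin k) :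
    Function.Injective (MonoidHom.mulSingle (fun _ : Fin k => T) i) := by
  intro a b hab
  have h1 := congrFun hab i
  have h2 : ∀ c : T, (MonoidHom.mulSingle (fun _ : Fin k => T) i c) i = c := fun c => by
    rw [MonoidHom.mulSingle_apply]
    exact Pi.mulSingle_eq_same (M := fun _ : Fin k => T) i c
  rwa [h2, h2] at h1

theorem ownQ2_tf4 {K : Type} [Field K] [Fintype K] {m : ℕ} (hm : 1 ≤ m) (hK : Fintype.card K = 2 ^ (2 * m + 1)) :
    OwnQ2 ↥(twistedF4 K (2 ^ m)) := by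
  intro H N T _ k e h hT
  classical
  have hfin : Finite ↥(twistedF4 K (2 ^ m)) := inferInstance
  have hsim := (Cfsg.Agent.S1072.result hm hK).1
  have hcG := Cfsg.Agent.S1068.result hK
  let emb : (Fin k → T) →* ↥(twistedF4 K (2 ^ m)) := N.subtype.comp e.symm.toMonoidHom
  have hemb : Function.Injective emb := N.subtype_injective.comp e.symm.injective
  let i0 : Fin k := ⟨0, h.pos⟩
  let j : T →* ↥(twistedF4 K (2 ^ m)) := emb.comp (MonoidHom.mulSingle (fun _ : Fin k => T) i0)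
  have hj : Function.Injective j := hemb.comp (single_inj i0)
  rcases over_two hT with h1 | h1 | ⟨F, _, _, hF, ⟨i⟩⟩
  · obtain ⟨x, g, hx, hx7, hg⟩ := h1.map j hj
    have : Fact (Nat.Prime 7) := ⟨by norm_num⟩
    exact Cfsg.Agent.H371.EPF.no73 hm hK x g (orderOf_eq_prime hx7 hx) hg
  · apply not17 m
    rw [← hcG]
    exact h1.trans (Subgroup.card_dvd_of_injective j hj)
  · have hcT : Nat.card T = 25920 := by rw [Nat.card_congr i.toEquiv, card_u42 hF]
    rcases (by have := h.pos; omega : k = 1 ∨ 2 ≤ k) with hk | hk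
    · subst hk
      have h2 := Cfsg.Agent.H104.EP.index_le_u42 (Cfsg.Agent.H957.EPX.ept_of_eps h) hF
        ((Cfsg.Agent.H957.EPX.hasSoc_of_eps h).congr i)
      have h3 : Nat.card H ≤ 51840 := by
        have h4 := ((Cfsg.Agent.H957.EPX.hasSoc_of_eps h).congr i).card_le
        rwa [Cfsg.Agent.H845.AutUFour.card_mulAut_PSU hF, card_u42 hF] at h4
      have h5 := H.card_mul_index
      have h6 : Nat.card ↥(twistedF4 K (2 ^ m)) ≤ 51840 * 2 ^ 18 := by
        rw [← h5]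
        exact Nat.mul_le_mul h3 h2
      rw [hcG] at h6
      have hq : 8 ≤ 2 ^ (2 * m + 1) := by
        calc 8 = 2 ^ 3 := by norm_num
          _ ≤ 2 ^ (2 * m + 1) := Nat.pow_le_pow_right (by norm_num) (by omega)
      generalize 2 ^ (2 * m + 1) = q at hq h6
      have h7 : 8 ^ 12 * 1 * 1 * 1 * 1 ≤ q ^ 12 * (q - 1) * (q ^ 3 + 1) * (q ^ 4 - 1) * (q ^ 6 + 1) := by
        have h8 : 8 ^ 4 ≤ q ^ 4 := Nat.pow_le_pow_left hq 4
        exact Nat.mul_le_mul (Nat.mul_le_mul (Nat.mul_le_mul (Nat.mul_le_mul (Nat.pow_le_pow_left hq 12) (by omega))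
          (by omega)) (by omega)) (by omega)
      have h8 := h7.trans h6
      norm_num at h8
    · have hfT : Finite T := Finite.of_injective j hj
      have f3 : Fact (Nat.Prime 3) := ⟨Nat.prime_three⟩
      have f5 : Fact (Nat.Prime 5) := ⟨Nat.prime_five⟩
      obtain ⟨a, ha⟩ := exists_prime_orderOf_dvd_card' (G := T) 3 (by rw [hcT]; norm_num)
      obtain ⟨b, hb⟩ := exists_prime_orderOf_dvd_card' (G := T) 5 (by rw [hcT]; norm_num)
      let i1 : Fin k := ⟨1, hk⟩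
      have hi : i0 ≠ i1 := by
        intro hc
        have := congrArg Fin.val hc
        simp [i0, i1] at this
      have hA : orderOf (Pi.mulSingle i0 a : Fin k → T) = 3 := by
        rw [← ha]
        exact orderOf_injective (MonoidHom.mulSingle (fun _ : Fin k => T) i0) (single_inj i0) a
      have hB : orderOf (Pi.mulSingle i1 b : Fin k → T) = 5 := by
        rw [← hb]
        exact orderOf_injective (MonoidHom.mulSingle (fun _ : Fin k => T) i1) (single_inj i1) b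
      have hcomm : Commute (Pi.mulSingle i0 a : Fin k → T) (Pi.mulSingle i1 b) :=
        Pi.mulSingle_commute (f := fun _ : Fin k => T) hi a b
      have h15 : orderOf ((Pi.mulSingle i0 a : Fin k → T) * Pi.mulSingle i1 b) = 15 := by
        rw [hcomm.orderOf_mul_eq_mul_orderOf_of_coprime (by rw [hA, hB]; norm_num), hA, hB]
      exact Cfsg.Agent.H343.PG.TwF4Fifteen.not_exists_fifteen hK
        ⟨emb ((Pi.mulSingle i0 a : Fin k → T) * Pi.mulSingle i1 b), by rw [orderOf_injective emb hemb, h15]⟩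

end Cfsg.Agent.H247.EPF
end

private theorem dce_e43847bdb129 : _root_.True := by
  try have : _root_.True := by simp only [_root_.Cfsg.Agent.H247.EPF.Wm.eq_1]
  try have : _root_.True := by simp only [_root_.Cfsg.Agent.H247.EPF.PP.eq_1]
  try have : _root_.True := by simp only [_root_.Cfsg.Agent.H247.EPF.trp.eq_1]
  try have : _root_.True := by simp only [_root_.Cfsg.Agent.H247.EPF.QQ.eq_1]
  try have : _root_.True := by simp only [_root_.Cfsg.Agent.H247.EPF.dbl.eq_1]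
  try have : _root_.True := by simp only [_root_.Cfsg.Agent.H247.EPF.Dm.eq_1]
  try have : _root_.True := by simp only [_root_.Cfsg.Agent.H375.EPR.LTwo.ζ11.congr_simp]
  try have : _root_.True := by simp only [_root_.Cfsg.Agent.H247.EPF.JJ.eq_1]
  try have : _root_.True := by simp only [_root_.Cfsg.Agent.H375.EPR.LTwo.ζ7.congr_simp]
  exact _root_.True.intro
end

-- part: H371/EPF/Fin
section
prune_inst 0x4f42045003d0002000000050200003c2272000000002b0000d9e009020c87df6309022720fa900b0201c202ac4038402001000019420000000a000600411901a080ab5006b33cad0436000f80b804000000000000000000000000000000041000000000000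
set_option linter.all false
open scoped Cfsg.Agent.FastGrp

-- part: H628/EPX/KillOdd
section
/-!
# S5745, `²F₄(q)`, `q ≥ 8`: small stabilisers (helper628)

`Small K e` : `|C(x)| ≤ q ^ 8` for the elements `x` of odd prime order of `²F₄(q)`.

* `kill_odd` : no `EPS H N e` with `|H| ^ 2 < 1.7 q ^ 18` (`no two-point stabiliser a 2-group`);
* `kill_card` : the same, `|H| ≤ 170000000`;
* `kill_dvd` : the same for `k = 1`, with `|H| ≤ |T| |Out T|` as input.
-/

set_option autoImplicit false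
set_option linter.unusedSectionVars false

namespace Cfsg.Agent.H628.EPX

open MulAction Subgroup Cfsg Cfsg.Lie Cfsg.Agent.H284 Cfsg.Agent.H209.EPX Cfsg.Agent.H807.EPX

/-- `|C(x)| ≤ q ^ 8` for all elements `x` of odd prime order -/
def Small (K : Type) [Field K] [Fintype K] (e : ℕ) : Prop :=
  ∀ x : ↥(twistedF4 K e), (orderOf x).Prime → orderOf x ≠ 2 →
    Nat.card (centralizer ({x} : Set ↥(twistedF4 K e))) ≤ Fintype.card K ^ 8

theorem arith {q : ℕ} (h8 : 8 ≤ q) {a : ℕ} (ha : 10 * a ≤ 17 * q ^ 18)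
    (h : 2 * (q ^ 12 * (q - 1) * (q ^ 3 + 1) * (q ^ 4 - 1) * (q ^ 6 + 1)) ≤ a * q ^ 8) : False := by
  obtain ⟨r, rfl⟩ : ∃ r, q = r + 1 := ⟨q - 1, by omega⟩
  have hr : 7 ≤ r := by omega
  rw [Nat.add_sub_cancel] at h
  set Q := r + 1 with hQ
  have hQ8 : 8 ≤ Q := h8
  have e4 : Q ^ 4 - 1 + 1 = Q ^ 4 := Nat.sub_add_cancel (Nat.one_le_pow _ _ (by omega))
  have h4 : 4095 * Q ^ 4 ≤ 4096 * (Q ^ 4 - 1) := by
    have h5 : 4096 ≤ Q ^ 4 := by
      calc 4096 = 8 ^ 4 := by norm_num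
        _ ≤ Q ^ 4 := Nat.pow_le_pow_left hQ8 4
    omega
  have h1 : 7 * Q ≤ 8 * r := by omega
  have k1 : Q ^ 12 * (7 * Q) * Q ^ 3 * (4095 * Q ^ 4) * Q ^ 6 ≤
      Q ^ 12 * (8 * r) * (Q ^ 3 + 1) * (4096 * (Q ^ 4 - 1)) * (Q ^ 6 + 1) := by
    gcongr
    · omega
    · omega
  have k2 : Q ^ 12 * (7 * Q) * Q ^ 3 * (4095 * Q ^ 4) * Q ^ 6 = 28665 * Q ^ 26 := by ring
  have k3 : Q ^ 12 * (8 * r) * (Q ^ 3 + 1) * (4096 * (Q ^ 4 - 1)) * (Q ^ 6 + 1) =
      32768 * (Q ^ 12 * r * (Q ^ 3 + 1) * (Q ^ 4 - 1) * (Q ^ 6 + 1)) := by ring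
  rw [k2, k3] at k1
  have k4 : 10 * (a * Q ^ 8) ≤ 17 * Q ^ 26 := by
    calc 10 * (a * Q ^ 8) = 10 * a * Q ^ 8 := by ring
      _ ≤ 17 * Q ^ 18 * Q ^ 8 := Nat.mul_le_mul_right _ ha
      _ = 17 * Q ^ 26 := by ring
  have hpos : 0 < Q ^ 26 := Nat.pow_pos (by omega)
  -- `57330 Q^26 ≤ 32768 * 1.7 Q^26 = 55705.6 Q^26`
  omega

variable {K : Type} [Field K] [Fintype K] {m : ℕ}

/-- **small stabilisers** -/
theorem kill_odd (hm : 1 ≤ m) (hK : Fintype.card K = 2 ^ (2 * m + 1)) (hC : Small K (2 ^ m))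
    {H N : Subgroup ↥(twistedF4 K (2 ^ m))} {T : Type} [Group T] {k : ℕ} {e : N ≃* (Fin k → T)} (h : EPS H N e)
    (hM : ∀ g ∉ H, ∃ r ∈ (Nat.card H).primeFactors.erase 2, r ∣ Nat.card (H ⊓ cj g H : Subgroup ↥(twistedF4 K (2 ^ m))))
    (hB : 10 * Nat.card H ^ 2 ≤ 17 * Fintype.card K ^ 18) : False := by
  have hfin : Finite ↥(twistedF4 K (2 ^ m)) := inferInstance
  have h8 : 8 ≤ Fintype.card K := by
    rw [hK]
    calc 8 = 2 ^ 3 := by norm_num
      _ ≤ _ := Nat.pow_le_pow_right (by norm_num) (by omega)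
  have h2 : 2 ∣ Fintype.card K ^ 8 := by
    rw [hK]; exact dvd_pow (dvd_pow_self 2 (by omega)) (by norm_num)
  obtain ⟨z, hz⟩ := h2
  have key : Nat.card ↥(twistedF4 K (2 ^ m)) ≤ Nat.card H ^ 2 * z := by
    refine EPi_sq (π := {r : ℕ | r.Prime ∧ r ≠ 2}) (fun _ hr => hr.1) ?_ h.ep.max.1 ?_
    · intro y hy
      obtain ⟨r, hr, hd⟩ := hM y hy
      rw [Finset.mem_erase, Nat.mem_primeFactors] at hr
      exact ⟨r, ⟨hr.2.1, hr.1⟩, hd⟩
    · intro x _ hx
      have h1 := hC x hx.1 hx.2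
      rw [hz] at h1
      have h3 : 3 ≤ orderOf x := by
        have := hx.1.two_le
        have := hx.2
        omega
      calc Nat.card (centralizer ({x} : Set ↥(twistedF4 K (2 ^ m)))) ≤ 2 * z := h1
        _ = z * 2 := Nat.mul_comm _ _
        _ ≤ z * (orderOf x - 1) := Nat.mul_le_mul_left _ (by omega)
  have hcard : Nat.card ↥(twistedF4 K (2 ^ m)) = Fintype.card K ^ 12 * (Fintype.card K - 1) *
      (Fintype.card K ^ 3 + 1) * (Fintype.card K ^ 4 - 1) * (Fintype.card K ^ 6 + 1) := by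
    rw [Cfsg.Agent.S1068.result hK, hK]
  refine arith h8 hB ?_
  rw [← hcard]
  calc 2 * Nat.card ↥(twistedF4 K (2 ^ m)) ≤ 2 * (Nat.card H ^ 2 * z) := Nat.mul_le_mul_left _ key
    _ = Nat.card H ^ 2 * (2 * z) := by ring
    _ = _ := by rw [← hz]

theorem kill_card (hm : 1 ≤ m) (hK : Fintype.card K = 2 ^ (2 * m + 1)) (hC : Small K (2 ^ m))
    {H N : Subgroup ↥(twistedF4 K (2 ^ m))} {T : Type} [Group T] {k : ℕ} {e : N ≃* (Fin k → T)} (h : EPS H N e)
    (hM : ∀ g ∉ H, ∃ r ∈ (Nat.card H).primeFactors.erase 2, r ∣ Nat.card (H ⊓ cj g H : Subgroup ↥(twistedF4 K (2 ^ m))))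
    (hB : Nat.card H ≤ 170000000) : False := by
  refine kill_odd hm hK hC h hM ?_
  have h8 : 8 ≤ Fintype.card K := by
    rw [hK]
    calc 8 = 2 ^ 3 := by norm_num
      _ ≤ _ := Nat.pow_le_pow_right (by norm_num) (by omega)
  calc 10 * Nat.card H ^ 2 ≤ 10 * 170000000 ^ 2 := Nat.mul_le_mul_left _ (Nat.pow_le_pow_left hB 2)
    _ ≤ 17 * 8 ^ 18 := by norm_num
    _ ≤ 17 * Fintype.card K ^ 18 := Nat.mul_le_mul_left _ (Nat.pow_le_pow_left h8 18)

end Cfsg.Agent.H628.EPX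
end

-- part: H371/EPF/Cross
section
/-!
# S5745, the cross cell of `²F₄(q)`, `q = 2 ^ (2 m + 1) ≥ 8` (helper371)

`cross_tf4` : from helper446's tables only `A₁₀` and the Tits group, `q = 8`, survive; both have `|Aut T| ≤ 170000000`
and no two-point stabiliser is a `2`-group (helper742), so helper628's `kill_card` applies.
-/

set_option autoImplicit false
set_option linter.unusedSectionVars false

namespace Cfsg.Agent.H371.EPF

open Cfsg Cfsg.Agent.OrdDiv Cfsg.Agent.H902 Cfsg.Agent.H902.Names Cfsg.Agent.H290.ElReg Cfsg.Agent.H290.ElTab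
open Cfsg.Agent.H209.EPX Cfsg.Agent.H542.EPX Cfsg.Agent.H252.EN Cfsg.Agent.H889.Enum Cfsg.Agent.H446.EPX
open Cfsg.Agent.H628.EPX Cfsg.Agent.H742.EX

/-- the order of `L₂(2 ^ n ± 1)` is not `1814400`, not `17971200` -/
theorem fm_arith {c n t : ℕ} (h3 : 3 < c) (hc : c = 2 ^ n + 1 ∨ c + 1 = 2 ^ n) (h : 2 * t = c * (c ^ 2 - 1))
    (ht : t = 1814400 ∨ t = 17971200) : False := by
  have hn : n ≤ 9 := by
    by_contra hcon
    push Not at hcon
    have h1 : 2 ^ 10 ≤ 2 ^ n := Nat.pow_le_pow_right (by norm_num) hcon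
    have h2 : 1023 ≤ c := by omega
    have h4 : 1023 ^ 2 - 1 ≤ c ^ 2 - 1 := Nat.sub_le_sub_right (Nat.pow_le_pow_left h2 2) 1
    have h5 : 1023 * (1023 ^ 2 - 1) ≤ c * (c ^ 2 - 1) := Nat.mul_le_mul h2 h4
    rw [← h] at h5
    norm_num at h5
    omega
  have hc' : c = 2 ^ n + 1 ∨ c = 2 ^ n - 1 := by omega
  clear hc
  interval_cases n <;> rcases hc' with rfl | rfl <;> rcases ht with rfl | rfl <;>
    exact absurd h (by decide)

theorem not_fm {T : Type} [Group T] (ht : Nat.card T = 1814400 ∨ Nat.card T = 17971200) : ¬ FM T := by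
  rintro ⟨F, i1, i2, n, h3, hc, ⟨i⟩⟩
  have hn : 1 ≤ n := by
    rcases Nat.eq_zero_or_pos n with rfl | h0
    · rcases hc with hc | hc <;> omega
    · exact h0
  have hodd : Odd (Fintype.card F) := by
    have h2 : 2 ∣ 2 ^ n := dvd_pow_self 2 (by omega)
    rw [Nat.odd_iff]
    rcases hc with hc | hc <;> omega
  have h1 := Cfsg.Agent.SmallSimple.PSLTwoPart.card_psl_two_odd hodd
  rw [← Nat.card_congr i.toEquiv] at h1
  exact fm_arith h3 hc h1 ht

variable {K : Type} [Field K] [Fintype K] {m : ℕ}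

theorem small_tf4 (hm : 1 ≤ m) (hK : Fintype.card K = 2 ^ (2 * m + 1)) : Small K (2 ^ m) := by
  intro x hx hx2
  have h1 := Cfsg.Agent.H67.RG.card_cent_le hm hK hx hx2 rfl
  rwa [Nat.card_eq_fintype_card (α := K)] at h1

/-- small socles -/
theorem kill_small (hm : 1 ≤ m) (hK : Fintype.card K = 2 ^ (2 * m + 1))
    {H N : Subgroup ↥(Lie.twistedF4 K (2 ^ m))} {T : Type} [Group T] [Finite T] {e : N ≃* (Fin 1 → T)} (h : EPS H N e)
    (hL : ¬ IsLieTypeChar 2 T) (ht : Nat.card T = 1814400 ∨ Nat.card T = 17971200)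
    (ha : Nat.card (MulAut T) ∣ 3628800 ∨ Nat.card (MulAut T) ∣ 35942400) : False := by
  have hfin : Finite ↥(Lie.twistedF4 K (2 ^ m)) := inferInstance
  refine kill_card hm hK (small_tf4 hm hK) h (EPS.hM_two_cross h hL (not_fm ht)) ?_
  have h1 : Nat.card H ∣ Nat.card (MulAut T) := Cfsg.Agent.H226.EX.card_dvd_aut h
  rcases ha with ha | ha
  · exact (Nat.le_of_dvd (by norm_num) (h1.trans ha)).trans (by norm_num)
  · exact (Nat.le_of_dvd (by norm_num) (h1.trans ha)).trans (by norm_num)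

/-- **The cross cell of `²F₄(q)`** -/
theorem cross_tf4 (hg : Cfsg.Agent.H59.EP.TwoGen.{0}) (hAK : AllK) (K : Type) [Field K] [Fintype K] (m : ℕ)
    [IsSimpleGroup ↥(Lie.twistedF4 K (2 ^ m))] (hm : 1 ≤ m) (hK : Fintype.card K = 2 ^ (2 * m + 1)) :
    Cross 2 ↥(Lie.twistedF4 K (2 ^ m)) := by
  have hfact : Fact (Nat.Prime 2) := ⟨Nat.prime_two⟩
  have hfin : Finite ↥(Lie.twistedF4 K (2 ^ m)) := inferInstance
  have hchar : CharP K 2 := charTwo (by omega) hK
  have hcG : Nat.card ↥(Lie.twistedF4 K (2 ^ m)) = ntf (2 ^ (2 * m + 1)) := Cfsg.Agent.S1068.result hK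
  intro H N T _ e h hsp hL
  have hT : Finite T := finite_of e
  have hs : IsSimpleGroup T := h.simple
  have hna : ¬ ∀ a b : T, a * b = b * a := by
    obtain ⟨a, b, hab⟩ := h.nab
    exact fun hc => hab (hc a b)
  rcases cross_lie table (n := 52) (by norm_num) hna (hAK T hs) (fth_of (fth_tf4 (F := K) (2 ^ m)) (emb_injective e)) hL
    with h1 | h1 | h1 | h1
  · obtain ⟨n, hn, hiso⟩ := h1
    have h2 : 2 * Nat.card T = n.factorial := by
      obtain ⟨i⟩ := hiso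
      rw [Nat.card_congr i.toEquiv]
      exact card_alt (by omega)
    obtain ⟨rfl, rfl⟩ := alt_tf4 hn h2 hm hcG (ub_aut hg h (by rw [aut_alt hna hn hiso])) (dvd_G h)
    have h3 : (10 : ℕ).factorial = 3628800 := by decide
    refine kill_small hm hK h hL (Or.inl ?_) (Or.inl ?_)
    · omega
    · rw [aut_alt hna hn hiso, autA, if_neg (by norm_num), h3]
  · refine kill_small hm hK h hL (Or.inr (dvd_tits h1)) (Or.inr (aut_tits hna h1))
  · exact hsp h1
  · obtain ⟨g, X, l, a, hgg, hT, hA, hr, hlp⟩ := h1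
    exact reg_tf4 hA hr hlp hm hcG (ub_aut hg h (by rw [aut_ouN hna hgg hT hA])) (dvd_G h)

end Cfsg.Agent.H371.EPF
end

-- part: H768/EPX/TFFour
section
/-!
# S5745, the cell `Spor` of the family `²F₄(q)`, `q = 2 ^ (2 m + 1) ≥ 8` (helper768)

The order sieve leaves nothing: for no sporadic `T` and no `m ≥ 1` with `|²F₄(q)| ≤ 2 ^ b(T)` does `|T|` divide
`|²F₄(q)|`.
-/

set_option autoImplicit false
set_option maxHeartbeats 4000000

namespace Cfsg.Agent.H768.EPX.TF4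

open Subgroup Cfsg Cfsg.Agent.H284 Cfsg.Agent.H209.EPX Cfsg.Agent.H59.EP Cfsg.Agent.H419.EP Cfsg.Agent.H226.EX
  Cfsg.Agent.H542.EPX Cfsg.Agent.H805.EPX

/-- the order of `²F₄(q)` -/
def od (q : ℕ) : ℕ := q ^ 12 * (q - 1) * (q ^ 3 + 1) * (q ^ 4 - 1) * (q ^ 6 + 1)

theorem od_mono : Monotone od := by
  intro a b h
  simp only [od]
  gcongr

/-- a single `m` -/
def okm (n B m : ℕ) : Bool :=
  Nat.blt B (od (2 ^ (2 * m + 1))) || !(Nat.beq (od (2 ^ (2 * m + 1)) % n) 0)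

/-- the range `1 ≤ m ≤ M` -/
def chkm (n B : ℕ) : ℕ → Bool
  | 0 => true
  | M + 1 => okm n B (M + 1) && chkm n B M

theorem of_chkm {n B M : ℕ} (h : chkm n B M = true) {m : ℕ} (h1 : 1 ≤ m) (h2 : m ≤ M) : okm n B m = true := by
  induction M with
  | zero => omega
  | succ M ih =>
    rw [chkm, Bool.and_eq_true] at h
    rcases (by omega : m = M + 1 ∨ m ≤ M) with rfl | h3
    · exact h.1
    · exact ih h.2 h3

/-- **the sieve** -/
theorem none_of {n B : ℕ} (M : ℕ) (h : chkm n B M = true) (hM : B < od (2 ^ (2 * (M + 1) + 1))) {m C : ℕ}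
    (hm : 1 ≤ m) (hC : C = od (2 ^ (2 * m + 1))) (hB : C ≤ B) (hn : n ∣ C) : False := by
  have h1 : m ≤ M := by
    by_contra hcon
    push Not at hcon
    have h2 : 2 ^ (2 * (M + 1) + 1) ≤ 2 ^ (2 * m + 1) := Nat.pow_le_pow_right (by norm_num) (by omega)
    have h3 := od_mono h2
    omega
  have h2 := of_chkm h hm h1
  rw [okm, Bool.or_eq_true] at h2
  rcases h2 with h2 | h2
  · unfold Nat.blt at h2
    have h3 := Nat.le_of_ble_eq_true h2
    omega
  · have h3 : od (2 ^ (2 * m + 1)) % n = 0 := Nat.mod_eq_zero_of_dvd (hC ▸ hn)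
    rw [h3] at h2
    exact absurd h2 (by decide)

theorem c_m11 : chkm 7920 (2 ^ 49) 0 = true := by decide +kernel

theorem d_m11 : 2 ^ 49 < od (2 ^ (2 * (0 + 1) + 1)) := by decide +kernel

theorem c_m12 : chkm 95040 (2 ^ 65) 0 = true := by decide +kernel

theorem d_m12 : 2 ^ 65 < od (2 ^ (2 * (0 + 1) + 1)) := by decide +kernel

theorem c_m22 : chkm 443520 (2 ^ 75) 0 = true := by decide +kernel

theorem d_m22 : 2 ^ 75 < od (2 ^ (2 * (0 + 1) + 1)) := by decide +kernel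

theorem c_m23 : chkm 10200960 (2 ^ 97) 1 = true := by decide +kernel

theorem d_m23 : 2 ^ 97 < od (2 ^ (2 * (1 + 1) + 1)) := by decide +kernel

theorem c_m24 : chkm 244823040 (2 ^ 120) 1 = true := by decide +kernel

theorem d_m24 : 2 ^ 120 < od (2 ^ (2 * (1 + 1) + 1)) := by decide +kernel

theorem c_j1 : chkm 175560 (2 ^ 68) 0 = true := by decide +kernel

theorem d_j1 : 2 ^ 68 < od (2 ^ (2 * (0 + 1) + 1)) := by decide +kernel

theorem c_j2 : chkm 604800 (2 ^ 77) 0 = true := by decide +kernel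

theorem d_j2 : 2 ^ 77 < od (2 ^ (2 * (0 + 1) + 1)) := by decide +kernel

theorem c_j3 : chkm 50232960 (2 ^ 108) 1 = true := by decide +kernel

theorem d_j3 : 2 ^ 108 < od (2 ^ (2 * (1 + 1) + 1)) := by decide +kernel

theorem c_j4 : chkm 86775571046077562880 (2 ^ 322) 5 = true := by decide +kernel

theorem d_j4 : 2 ^ 322 < od (2 ^ (2 * (5 + 1) + 1)) := by decide +kernel

theorem c_co1 : chkm 4157776806543360000 (2 ^ 309) 5 = true := by decide +kernel

theorem d_co1 : 2 ^ 309 < od (2 ^ (2 * (5 + 1) + 1)) := by decide +kernel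

theorem c_co2 : chkm 42305421312000 (2 ^ 228) 3 = true := by decide +kernel

theorem d_co2 : 2 ^ 228 < od (2 ^ (2 * (3 + 1) + 1)) := by decide +kernel

theorem c_co3 : chkm 495766656000 (2 ^ 175) 2 = true := by decide +kernel

theorem d_co3 : 2 ^ 175 < od (2 ^ (2 * (2 + 1) + 1)) := by decide +kernel

theorem c_mcl : chkm 898128000 (2 ^ 129) 1 = true := by decide +kernel

theorem d_mcl : 2 ^ 129 < od (2 ^ (2 * (1 + 1) + 1)) := by decide +kernel

theorem c_hs : chkm 44352000 (2 ^ 107) 1 = true := by decide +kernel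

theorem d_hs : 2 ^ 107 < od (2 ^ (2 * (1 + 1) + 1)) := by decide +kernel

theorem c_suz : chkm 448345497600 (2 ^ 174) 2 = true := by decide +kernel

theorem d_suz : 2 ^ 174 < od (2 ^ (2 * (2 + 1) + 1)) := by decide +kernel

theorem c_he : chkm 4030387200 (2 ^ 140) 2 = true := by decide +kernel

theorem d_he : 2 ^ 140 < od (2 ^ (2 * (2 + 1) + 1)) := by decide +kernel

theorem c_ru : chkm 145926144000 (2 ^ 170) 2 = true := by decide +kernel

theorem d_ru : 2 ^ 170 < od (2 ^ (2 * (2 + 1) + 1)) := by decide +kernel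

theorem c_on : chkm 460815505920 (2 ^ 174) 2 = true := by decide +kernel

theorem d_on : 2 ^ 174 < od (2 ^ (2 * (2 + 1) + 1)) := by decide +kernel

theorem c_ly : chkm 51765179004000000 (2 ^ 258) 4 = true := by decide +kernel

theorem d_ly : 2 ^ 258 < od (2 ^ (2 * (4 + 1) + 1)) := by decide +kernel

theorem c_fi22 : chkm 64561751654400 (2 ^ 221) 3 = true := by decide +kernel

theorem d_fi22 : 2 ^ 221 < od (2 ^ (2 * (3 + 1) + 1)) := by decide +kernel

theorem c_fi23 : chkm 4089470473293004800 (2 ^ 289) 5 = true := by decide +kernel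

theorem d_fi23 : 2 ^ 289 < od (2 ^ (2 * (5 + 1) + 1)) := by decide +kernel

theorem c_fi24 : chkm 1255205709190661721292800 (2 ^ 381) 6 = true := by decide +kernel

theorem d_fi24 : 2 ^ 381 < od (2 ^ (2 * (6 + 1) + 1)) := by decide +kernel

theorem c_hn : chkm 273030912000000 (2 ^ 220) 3 = true := by decide +kernel

theorem d_hn : 2 ^ 220 < od (2 ^ (2 * (3 + 1) + 1)) := by decide +kernel

theorem c_th : chkm 90745943887872000 (2 ^ 262) 4 = true := by decide +kernel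

theorem d_th : 2 ^ 262 < od (2 ^ (2 * (4 + 1) + 1)) := by decide +kernel

theorem c_b : chkm 4154781481226426191177580544000000 (2 ^ 778) 14 = true := by decide +kernel

theorem d_b : 2 ^ 778 < od (2 ^ (2 * (14 + 1) + 1)) := by decide +kernel

theorem c_m : chkm 808017424794512875886459904961710757005754368000000000 (2 ^ 1092) 20 = true := by decide +kernel

theorem d_m : 2 ^ 1092 < od (2 ^ (2 * (20 + 1) + 1)) := by decide +kernel

/-- nothing survives, for any group of the order of `²F₄(q)` -/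
theorem main_tf4 (hg : TwoGen.{0}) {G : Type} [Group G] [Finite G] [IsSimpleGroup G] {H N : Subgroup G} {T : Type}
    [Group T] {e : N ≃* (Fin 1 → T)} (h : EPS H N e) (hT : IsSporadicGroup T) {m : ℕ} (hm : 1 ≤ m)
    (hC : Nat.card G = od (2 ^ (2 * m + 1))) : False := by
  rcases hT with h1 | h1 | h1 | h1 | h1 | h1 | h1 | h1 | h1 | h1 | h1 | h1 | h1 | h1 | h1 | h1 | h1 | h1 | h1 | h1 | h1 | h1 | h1 | h1 | h1 | h1
  · obtain ⟨hB, hd⟩ := le_m11 hg h h1
    exact none_of 0 c_m11 d_m11 hm hC hB hd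
  · obtain ⟨hB, hd⟩ := le_m12 hg h h1
    exact none_of 0 c_m12 d_m12 hm hC hB hd
  · obtain ⟨hB, hd⟩ := le_m22 hg h h1
    exact none_of 0 c_m22 d_m22 hm hC hB hd
  · obtain ⟨hB, hd⟩ := le_m23 hg h h1
    exact none_of 1 c_m23 d_m23 hm hC hB hd
  · obtain ⟨hB, hd⟩ := le_m24 hg h h1
    exact none_of 1 c_m24 d_m24 hm hC hB hd
  · obtain ⟨hB, hd⟩ := le_j1 hg h h1
    exact none_of 0 c_j1 d_j1 hm hC hB hd
  · obtain ⟨hB, hd⟩ := le_j2 hg h h1
    exact none_of 0 c_j2 d_j2 hm hC hB hd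
  · obtain ⟨hB, hd⟩ := le_j3 hg h h1
    exact none_of 1 c_j3 d_j3 hm hC hB hd
  · obtain ⟨hB, hd⟩ := le_j4 hg h h1
    exact none_of 5 c_j4 d_j4 hm hC hB hd
  · obtain ⟨hB, hd⟩ := le_co1 hg h h1
    exact none_of 5 c_co1 d_co1 hm hC hB hd
  · obtain ⟨hB, hd⟩ := le_co2 hg h h1
    exact none_of 3 c_co2 d_co2 hm hC hB hd
  · obtain ⟨hB, hd⟩ := le_co3 hg h h1
    exact none_of 2 c_co3 d_co3 hm hC hB hd
  · obtain ⟨hB, hd⟩ := le_mcl hg h h1
    exact none_of 1 c_mcl d_mcl hm hC hB hd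
  · obtain ⟨hB, hd⟩ := le_hs hg h h1
    exact none_of 1 c_hs d_hs hm hC hB hd
  · obtain ⟨hB, hd⟩ := le_suz hg h h1
    exact none_of 2 c_suz d_suz hm hC hB hd
  · obtain ⟨hB, hd⟩ := le_he hg h h1
    exact none_of 2 c_he d_he hm hC hB hd
  · obtain ⟨hB, hd⟩ := le_ru hg h h1
    exact none_of 2 c_ru d_ru hm hC hB hd
  · obtain ⟨hB, hd⟩ := le_on hg h h1
    exact none_of 2 c_on d_on hm hC hB hd
  · obtain ⟨hB, hd⟩ := le_ly hg h h1
    exact none_of 4 c_ly d_ly hm hC hB hd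
  · obtain ⟨hB, hd⟩ := le_fi22 hg h h1
    exact none_of 3 c_fi22 d_fi22 hm hC hB hd
  · obtain ⟨hB, hd⟩ := le_fi23 hg h h1
    exact none_of 5 c_fi23 d_fi23 hm hC hB hd
  · obtain ⟨hB, hd⟩ := le_fi24 hg h h1
    exact none_of 6 c_fi24 d_fi24 hm hC hB hd
  · obtain ⟨hB, hd⟩ := le_hn hg h h1
    exact none_of 3 c_hn d_hn hm hC hB hd
  · obtain ⟨hB, hd⟩ := le_th hg h h1
    exact none_of 4 c_th d_th hm hC hB hd
  · obtain ⟨hB, hd⟩ := le_b hg h h1
    exact none_of 14 c_b d_b hm hC hB hd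
  · obtain ⟨hB, hd⟩ := le_m hg h h1
    exact none_of 20 c_m d_m hm hC hB hd

/-- **the sporadic cell of `²F₄(q)`, `q ≥ 8`** -/
theorem spor_tf4 (hg : TwoGen.{0}) (K : Type) [Field K] [Fintype K] (m : ℕ)
    [IsSimpleGroup ↥(Lie.twistedF4 K (2 ^ m))] (hm : 1 ≤ m) (hK : Fintype.card K = 2 ^ (2 * m + 1)) :
    Spor ↥(Lie.twistedF4 K (2 ^ m)) := by
  intro H N T _ e h hT
  have hC : Nat.card ↥(Lie.twistedF4 K (2 ^ m)) = od (2 ^ (2 * m + 1)) := OrdDiv.table.{0}.tf4 K m hm hK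
  haveI : Finite ↥(Lie.twistedF4 K (2 ^ m)) := by
    apply Nat.finite_of_card_ne_zero
    rw [hC]
    have h1 : 2 ≤ 2 ^ (2 * m + 1) := by
      calc 2 = 2 ^ 1 := rfl
        _ ≤ _ := Nat.pow_le_pow_right (by norm_num) (by omega)
    have h2 := od_mono h1
    have h3 : 0 < od 2 := by decide +kernel
    omega
  exact main_tf4 hg h hT hm hC

end Cfsg.Agent.H768.EPX.TF4
end

-- part: H564/EPF/OwnTwF
section
/-!
# S5745, own characteristic, with the `G`-side as a hypothesis (helper564)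

`GSideA p G` : `DQ` for every stabiliser `EPS H N e` of `G`.

* `own_r1_dq`, `k_eq_one_dq`, `ownR1_dq` : rank one (helper470's `r1_false`, helper515's `k_eq_one`);
* `own_dq` : `Own p G` from `GSideA p G`, `OwnQ2 G`, `OwnR1 p G`.
-/

set_option autoImplicit false
set_option linter.unusedSectionVars false

namespace Cfsg.Agent.H564.EPF

open Cfsg.Agent.H284 Cfsg.Agent.H737.EPO Cfsg.Agent.H209.EPX Cfsg.Agent.KFacts.RgdFilt Cfsg.Agent.H542.EPX
open Cfsg.Agent.H470.EPO Cfsg.Agent.H515.EPO.KTwo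

/-- the `G`-side for all stabilisers of `G` -/
def GSideA (p : ℕ) (G : Type) [Group G] [Finite G] : Prop :=
  ∀ (H N : Subgroup G) (T : Type) [Group T] [Finite T] (k : ℕ) (e : N ≃* (Fin k → T)), EPS H N e → GSide H N T k p

theorem nab_of_eps {G : Type*} [Group G] {H N : Subgroup G} {T : Type} [Group T] {k : ℕ} {e : N ≃* (Fin k → T)}
    (h : EPS H N e) : ∃ a b : G, a * b ≠ b * a := by
  obtain ⟨a, b, hab⟩ := h.nab
  refine ⟨(e.symm (fun _ => a) : N), (e.symm (fun _ => b) : N), fun h3 => hab ?_⟩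
  have h4 : e.symm (fun _ => a) * e.symm (fun _ => b) = e.symm (fun _ => b) * e.symm (fun _ => a) := Subtype.ext h3
  rw [← map_mul, ← map_mul] at h4
  exact congrFun (e.symm.injective h4) ⟨0, h.pos⟩

theorem fin_of_eps {G : Type*} [Group G] [Finite G] {H N : Subgroup G} {T : Type} [Group T] {k : ℕ}
    {e : N ≃* (Fin k → T)} (h : EPS H N e) : Finite T := by
  have : Nonempty (Fin k) := ⟨⟨0, h.pos⟩⟩
  have h1 : Finite (Fin k → T) := Finite.of_equiv N e.toEquiv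
  exact Finite.of_surjective (fun f : Fin k → T => f ⟨0, h.pos⟩) fun t => ⟨fun _ => t, rfl⟩

/-- rank one, `k = 1` -/
theorem own_r1_dq {G : Type*} [Group G] [Finite G] [IsSimpleGroup G] {H N : Subgroup G} {T : Type} [Group T]
    [Finite T] {e : N ≃* (Fin 1 → T)} (h : EPS H N e) {p : ℕ} [Fact p.Prime] (hdq : GSide H N T 1 p) (D : R1 p T)
    (hD : D.Hyp) : False := by
  have := h.simple
  refine r1_false e D h.nab h.ep h.toMinN h.cent hD
    (hdq _ D.psys e (fun _ => ∅) (VV_ne_bot e (i := 0) Set.empty_ne_univ)) fun A hA hab => ?_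
  rcases hA.eq_bot_or_eq_top with h2 | h2
  · exact h2
  · exfalso
    obtain ⟨a, b, hab'⟩ := nab_of_eps h
    subst h2
    exact hab' (hab a (Subgroup.mem_top a) b (Subgroup.mem_top b))

/-- only one factor -/
theorem k_eq_one_S_dq {G : Type*} [Group G] [Finite G] {H N : Subgroup G} {T : Type} [Group T] [Finite T] {k : ℕ}
    {e : N ≃* (Fin k → T)} (h : EPS H N e) {p : ℕ} [Fact p.Prime] {I : Type*} [Nonempty I] {S : PSys T p I} (hS : Rk S)
    (hdq : ∀ (e' : N ≃* (Fin k → T)) (J : Fin k → Set I), VV e' S J ≠ ⊥ → DQ H e' S J)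
    (hne : p = 2 → (∀ j : I, (S.V {j}).relIndex (S.V ∅) = 2) → ∀ s, 1 + (S.P ∅).index ≠ 2 ^ s) : k = 1 := by
  have := h.simple
  obtain ⟨P, -, hP⟩ := exists_sylIn (p := p) (H := H) (K := ⊥) bot_le IsPGroup.of_bot
  obtain ⟨e', hPN⟩ := exists_std S e h.nrm h.le hP
  exact k_eq_one e' h.nab hS h.ep h.toMinN h.pos hP hPN (hdq e') hne

/-- rank one: only one factor -/
theorem k_eq_one_dq {G : Type*} [Group G] [Finite G] {H N : Subgroup G} {T : Type} [Group T] [Finite T] {k : ℕ}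
    {e : N ≃* (Fin k → T)} (h : EPS H N e) {p : ℕ} [Fact p.Prime] (hdq : GSide H N T k p) (D : R1 p T) : k = 1 := by
  have := h.simple
  apply k_eq_one_S_dq h D.rk (hdq _ _)
  intro _ h1 s _
  have h2 := P_index e D.rk ⟨0, h.pos⟩ ()
  rw [h1 ()] at h2
  have h3 : (D.psys).P {()} = ⊤ := by
    rw [← (D.psys).P_univ]
    congr 1
    ext x
    simp
  rw [h3, Subgroup.relIndex_top_right] at h2
  exact index_ne_three h.nab _ h2

/-- **`OwnR1 p G`** from the `G`-side -/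
theorem ownR1_dq (hR : R1All) {G : Type} [Group G] [Finite G] [IsSimpleGroup G] {p : ℕ} [Fact p.Prime]
    (hG : GSideA p G)
    (hsm : ∀ (H N : Subgroup G) (T : Type) [Group T] (e : N ≃* (Fin 1 → T)), EPS H N e → SmallR1 p T → False) :
    OwnR1 p G := by
  intro H N T _ k e h hT
  have hsimp := h.simple
  have hfin := fin_of_eps h
  obtain ⟨D⟩ := r1_data hR h.nab hT
  have hk : k = 1 := k_eq_one_dq h (hG H N T k e h) D
  subst hk
  rcases rankOne_cases hR hT with h1 | ⟨D, hD⟩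
  · exact hsm H N T e h h1
  · exact own_r1_dq h (hG H N T 1 e h) D hD

/-- **Own characteristic: what is left**, from the `G`-side -/
theorem own_reduce_dq {G : Type} [Group G] [Finite G] {p : ℕ} [Fact p.Prime] (hG : GSideA p G)
    {H N : Subgroup G} {T : Type} [Group T] {k : ℕ} {e : N ≃* (Fin k → T)} (h : EPS H N e)
    (hT : IsLieTypeChar p T) : (p = 2 ∧ OverTwo T) ∨ RankOne p T := by
  have hfin := fin_of_eps h
  rcases own_cases hT with ⟨l, M, hl, hF⟩ | h1 | h1 | ⟨hp, h1⟩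
  · exact (own_S_filtC_dq hl h (hG H N T k e h) hF).elim
  · exact Or.inl h1
  · exact Or.inr h1
  · subst hp
    exact (own_S_iso_dq h1 h fun T' _ _ e' h' => hG H N T' k e' h').elim

/-- **`Own p G`** from the `G`-side, `OwnQ2` and `OwnR1` -/
theorem own_dq {G : Type} [Group G] [Finite G] {p : ℕ} [Fact p.Prime] (hG : GSideA p G)
    (h2 : p = 2 → OwnQ2 G) (h1 : OwnR1 p G) : Own p G := by
  intro H N T _ k e h hT
  rcases own_reduce_dq hG h hT with ⟨hp, h4⟩ | h4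
  · exact h2 hp H N T k e h h4
  · exact h1 H N T k e h h4

end Cfsg.Agent.H564.EPF
end

-- part: H564/EPF/Fin
section
/-!
# S5745, `G = ²F₄(q)`, own characteristic (helper564; the `G`-side: helper424)

* `gSide_of_hasCan` : `GSideA p G`;
* `ownR1_can`, `ownR1_tf4` : no socle of rank one;
* `own_tf4` : `Own 2 G` from `OwnQ2 G`, `R1All` and `A₅`.
-/

set_option autoImplicit false
set_option linter.unusedSectionVars false

namespace Cfsg.Agent.H564.EPF

open Cfsg.Agent.H284 Cfsg.Agent.H737.EPO Cfsg.Agent.H209.EPX Cfsg.Agent.KFacts.RgdFilt Cfsg.Agent.H542.EPX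
open Cfsg.Agent.H470.EPO Cfsg.Agent.H424.EPX

theorem gSide_of_hasCan {G : Type} [Group G] [Finite G] {p : ℕ} [Fact p.Prime] (hG : HasCan p G) : GSideA p G :=
  fun _ _ _ _ _ _ _ h _ S e' J hJ => hG.dq h S e' J hJ

/-- **`OwnR1 p G`** for `HasCan p G` -/
theorem ownR1_can (hR : R1All) {G : Type} [Group G] [Finite G] [IsSimpleGroup G] {p : ℕ} [Fact p.Prime]
    (hG : HasCan p G)
    (hsm : ∀ (H N : Subgroup G) (T : Type) [Group T] (e : N ≃* (Fin 1 → T)), EPS H N e → SmallR1 p T → False) :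
    OwnR1 p G := ownR1_dq hR (gSide_of_hasCan hG) hsm

/-- in characteristic two: only `A₅` -/
theorem small_two {T : Type} [Group T] (h : SmallR1 2 T) : ∃ (F : Type) (_ : Field F) (_ : Fintype F),
    Fintype.card F = 4 ∧ Nonempty (T ≃* Matrix.ProjectiveSpecialLinearGroup (Fin 2) F) := by
  have key : ∀ (F : Type) [Field F] [Fintype F] [CharP F 2], 2 ∣ Fintype.card F := by
    intro F _ _ _
    obtain ⟨⟨n, hn⟩, -, hc⟩ := FiniteField.card F 2
    rw [hc]
    exact dvd_pow_self 2 hn.ne'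
  rcases h with ⟨F, i1, i2, i3, h4, he⟩ | ⟨F, i1, i2, i3, q, hF, hq, -⟩
  · refine ⟨F, i1, i2, ?_, he⟩
    have := key F
    rcases h4 with h4 | h4 | h4
    · exact h4
    · rw [h4] at this; omega
    · rw [h4] at this; omega
  · exfalso
    have h2 := key F
    rw [hF] at h2
    rcases hq with rfl | rfl
    · omega
    · omega

/-- **`OwnR1 2 G`**, `G = ²F₄(q)` -/
theorem ownR1_tf4 (hR : R1All) {G : Type} [Group G] [Finite G] [IsSimpleGroup G] (hG : Cfsg.Lie.Iso2F4 G)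
    (hsm : ∀ (H N : Subgroup G) (T : Type) [Group T] (e : N ≃* (Fin 1 → T)), EPS H N e →
      ∀ (F : Type) [Field F] [Fintype F], Fintype.card F = 4 →
      (T ≃* Matrix.ProjectiveSpecialLinearGroup (Fin 2) F) → False) : OwnR1 2 G := by
  have : Fact (Nat.Prime 2) := ⟨Nat.prime_two⟩
  refine ownR1_can hR (hasCan_TF4 hG) fun H N T _ e h hT => ?_
  obtain ⟨F, _, _, h4, ⟨f⟩⟩ := small_two hT
  exact hsm H N T e h F h4 f

/-- **`Own 2 G`**, `G = ²F₄(q)` -/
theorem own_tf4 (hR : R1All) {G : Type} [Group G] [Finite G] [IsSimpleGroup G] (hG : Cfsg.Lie.Iso2F4 G)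
    (h2 : OwnQ2 G)
    (hsm : ∀ (H N : Subgroup G) (T : Type) [Group T] (e : N ≃* (Fin 1 → T)), EPS H N e →
      ∀ (F : Type) [Field F] [Fintype F], Fintype.card F = 4 →
      (T ≃* Matrix.ProjectiveSpecialLinearGroup (Fin 2) F) → False) : Own 2 G := by
  have : Fact (Nat.Prime 2) := ⟨Nat.prime_two⟩
  exact own_dq (gSide_of_hasCan (hasCan_TF4 hG)) (fun _ => h2) (ownR1_tf4 hR hG hsm)

end Cfsg.Agent.H564.EPF
end

-- part: H564/EPF/A5
section
/-!
# S5745: no stabiliser with socle `A₅` in a large group (helper564; the bound of helper929)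

* `a5_false` : `|G| > 59 · 2^60 · 120`;
* `a5_tf4` : `G = ²F₄(q)`;
* `own_tf4_fin` : `Own 2 G`, `G = ²F₄(q)`, from `R1All` and `OwnQ2 G`.
-/

set_option autoImplicit false
set_option linter.unusedSectionVars false

namespace Cfsg.Agent.H564.EPF

open Cfsg.Agent.H284 Cfsg.Agent.H209.EPX Cfsg.Agent.H542.EPX Cfsg.Agent.H929.TB Cfsg.Agent.H470.EPO
open Cfsg.Agent.H419.EP Cfsg.Agent.H417.EP Cfsg.Agent.H226.EX

/-- **socle `A₅` in a large group** -/
theorem a5_false {F : Type} [Field F] [Fintype F] (hF : Fintype.card F = 4) {G : Type} [Group G] [Finite G]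
    [IsSimpleGroup G] {H N : Subgroup G} {T : Type} [Group T] {e : N ≃* (Fin 1 → T)} (h : EPS H N e)
    (i : T ≃* Matrix.ProjectiveSpecialLinearGroup (Fin 2) F) (hG : 59 * 2 ^ 60 * 120 < Nat.card G) : False := by
  classical
  have hp : Fact (Nat.Prime 2) := ⟨Nat.prime_two⟩
  have hc : Nat.card (Matrix.ProjectiveSpecialLinearGroup (Fin 2) F) = 60 := by
    have h2 := Cfsg.Agent.H394.SqPsl2.card_psl (F := F)
    rw [hF] at h2
    have h3 : Nat.gcd 2 (4 - 1) = 1 := by norm_num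
    rw [h3, one_mul] at h2
    simpa using h2
  have hm : {K : Subgroup (Matrix.ProjectiveSpecialLinearGroup (Fin 2) F) | Adm K}.ncard ≤ 2 ^ 60 := by
    have h1 : {K : Subgroup (Matrix.ProjectiveSpecialLinearGroup (Fin 2) F) | Adm K}.ncard ≤
        Nat.card (Set (Matrix.ProjectiveSpecialLinearGroup (Fin 2) F)) := by
      rw [← Nat.card_coe_set_eq]
      exact Nat.card_le_card_of_injective
        (fun K : {K : Subgroup (Matrix.ProjectiveSpecialLinearGroup (Fin 2) F) | Adm K} =>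
          ((K : Subgroup (Matrix.ProjectiveSpecialLinearGroup (Fin 2) F)) :
            Set (Matrix.ProjectiveSpecialLinearGroup (Fin 2) F)))
        (fun a b hab => Subtype.ext (SetLike.coe_injective hab))
    refine h1.trans (le_of_eq ?_)
    have : Fintype (Matrix.ProjectiveSpecialLinearGroup (Fin 2) F) := Fintype.ofFinite _
    rw [Nat.card_eq_fintype_card, Fintype.card_set, ← Nat.card_eq_fintype_card, hc]
  have h1 := index_all (ept_of_eps h) ((hasSoc_of_eps h).congr i) (by omega) hm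
  rw [hc] at h1
  have hB : H.index ≤ 59 * 2 ^ 60 := by omega
  exact dead h i hB (card_aut (p := 2) (f := 2) (q := 4) (by norm_num) hF (by norm_num) (by norm_num)) (by
    norm_num at hG ⊢
    exact hG)

/-- the order of `²F₄(q)` -/
theorem card_tf4_gt {G : Type} [Group G] (hG : Cfsg.Lie.Iso2F4 G) : 59 * 2 ^ 60 * 120 < Nat.card G := by
  obtain ⟨K, _, _, m, hm, hK, ⟨f⟩⟩ := hG
  rw [Nat.card_congr f.toEquiv, Cfsg.Agent.S1068.result hK]
  have h8 : 8 ≤ 2 ^ (2 * m + 1) := by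
    calc 8 = 2 ^ 3 := by norm_num
      _ ≤ 2 ^ (2 * m + 1) := Nat.pow_le_pow_right (by norm_num) (by omega)
  generalize 2 ^ (2 * m + 1) = q at h8
  have h1 : 8 ^ 12 ≤ q ^ 12 := Nat.pow_le_pow_left h8 12
  have h2 : 7 ≤ q - 1 := by omega
  have h3 : 8 ^ 3 + 1 ≤ q ^ 3 + 1 := Nat.succ_le_succ (Nat.pow_le_pow_left h8 3)
  have h4 : 8 ^ 4 - 1 ≤ q ^ 4 - 1 := Nat.sub_le_sub_right (Nat.pow_le_pow_left h8 4) 1
  have h6 : 8 ^ 6 + 1 ≤ q ^ 6 + 1 := Nat.succ_le_succ (Nat.pow_le_pow_left h8 6)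
  calc 59 * 2 ^ 60 * 120 < 8 ^ 12 * 7 * (8 ^ 3 + 1) * (8 ^ 4 - 1) * (8 ^ 6 + 1) := by norm_num
    _ ≤ _ := Nat.mul_le_mul (Nat.mul_le_mul (Nat.mul_le_mul (Nat.mul_le_mul h1 h2) h3) h4) h6

/-- **`Own 2 G`**, `G = ²F₄(q)` -/
theorem own_tf4_fin (hR : R1All) {G : Type} [Group G] [Finite G] [IsSimpleGroup G] (hG : Cfsg.Lie.Iso2F4 G)
    (h2 : OwnQ2 G) : Own 2 G :=
  own_tf4 hR hG h2 fun _ _ _ _ _ h _ _ _ h4 f => a5_false h4 h f (card_tf4_gt hG)

end Cfsg.Agent.H564.EPF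
end

-- part: H137/EPX/Resid
section
/-!
# No large torus of `U₃(q)` in the residual class of `GL₃(F)` (helper137, for helper987)

`resid` : a member of the residual class of `GL₃(F)` with core `L₃(2)` or `A₆` has no element whose order modulo scalars
is a multiple of `(q² - 1) / 3`, `q ≥ 7` odd.
-/

set_option autoImplicit false
set_option linter.unusedSectionVars false

namespace Cfsg.Agent.H137.EPX.Resid

open Subgroup Equiv
open scoped Pointwise

section perm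

/-- orders divisible by `8` in the symmetric groups of degree at most `10` -/
theorem order_eight {α : Type*} [Fintype α] [DecidableEq α] (hα : Fintype.card α ≤ 10) (σ : Perm α)
    (h8 : 8 ∣ orderOf σ) : orderOf σ = 8 := by
  have hsum : σ.cycleType.sum ≤ 10 := by
    rw [Perm.sum_cycleType]
    exact (Finset.card_le_univ _).trans hα
  have hle : ∀ c ∈ σ.cycleType, c ≤ 10 := fun c hc => (Multiset.single_le_sum (fun _ _ => Nat.zero_le _) c hc).trans hsum
  have h2 : ∀ c ∈ σ.cycleType, 2 ≤ c := fun c hc => Perm.two_le_of_mem_cycleType hc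
  have hmem : 8 ∈ σ.cycleType := by
    by_contra hcon
    have h1 : σ.cycleType.lcm ∣ 1260 := by
      rw [Multiset.lcm_dvd]
      intro c hc
      have h3 := hle c hc
      have h4 := h2 c hc
      have h5 : c ≠ 8 := fun e => hcon (e ▸ hc)
      interval_cases c <;> first | decide | exact absurd rfl h5
    rw [Perm.lcm_cycleType] at h1
    have := h8.trans h1
    norm_num at this
  obtain ⟨t, ht⟩ := Multiset.exists_cons_of_mem hmem
  apply Nat.dvd_antisymm _ h8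
  rw [← Perm.lcm_cycleType, Multiset.lcm_dvd]
  intro c hc
  rw [ht, Multiset.mem_cons] at hc
  rcases hc with rfl | hc
  · exact dvd_rfl
  · have h3 : c ≤ t.sum := Multiset.single_le_sum (fun _ _ => Nat.zero_le _) c hc
    rw [ht, Multiset.sum_cons] at hsum
    have h4 : 2 ≤ c := h2 c (by rw [ht]; exact Multiset.mem_cons_of_mem hc)
    have h5 : c = 2 := by omega
    rw [h5]
    norm_num

end perm

section aut

variable {X : Type*} [Group X] [Finite X] [IsSimpleGroup X] {p : ℕ} [Fact p.Prime]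

/-- the automorphism group is faithful on the Sylow subgroups -/
theorem faithful (hN : 1 < Nat.card (Sylow p X)) (a : MulAut X) (ha : ∀ P : Sylow p X, a • P = P) : a = 1 := by
  have hker : (MulAction.toPermHom X (Sylow p X)).ker = ⊥ := by
    rcases (inferInstance : (MulAction.toPermHom X (Sylow p X)).ker.Normal).eq_bot_or_eq_top with h | h
    · exact h
    · exfalso
      obtain ⟨P, Q, hPQ⟩ := Finite.one_lt_card_iff_nontrivial.1 hN
      obtain ⟨g, rfl⟩ := MulAction.exists_smul_eq X P Q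
      apply hPQ
      have h1 : g ∈ (MulAction.toPermHom X (Sylow p X)).ker := by rw [h]; trivial
      have h2 := congrArg (fun σ : Perm (Sylow p X) => σ P) (MonoidHom.mem_ker.1 h1)
      exact h2.symm
  ext x
  have h1 : x⁻¹ * a x ∈ (MulAction.toPermHom X (Sylow p X)).ker := by
    rw [MonoidHom.mem_ker]
    ext1 P
    show (x⁻¹ * a x) • P = P
    have h2 : a • (x • P) = (a x) • (a • P) := by
      show a • (MulAut.conj x • P) = MulAut.conj (a x) • (a • P)
      rw [← mul_smul, ← mul_smul]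
      congr 1
      ext y
      simp [MulAut.mul_apply]
    rw [ha, ha] at h2
    rw [mul_smul, ← h2, inv_smul_smul]
  rw [hker, mem_bot, inv_mul_eq_one] at h1
  exact h1.symm

/-- automorphisms of order divisible by `8` -/
theorem order_aut (hN : 1 < Nat.card (Sylow p X)) (hN10 : Nat.card (Sylow p X) ≤ 10) (a : MulAut X)
    (h8 : 8 ∣ orderOf a) : orderOf a = 8 := by
  classical
  have := Fintype.ofFinite (Sylow p X)
  have hinj : Function.Injective (MulAction.toPermHom (MulAut X) (Sylow p X)) := by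
    rw [injective_iff_map_eq_one]
    intro b hb
    apply faithful hN
    intro P
    exact congrArg (fun σ : Perm (Sylow p X) => σ P) hb
  rw [← orderOf_injective _ hinj] at h8 ⊢
  exact order_eight (by rwa [← Nat.card_eq_fintype_card]) _ h8

end aut

theorem card_psl32 {F : Type*} [Field F] [Fintype F] (hF : Fintype.card F = 2) :
    Nat.card (Matrix.ProjectiveSpecialLinearGroup (Fin 3) F) = 168 := by
  have h := S0243.result hF 3 (by norm_num)
  rw [Fin.prod_univ_three] at h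
  norm_num at h
  omega

/-- `|Syl₇| = 8` in a simple group of order `168` -/
theorem card_sylow_seven {X : Type*} [Group X] [Finite X] [IsSimpleGroup X] (h : Nat.card X = 168) :
    1 < Nat.card (Sylow 7 X) ∧ Nat.card (Sylow 7 X) ≤ 10 := by
  have hf : Fact (Nat.Prime 7) := ⟨by norm_num⟩
  obtain ⟨P⟩ : Nonempty (Sylow 7 X) := inferInstance
  have hP : Nat.card (P : Subgroup X) = 7 := by
    have h2 : 7 ^ 1 ∣ Nat.card (P : Subgroup X) := P.pow_dvd_card_of_pow_dvd_card (by rw [h]; norm_num)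
    obtain ⟨k, hk⟩ := IsPGroup.iff_card.1 P.isPGroup'
    have h3 : Nat.card (P : Subgroup X) ∣ 168 := by rw [← h]; exact Subgroup.card_subgroup_dvd_card _
    rw [hk] at h2 h3 ⊢
    have h4 : 1 ≤ k := (Nat.pow_dvd_pow_iff_le_right (by norm_num)).1 h2
    have h5 : k ≤ 1 := by
      by_contra hcon
      have h6 : 7 ^ 2 ∣ 168 := (pow_dvd_pow 7 (by omega)).trans h3
      norm_num at h6
    rw [(by omega : k = 1), pow_one]
  have h1 : Nat.card (Sylow 7 X) ≡ 1 [MOD 7] := card_sylow_modEq_one 7 X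
  have h2 : Nat.card (Sylow 7 X) ∣ 24 := by
    have h2 := P.card_dvd_index
    have h3 := (P : Subgroup X).card_mul_index
    rw [hP, h] at h3
    have : (P : Subgroup X).index = 24 := by omega
    rwa [this] at h2
  have h0 : Nat.card (Sylow 7 X) ≠ 1 := by
    intro e
    have h3 := P.card_eq_index_normalizer
    rw [e] at h3
    have h4 : normalizer ((P : Subgroup X) : Set X) = ⊤ := Subgroup.index_eq_one.1 h3.symm
    have h5 : (P : Subgroup X).Normal := Subgroup.normalizer_eq_top_iff.1 h4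
    rcases h5.eq_bot_or_eq_top with h6 | h6
    · rw [h6, Subgroup.card_bot] at hP
      omega
    · rw [h6, Subgroup.card_top] at hP
      omega
  have h3 := Nat.le_of_dvd (by norm_num) h2
  have h4 : Nat.card (Sylow 7 X) % 7 = 1 := h1
  rcases (by omega : Nat.card (Sylow 7 X) = 8 ∨ Nat.card (Sylow 7 X) = 15 ∨ Nat.card (Sylow 7 X) = 22) with h5 | h5 | h5
  · omega
  · rw [h5] at h2
    norm_num at h2
  · rw [h5] at h2
    norm_num at h2

end Cfsg.Agent.H137.EPX.Resid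

namespace Cfsg.Agent.H137.EPX

open Cfsg

theorem resid {F : Type*} [Field F] [Fintype F] {q : ℕ} (hq : 7 ≤ q) (hodd : Odd q)
    {H P : Subgroup (Matrix.GeneralLinearGroup (Fin 3) F)} (hP : Cfsg.Geo.IsResidualCore H P)
    {g : Matrix.GeneralLinearGroup (Fin 3) F} (hg : g ∈ H)
    (hord : ∀ k : ℕ, g ^ k ∈ Cfsg.Geo.scalars (Fin 3) F → q ^ 2 - 1 ∣ 3 * k)
    (hiso : Nonempty ((P ⧸ (Cfsg.Geo.scalars (Fin 3) F).subgroupOf P) ≃* Matrix.ProjectiveSpecialLinearGroup (Fin 3) (ZMod 2)) ∨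
      Nonempty ((P ⧸ (Cfsg.Geo.scalars (Fin 3) F).subgroupOf P) ≃* alternatingGroup (Fin 6))) : False := by
  classical
  have hfin : Finite (Matrix.GeneralLinearGroup (Fin 3) F) := inferInstance
  have hsim := hP.simple
  obtain ⟨φ, hφ⟩ := H900.SU4.exists_core_inj hP
  let gb : H ⧸ (Geo.scalars (Fin 3) F).subgroupOf H := QuotientGroup.mk' _ ⟨g, hg⟩
  have h1 : g ^ orderOf (φ gb) ∈ Geo.scalars (Fin 3) F := by
    have h2 : gb ^ orderOf (φ gb) = 1 := by
      apply hφ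
      rw [map_pow, pow_orderOf_eq_one, map_one]
    have h3 : (QuotientGroup.mk' ((Geo.scalars (Fin 3) F).subgroupOf H)) ((⟨g, hg⟩ : H) ^ orderOf (φ gb)) = 1 := by
      rw [map_pow]
      exact h2
    have h4 := (QuotientGroup.eq_one_iff _).1 h3
    exact h4
  have h2 := hord _ h1
  have h8 : 8 ∣ q ^ 2 - 1 := by
    obtain ⟨k, rfl⟩ := hodd
    have e : (2 * k + 1) ^ 2 - 1 = 4 * (k * (k + 1)) := by
      have : (2 * k + 1) ^ 2 = 4 * (k * (k + 1)) + 1 := by ring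
      omega
    rw [e]
    obtain ⟨l, hl⟩ := Nat.even_mul_succ_self k
    exact ⟨l, by rw [hl]; ring⟩
  have h9 : 8 ∣ orderOf (φ gb) := by
    have := h8.trans h2
    omega
  have h10 : orderOf (φ gb) = 8 := by
    rcases hiso with ⟨⟨e⟩⟩ | ⟨⟨e⟩⟩
    · have hc : Nat.card (P ⧸ (Geo.scalars (Fin 3) F).subgroupOf P) = 168 := by
        rw [Nat.card_congr e.toEquiv]
        exact Resid.card_psl32 (ZMod.card 2)
      obtain ⟨h3, h4⟩ := Resid.card_sylow_seven hc
      have hf : Fact (Nat.Prime 7) := ⟨by norm_num⟩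
      exact Resid.order_aut h3 h4 _ h9
    · have hc : Nat.card (P ⧸ (Geo.scalars (Fin 3) F).subgroupOf P) = 360 := by
        rw [Nat.card_congr e.toEquiv, Nat.card_eq_fintype_card]
        have := two_mul_card_alternatingGroup (α := Fin 6)
        rw [Fintype.card_perm, Fintype.card_fin] at this
        have h6 : Nat.factorial 6 = 720 := by rfl
        omega
      have h3 := Classification.Order360.card_sylow_three hc
      have hf : Fact (Nat.Prime 3) := ⟨Nat.prime_three⟩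
      exact Resid.order_aut (p := 3) (by rw [h3]; norm_num) (by rw [h3]) _ h9
  rw [h10] at h2
  have h11 := Nat.le_of_dvd (by norm_num) h2
  have h12 : 7 ^ 2 ≤ q ^ 2 := Nat.pow_le_pow_left hq 2
  omega

end Cfsg.Agent.H137.EPX
end

-- part: H987/R1/U3Res
section
/-!
# The residual class: `NoRes` from the statement of S5779 (helper987, S5745 OwnR1)
-/

set_option autoImplicit false

namespace Cfsg.Agent.H987.R1

open Matrix Subgroup
open Cfsg Cfsg.Geo

/-- the statement of S5779 in the lowest universe -/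
def ResSt : Prop :=
  ∀ (F : Type) [Field F] [Fintype F] (q : ℕ) (_ : Fintype.card F = q ^ 2) (_ : 3 ≤ q)
    (H : Subgroup (Matrix.GeneralLinearGroup (Fin 3) F))
    (_ : IsMaximalIn (GU 3 F q ⊓ specialLinear (Fin 3) F) H) (_ : InUnitaryResidualClass H),
    ∃ P : Subgroup (Matrix.GeneralLinearGroup (Fin 3) F), IsResidualCore H P ∧ q.Prime ∧
    ((Nonempty ((P ⧸ (scalars (Fin 3) F).subgroupOf P) ≃* Matrix.ProjectiveSpecialLinearGroup (Fin 3) (ZMod 2)) ∧
        q ≠ 5 ∧ (q % 7 = 3 ∨ q % 7 = 5 ∨ q % 7 = 6)) ∨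
     (Nonempty ((P ⧸ (scalars (Fin 3) F).subgroupOf P) ≃* alternatingGroup (Fin 6)) ∧
        (q % 15 = 11 ∨ q % 15 = 14 ∨ q = 5)) ∨
     (Nonempty ((P ⧸ (scalars (Fin 3) F).subgroupOf P) ≃* alternatingGroup (Fin 7)) ∧ q = 5))

theorem no_res (h : ResSt) : NoRes := by
  intro F _ _ q g hF hq hord H hH hg hres
  obtain ⟨P, hP, hqp, hc⟩ := h F q hF (by omega) H hH hres
  have h7 : 7 ≤ q := by
    rcases hq with rfl | h7
    · exact absurd hqp (by norm_num)
    · exact h7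
  have hodd : Odd q := hqp.odd_of_ne_two (by omega)
  refine Cfsg.Agent.H137.EPX.resid h7 hodd hP hg hord ?_
  rcases hc with ⟨h1, -⟩ | ⟨h1, -⟩ | ⟨-, h1⟩
  · exact Or.inl h1
  · exact Or.inr h1
  · omega

/-- the field `psu` of `R1All` (helper470) -/
theorem psu_of (hN : NoRes) {p : ℕ} [hp : Fact p.Prime] {F : Type} [Field F] [Fintype F] [CharP F p] {q : ℕ}
    (hF : Fintype.card F = q ^ 2) (h4 : 4 ≤ q) (h5 : q ≠ 5) {T : Type} [Group T] (e : T ≃* PSU 3 F q) :
    ∃ D : Cfsg.Agent.H470.EPO.R1 p T, D.Hyp := by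
  refine r1_psu3 hN hF ?_ e
  by_contra hcon
  have h6 : q = 6 := by omega
  subst h6
  obtain ⟨⟨n, hn⟩, hp, hc⟩ := FiniteField.card F p
  simp only [PNat.mk_coe] at hc
  rw [hF] at hc
  have h2 : 2 ∣ p ^ n := hc ▸ (by norm_num : 2 ∣ 6 ^ 2)
  have h3 : 3 ∣ p ^ n := hc ▸ (by norm_num : 3 ∣ 6 ^ 2)
  have h2' := (Nat.prime_dvd_prime_iff_eq Nat.prime_two hp).1 (Nat.prime_two.dvd_of_dvd_pow h2)
  have h3' := (Nat.prime_dvd_prime_iff_eq Nat.prime_three hp).1 (Nat.prime_three.dvd_of_dvd_pow h3)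
  omega

end Cfsg.Agent.H987.R1
end

-- part: H987/R1/U3Fin
section
/-!
# `R1` and `Hyp` for `PSU(3,q)`, `q = 4` or `q ≥ 7`, unconditional (helper987, S5745 OwnR1)
-/

set_option autoImplicit false

namespace Cfsg.Agent.H987.R1

open Cfsg

theorem resSt : ResSt := fun _ _ _ _ hF hq H hH hS => Cfsg.Agent.H856.U3.main hF hq H hH hS

theorem noRes : NoRes := no_res resSt

/-- the field `psu` of `R1All` (helper470) -/
theorem psu {p : ℕ} [Fact p.Prime] {F : Type} [Field F] [Fintype F] [CharP F p] {q : ℕ}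
    (hF : Fintype.card F = q ^ 2) (h4 : 4 ≤ q) (h5 : q ≠ 5) {T : Type} [Group T] (e : T ≃* PSU 3 F q) :
    ∃ D : H470.EPO.R1 p T, D.Hyp := psu_of noRes hF h4 h5 e

end Cfsg.Agent.H987.R1
end

-- part: H470/EPO/R1AllFin
section
/-!
# `R1All` (helper470; `PSL₂` helper375, `PSU₃` helper987, `Sz` helper451, `Ree` helper137)
-/

set_option autoImplicit false

namespace Cfsg.Agent.H470.EPO

/-- **`R1All`** -/
theorem r1All : R1All where
  psl := fun h7 h9 _ _ e => H375.EPR.LTwo.r1_psl h7 h9 e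
  psu := fun hF h4 h5 _ _ e => H987.R1.psu hF h4 h5 e
  sz := fun h => H451.EPX.r1_sz h
  ree := fun h => H137.EPX.r1_isoRee h

end Cfsg.Agent.H470.EPO
end

-- part: H371/EPF/Fin
section
/-!
# S5745, the cell `²F₄(q)`, `q = 2 ^ (2 m + 1) ≥ 8` : assembly (helper371)

* `own_tf4` : own characteristic;
* `kill_tf4` : all six cells;
* `noEP_tf4` : no extremely primitive stabiliser (the field `tf4` of `Cells`).
-/

set_option autoImplicit false
set_option linter.unusedSectionVars false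

namespace Cfsg.Agent.H371.EPF

open Cfsg.Agent.H284 Cfsg.Agent.H209.EPX Cfsg.Agent.H542.EPX Cfsg.Agent.H470.EPO

/-- **`²F₄(q)`, own characteristic** -/
theorem own_tf4 (K : Type) [Field K] [Fintype K] (m : ℕ) [IsSimpleGroup ↥(Lie.twistedF4 K (2 ^ m))] (hm : 1 ≤ m)
    (hK : Fintype.card K = 2 ^ (2 * m + 1)) : Own 2 ↥(Lie.twistedF4 K (2 ^ m)) := by
  have : Finite ↥(Lie.twistedF4 K (2 ^ m)) := inferInstance
  exact Cfsg.Agent.H564.EPF.own_tf4_fin r1All ⟨K, inferInstance, inferInstance, m, hm, hK, ⟨MulEquiv.refl _⟩⟩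
    (Cfsg.Agent.H247.EPF.ownQ2_tf4 hm hK)

/-- **`²F₄(q)`: all six cells** -/
theorem kill_tf4 (K : Type) [Field K] [Fintype K] (m : ℕ) [IsSimpleGroup ↥(Lie.twistedF4 K (2 ^ m))] (hm : 1 ≤ m)
    (hK : Fintype.card K = 2 ^ (2 * m + 1)) : Kill 2 ↥(Lie.twistedF4 K (2 ^ m)) where
  spor := Cfsg.Agent.H768.EPX.TF4.spor_tf4 Cfsg.Agent.H59.EP.twoGen K m hm hK
  cross := cross_tf4 Cfsg.Agent.H59.EP.twoGen (fun X _ _ hX => @Cfsg.Agent.S0000.result X _ _ hX) K m hm hK
  crossk := crossK_tf4 K m hm hK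
  own := own_tf4 K m hm hK
  aff := Cfsg.Agent.H355.AFF.aff_tf4 K m hm hK
  two := Cfsg.Agent.H290.Two.two _

/-- **The field `tf4` of `Cells`** -/
theorem noEP_tf4 (K : Type) [Field K] [Fintype K] (m : ℕ) [IsSimpleGroup ↥(Lie.twistedF4 K (2 ^ m))] (hm : 1 ≤ m)
    (hK : Fintype.card K = 2 ^ (2 * m + 1)) : NoEP ↥(Lie.twistedF4 K (2 ^ m)) :=
  (kill_tf4 K m hm hK).noEP

end Cfsg.Agent.H371.EPF
end

private theorem dce_beadfa98c773 : _root_.True := by
  try have : _root_.True := by simp only [_root_.Cfsg.Agent.H768.EPX.TF4.chkm.eq_def]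
  try have : _root_.True := by simp only [_root_.Cfsg.Agent.H768.EPX.TF4.od.eq_1]
  try have : _root_.True := by simp only [_root_.Cfsg.Agent.H768.EPX.TF4.chkm.eq_1]
  try have : _root_.True := by simp only [_root_.Cfsg.Agent.H768.EPX.TF4.okm.eq_1]
  try have : _root_.True := by simp only [_root_.Cfsg.Agent.H768.EPX.TF4.chkm.eq_2]
  exact _root_.True.intro
end

-- part: H805/EPX/Spor_e6
section
set_option linter.all false
open scoped Cfsg.Agent.FastGrp

/-!
# S5745, sporadic socles in the family e6 (helper805)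
-/

set_option autoImplicit false
set_option maxHeartbeats 4000000

namespace Cfsg.Agent.H805.EPX

open Subgroup Cfsg Cfsg.Agent.H284 Cfsg.Agent.H209.EPX Cfsg.Agent.H59.EP Cfsg.Agent.H419.EP Cfsg.Agent.H226.EX
  Cfsg.Agent.H542.EPX

theorem c_e6_m11 : chk19 .e6 7920 (2 ^ 49) [] [] 2 = true := by decide +kernel

theorem c_e6_m12 : chk19 .e6 95040 (2 ^ 65) [] [] 2 = true := by decide +kernel

theorem c_e6_m22 : chk19 .e6 443520 (2 ^ 75) [] [] 2 = true := by decide +kernel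

theorem c_e6_m23 : chk19 .e6 10200960 (2 ^ 97) [] [] 3 = true := by decide +kernel

theorem c_e6_m24 : chk19 .e6 244823040 (2 ^ 120) [] [] 3 = true := by decide +kernel

theorem c_e6_j1 : chk19 .e6 175560 (2 ^ 68) [] [] 2 = true := by decide +kernel

theorem c_e6_j2 : chk19 .e6 604800 (2 ^ 77) [] [] 3 = true := by decide +kernel

theorem c_e6_j3 : chk19 .e6 50232960 (2 ^ 108) [] [] 3 = true := by decide +kernel

theorem c_e6_j4 : chk19 .e6 86775571046077562880 (2 ^ 322) [] [] 18 = true := by decide +kernel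

theorem c_e6_co1 : chk19 .e6 4157776806543360000 (2 ^ 309) [] [] 16 = true := by decide +kernel

theorem c_e6_co2 : chk19 .e6 42305421312000 (2 ^ 228) [] [] 8 = true := by decide +kernel

theorem c_e6_co3 : chk19 .e6 495766656000 (2 ^ 175) [] [] 5 = true := by decide +kernel

theorem c_e6_mcl : chk19 .e6 898128000 (2 ^ 129) [] [] 4 = true := by decide +kernel

theorem c_e6_hs : chk19 .e6 44352000 (2 ^ 107) [] [] 3 = true := by decide +kernel

theorem c_e6_suz : chk19 .e6 448345497600 (2 ^ 174) [3, 4] [] 5 = true := by decide +kernel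

theorem c_e6_he : chk19 .e6 4030387200 (2 ^ 140) [2] [] 4 = true := by decide +kernel

theorem c_e6_ru : chk19 .e6 145926144000 (2 ^ 170) [] [] 5 = true := by decide +kernel

theorem c_e6_on : chk19 .e6 460815505920 (2 ^ 174) [4] [] 5 = true := by decide +kernel

theorem c_e6_ly : chk19 .e6 51765179004000000 (2 ^ 258) [] [] 11 = true := by decide +kernel

theorem c_e6_fi22 : chk19 .e6 64561751654400 (2 ^ 221) [3, 4] [] 8 = true := by decide +kernel

theorem c_e6_fi23 : chk19 .e6 4089470473293004800 (2 ^ 289) [] [] 14 = true := by decide +kernel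

theorem c_e6_fi24 : chk19 .e6 1255205709190661721292800 (2 ^ 381) [] [23] 30 = true := by decide +kernel

theorem c_e6_hn : chk19 .e6 273030912000000 (2 ^ 220) [5] [] 8 = true := by decide +kernel

theorem c_e6_th : chk19 .e6 90745943887872000 (2 ^ 262) [] [] 11 = true := by decide +kernel

theorem c_e6_b : chk19 .e6 4154781481226426191177580544000000 (2 ^ 778) [] [47] 1021 = true := by decide +kernel

theorem c_e6_m : chk19 .e6 808017424794512875886459904961710757005754368000000000 (2 ^ 1092) [] [59, 23] 16617 = true := by decide +kernel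

/-- the survivors of the sieve, for any group of the order of the family -/
theorem main_e6 (hg : TwoGen.{0}) {G : Type} [Group G] [Finite G] [IsSimpleGroup G] {H N : Subgroup G} {T : Type}
    [Group T] {e : N ≃* (Fin 1 → T)} (h : EPS H N e) (hT : IsSporadicGroup T) {q : ℕ} (hq : IsPrimePow q)
    (hC : dn .e6 q * Nat.card G = nm .e6 q) : (q = 3 ∧ Spor.IsoSuz T) ∨ (q = 4 ∧ Spor.IsoSuz T) ∨ (q = 2 ∧ Spor.IsoHe T) ∨ (q = 4 ∧ Spor.IsoON T) ∨ (q = 3 ∧ Spor.IsoFi22 T) ∨ (q = 4 ∧ Spor.IsoFi22 T) ∨ (q = 5 ∧ Spor.IsoHN T) := by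
  rcases hT with h1 | h1 | h1 | h1 | h1 | h1 | h1 | h1 | h1 | h1 | h1 | h1 | h1 | h1 | h1 | h1 | h1 | h1 | h1 | h1 | h1 | h1 | h1 | h1 | h1 | h1
  · obtain ⟨hB, hd⟩ := le_m11 hg h h1
    have h2 := surv19 c_e6_m11 hq hC hd hB
    exact absurd h2 List.not_mem_nil
  · obtain ⟨hB, hd⟩ := le_m12 hg h h1
    have h2 := surv19 c_e6_m12 hq hC hd hB
    exact absurd h2 List.not_mem_nil
  · obtain ⟨hB, hd⟩ := le_m22 hg h h1
    have h2 := surv19 c_e6_m22 hq hC hd hB
    exact absurd h2 List.not_mem_nil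
  · obtain ⟨hB, hd⟩ := le_m23 hg h h1
    have h2 := surv19 c_e6_m23 hq hC hd hB
    exact absurd h2 List.not_mem_nil
  · obtain ⟨hB, hd⟩ := le_m24 hg h h1
    have h2 := surv19 c_e6_m24 hq hC hd hB
    exact absurd h2 List.not_mem_nil
  · obtain ⟨hB, hd⟩ := le_j1 hg h h1
    have h2 := surv19 c_e6_j1 hq hC hd hB
    exact absurd h2 List.not_mem_nil
  · obtain ⟨hB, hd⟩ := le_j2 hg h h1
    have h2 := surv19 c_e6_j2 hq hC hd hB
    exact absurd h2 List.not_mem_nil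
  · obtain ⟨hB, hd⟩ := le_j3 hg h h1
    have h2 := surv19 c_e6_j3 hq hC hd hB
    exact absurd h2 List.not_mem_nil
  · obtain ⟨hB, hd⟩ := le_j4 hg h h1
    have h2 := surv19 c_e6_j4 hq hC hd hB
    exact absurd h2 List.not_mem_nil
  · obtain ⟨hB, hd⟩ := le_co1 hg h h1
    have h2 := surv19 c_e6_co1 hq hC hd hB
    exact absurd h2 List.not_mem_nil
  · obtain ⟨hB, hd⟩ := le_co2 hg h h1
    have h2 := surv19 c_e6_co2 hq hC hd hB
    exact absurd h2 List.not_mem_nil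
  · obtain ⟨hB, hd⟩ := le_co3 hg h h1
    have h2 := surv19 c_e6_co3 hq hC hd hB
    exact absurd h2 List.not_mem_nil
  · obtain ⟨hB, hd⟩ := le_mcl hg h h1
    have h2 := surv19 c_e6_mcl hq hC hd hB
    exact absurd h2 List.not_mem_nil
  · obtain ⟨hB, hd⟩ := le_hs hg h h1
    have h2 := surv19 c_e6_hs hq hC hd hB
    exact absurd h2 List.not_mem_nil
  · obtain ⟨hB, hd⟩ := le_suz hg h h1
    have h2 := surv19 c_e6_suz hq hC hd hB
    simp only [List.mem_cons, List.not_mem_nil, or_false] at h2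
    tauto
  · obtain ⟨hB, hd⟩ := le_he hg h h1
    have h2 := surv19 c_e6_he hq hC hd hB
    simp only [List.mem_cons, List.not_mem_nil, or_false] at h2
    tauto
  · obtain ⟨hB, hd⟩ := le_ru hg h h1
    have h2 := surv19 c_e6_ru hq hC hd hB
    exact absurd h2 List.not_mem_nil
  · obtain ⟨hB, hd⟩ := le_on hg h h1
    have h2 := surv19 c_e6_on hq hC hd hB
    simp only [List.mem_cons, List.not_mem_nil, or_false] at h2
    tauto
  · obtain ⟨hB, hd⟩ := le_ly hg h h1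
    have h2 := surv19 c_e6_ly hq hC hd hB
    exact absurd h2 List.not_mem_nil
  · obtain ⟨hB, hd⟩ := le_fi22 hg h h1
    have h2 := surv19 c_e6_fi22 hq hC hd hB
    simp only [List.mem_cons, List.not_mem_nil, or_false] at h2
    tauto
  · obtain ⟨hB, hd⟩ := le_fi23 hg h h1
    have h2 := surv19 c_e6_fi23 hq hC hd hB
    exact absurd h2 List.not_mem_nil
  · obtain ⟨hB, hd⟩ := le_fi24 hg h h1
    have h2 := surv19 c_e6_fi24 hq hC hd hB
    exact absurd h2 List.not_mem_nil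
  · obtain ⟨hB, hd⟩ := le_hn hg h h1
    have h2 := surv19 c_e6_hn hq hC hd hB
    simp only [List.mem_cons, List.not_mem_nil, or_false] at h2
    tauto
  · obtain ⟨hB, hd⟩ := le_th hg h h1
    have h2 := surv19 c_e6_th hq hC hd hB
    exact absurd h2 List.not_mem_nil
  · obtain ⟨hB, hd⟩ := le_b hg h h1
    have h2 := surv19 c_e6_b hq hC hd hB
    exact absurd h2 List.not_mem_nil
  · obtain ⟨hB, hd⟩ := le_m hg h h1
    have h2 := surv19 c_e6_m hq hC hd hB
    exact absurd h2 List.not_mem_nil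

/-- **the sporadic cell** -/
theorem spor_e6 (R : Rows) (hg : TwoGen.{0}) (F : Type) [Field F] [Fintype F]
    [IsSimpleGroup ↥(Lie.chevE6.group F)] : Spor ↥(Lie.chevE6.group F) := by
  intro H N T _ e h hT
  have hq : IsPrimePow (Fintype.card F) := Fintype.isPrimePow_card_of_field
  have hC : dn .e6 (Fintype.card F) * Nat.card ↥(Lie.chevE6.group F) = nm .e6 (Fintype.card F) := by
    have h1 := OrdDiv.table.{0}.e6 F _ rfl
    simp only [dn, nm, one_mul]
    exact h1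
  haveI : Finite ↥(Lie.chevE6.group F) := by
    apply Nat.finite_of_card_ne_zero
    intro h0
    have h1 := nm_mono .e6 hq.two_le
    rw [← hC, h0, mul_zero] at h1
    exact absurd h1 (by decide +kernel)
  rcases main_e6 hg h hT hq hC with ⟨h1, h2⟩ | ⟨h1, h2⟩ | ⟨h1, h2⟩ | ⟨h1, h2⟩ | ⟨h1, h2⟩ | ⟨h1, h2⟩ | ⟨h1, h2⟩
  · exact R.e6_3_Suz F h1 H N T e h h2
  · exact R.e6_4_Suz F h1 H N T e h h2
  · exact R.e6_2_He F h1 H N T e h h2
  · exact R.e6_4_ON F h1 H N T e h h2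
  · exact R.e6_3_Fi22 F h1 H N T e h h2
  · exact R.e6_4_Fi22 F h1 H N T e h h2
  · exact R.e6_5_HN F h1 H N T e h h2

end Cfsg.Agent.H805.EPX
end

-- part: H476/TF/RowFour
section
set_option linter.all false
open scoped Cfsg.Agent.FastGrp

-- part: H476/TF/TwoT
section
/-!
# No involution of the Tits group has a Sylow 2-subgroup as centralizer (helper476, for S5745)

This is the hypothesis of `H742.EX.EPS.hM_two` for `T` the Tits group.
-/

set_option autoImplicit false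

namespace Cfsg.Agent.H476.TF

open Subgroup Cfsg.Agent.TitsK
open scoped Pointwise

theorem two_dvd {G : Type*} [Group G] [Finite G] (D : TData G) (t : ↥D.T) (ht : orderOf t = 2)
    (h2 : IsPGroup 2 ↥(centralizer ({t} : Set ↥D.T))) : 2 ∣ (centralizer ({t} : Set ↥D.T)).index := by
  by_contra hi
  have h2f : Fact (Nat.Prime 2) := ⟨Nat.prime_two⟩
  have hS2 : IsPGroup 2 ↥(D.U.subgroupOf D.T) := D.isPGroup_U.comap_of_injective D.T.subtype D.T.subtype_injective
  have hSi : ¬ 2 ∣ (D.U.subgroupOf D.T).index := by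
    have h1 := D.odd_S
    rw [inf_relIndex_right] at h1
    exact h1
  obtain ⟨g, hg⟩ := MulAction.exists_smul_eq ↥D.T (h2.toSylow hi) (hS2.toSylow hSi)
  have hmem : ∀ y : ↥D.T, y ∈ centralizer ({t} : Set ↥D.T) ↔ ((g * y * g⁻¹ : ↥D.T) : G) ∈ D.U := by
    intro y
    have h1 : g * y * g⁻¹ ∈ ((g • (h2.toSylow hi : Sylow 2 ↥D.T) : Sylow 2 ↥D.T) : Subgroup ↥D.T) ↔
        y ∈ centralizer ({t} : Set ↥D.T) := by
      rw [Sylow.coe_subgroup_smul]
      have h3 : g * y * g⁻¹ = MulAut.conj g • y := rfl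
      rw [h3, smul_mem_pointwise_smul_iff]
      rfl
    rw [← h1, hg]
    rfl
  have hz0 : (g * t * g⁻¹ : ↥D.T) ≠ 1 := by
    intro h
    have h1 : t = 1 := by
      have : t = g⁻¹ * (g * t * g⁻¹) * g := by group
      rw [this, h]; group
    rw [h1, orderOf_one] at ht
    norm_num at ht
  have htU : ((g * t * g⁻¹ : ↥D.T) : G) ∈ D.U := (hmem t).1 (mem_centralizer_singleton_iff.2 rfl)
  have hcz : ((g * t * g⁻¹ : ↥D.T) : G) = D.z := by
    rcases D.cent_S _ htU (fun c hc => by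
      have h4 : (g⁻¹ * ⟨c, hc.2⟩ * g : ↥D.T) ∈ centralizer ({t} : Set ↥D.T) := by
        rw [hmem]
        have : g * (g⁻¹ * ⟨c, hc.2⟩ * g) * g⁻¹ = (⟨c, hc.2⟩ : ↥D.T) := by group
        rw [this]
        exact hc.1
      rw [mem_centralizer_singleton_iff] at h4
      have h5 : (⟨c, hc.2⟩ : ↥D.T) * (g * t * g⁻¹) = (g * t * g⁻¹) * ⟨c, hc.2⟩ := by
        calc (⟨c, hc.2⟩ : ↥D.T) * (g * t * g⁻¹) = g * ((g⁻¹ * ⟨c, hc.2⟩ * g) * t) * g⁻¹ := by group
          _ = g * (t * (g⁻¹ * ⟨c, hc.2⟩ * g)) * g⁻¹ := by rw [h4]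
          _ = (g * t * g⁻¹) * ⟨c, hc.2⟩ := by group
      exact congrArg Subtype.val h5.symm) with h5 | h5
    · exact absurd (Subtype.ext h5) hz0
    · exact h5
  have hb : (⟨D.zbm, D.zbm_mem⟩ : ↥D.T) * (g * t * g⁻¹) = (g * t * g⁻¹) * ⟨D.zbm, D.zbm_mem⟩ := by
    apply Subtype.ext
    show D.zbm * ((g * t * g⁻¹ : ↥D.T) : G) = ((g * t * g⁻¹ : ↥D.T) : G) * D.zbm
    rw [hcz]
    exact mul_inv_eq_iff_eq_mul.1 D.zbm_z
  have h6 : (g⁻¹ * ⟨D.zbm, D.zbm_mem⟩ * g : ↥D.T) ∈ centralizer ({t} : Set ↥D.T) := by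
    rw [mem_centralizer_singleton_iff]
    calc g⁻¹ * ⟨D.zbm, D.zbm_mem⟩ * g * t = g⁻¹ * (⟨D.zbm, D.zbm_mem⟩ * (g * t * g⁻¹)) * g := by group
      _ = g⁻¹ * ((g * t * g⁻¹) * ⟨D.zbm, D.zbm_mem⟩) * g := by rw [hb]
      _ = t * (g⁻¹ * ⟨D.zbm, D.zbm_mem⟩ * g) := by group
  rw [hmem] at h6
  have h7 : g * (g⁻¹ * ⟨D.zbm, D.zbm_mem⟩ * g) * g⁻¹ = (⟨D.zbm, D.zbm_mem⟩ : ↥D.T) := by group
  rw [h7] at h6
  exact D.zbm_ne (D.opp _ h6 D.zbm_opp)

theorem two_dvd_congr {X Y : Type*} [Group X] [Group Y] (e : X ≃* Y)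
    (h : ∀ t : Y, orderOf t = 2 → IsPGroup 2 ↥(centralizer ({t} : Set Y)) → 2 ∣ (centralizer ({t} : Set Y)).index)
    (t : X) (ht : orderOf t = 2) (h2 : IsPGroup 2 ↥(centralizer ({t} : Set X))) :
    2 ∣ (centralizer ({t} : Set X)).index := by
  have h3 : (centralizer ({e t} : Set Y)).comap e.toMonoidHom = centralizer ({t} : Set X) := by
    ext y
    rw [mem_comap, mem_centralizer_singleton_iff, mem_centralizer_singleton_iff]
    show e y * e t = e t * e y ↔ _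
    rw [← map_mul, ← map_mul, e.injective.eq_iff]
  have h4 := h (e t) (by rw [e.orderOf_eq, ht]) ?_
  · rw [← h3, Subgroup.index_comap_of_surjective _ e.surjective]
    exact h4
  · have h5 : (centralizer ({t} : Set X)).map e.toMonoidHom = centralizer ({e t} : Set Y) := by
      rw [← h3, Subgroup.map_comap_eq_self_of_surjective e.surjective]
    rw [← h5]
    exact h2.map _

/-- no involution has a Sylow `2`-subgroup as centralizer -/
def NoC (X : Type*) [Group X] : Prop := ∀ t : X, orderOf t = 2 → IsPGroup 2 ↥(centralizer ({t} : Set X)) →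
  2 ∣ (centralizer ({t} : Set X)).index

theorem NoC.congr {X Y : Type*} [Group X] [Group Y] (h : NoC Y) (e : X ≃* Y) : NoC X := two_dvd_congr e h

theorem noC_TT : NoC ↥TitsK.TT := two_dvd tdata

/-- **the Tits group** -/
theorem noC_tits {T : Type*} [Group T] (hT : Cfsg.Lie.IsoTits T) : NoC T := by
  obtain ⟨e⟩ := hT
  obtain ⟨e'⟩ := TitsK.exists_equiv
  have hfin : Finite Cfsg.Agent.FourTwo.Base.LL := by infer_instance
  have h1 : T ≃* ↥TitsK.TT := e.trans e'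
  have h2 := noC_TT
  exact h2.congr h1

theorem card_tits {T : Type*} [Group T] (hT : Cfsg.Lie.IsoTits T) : Nat.card T = 17971200 := by
  obtain ⟨e⟩ := hT
  obtain ⟨e'⟩ := TitsK.exists_equiv
  have h1 : T ≃* ↥TitsK.TT := e.trans e'
  have h2 := Nat.card_congr h1.toEquiv
  have h3 : (2 ^ 11 * 3 ^ 3 * 5 ^ 2 * 13 : ℕ) = 17971200 := by norm_num
  exact h2.trans (TitsK.card_TT.trans h3)

end Cfsg.Agent.H476.TF
end

-- part: H476/TF/FourM
section
/-!
# The centralizers of the elements of order 3, 5, 13 of `F₄(q)` (helper476, from helper166's `CData`)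

* `mS_le` : at most `9` positive roots are trivial on a torus element of order `3`, `5` or `13`;
* `card_cent_le` : `|C_G(x)| ≤ q ^ 9 (q + 1) ^ 13 · 9`.
-/

set_option autoImplicit false
set_option linter.unusedSectionVars false

namespace Cfsg.Agent.H476.TF

open CoxeterSystem Cfsg Cfsg.Lie Cfsg.Lie.ChevalleyDatum
open Cfsg.Agent.ChevalleyStructure Cfsg.Agent.ChevalleyStructure.RootVec
open Cfsg.Agent.Tits.Roots Cfsg.Agent.Tits.Core Cfsg.Agent.Nodes Cfsg.Agent.Nodes.RGDChev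
open Cfsg.Agent.KFacts.RgdField Cfsg.Agent.KFacts.RgdChevCoord
open Cfsg.Agent.BpExc Cfsg.Agent.BpExc.TorCent Cfsg.Agent.BpExc.TorChev Cfsg.Agent.BpExc.NChev
  Cfsg.Agent.GpExc.Field Cfsg.Agent.H129.TorusChar Cfsg.Agent.H166.EP

universe u

/-- the positive roots -/
def posL : List (ℕ × ℕ × ℕ × ℕ) := [(0, 0, 0, 1), (0, 0, 1, 0), (0, 0, 1, 1), (0, 1, 0, 0), (0, 1, 1, 0), (0, 1, 1, 1),
  (0, 2, 1, 0), (0, 2, 1, 1), (0, 2, 2, 1), (1, 0, 0, 0), (1, 1, 0, 0), (1, 1, 1, 0), (1, 1, 1, 1), (1, 2, 1, 0),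
  (1, 2, 1, 1), (1, 2, 2, 1), (1, 3, 2, 1), (2, 2, 1, 0), (2, 2, 1, 1), (2, 2, 2, 1), (2, 3, 2, 1), (2, 4, 2, 1),
  (2, 4, 3, 1), (2, 4, 3, 2)]

theorem posL_spec0 : ∀ r : Fin 48, 0 ≤ vec chevF4 4 r 0 → 0 ≤ vec chevF4 4 r 1 → 0 ≤ vec chevF4 4 r 2 →
    0 ≤ vec chevF4 4 r 3 →
    ((vec chevF4 4 r 0).toNat, (vec chevF4 4 r 1).toNat, (vec chevF4 4 r 2).toNat, (vec chevF4 4 r 3).toNat) ∈ posL := by
  decide +kernel

theorem posL_spec (r : ℕ) (hr : r < 48) (h : ∀ i : Fin 4, 0 ≤ vec chevF4 4 r i) :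
    ((vec chevF4 4 r 0).toNat, (vec chevF4 4 r 1).toNat, (vec chevF4 4 r 2).toNat, (vec chevF4 4 r 3).toNat) ∈ posL :=
  posL_spec0 ⟨r, hr⟩ (h 0) (h 1) (h 2) (h 3)

/-- the form -/
def ev4 (a b c d : ℕ) (r : ℕ × ℕ × ℕ × ℕ) : ℕ := r.1 * a + (r.2.1 * b + (r.2.2.1 * c + r.2.2.2 * d))

/-- the number of the positive roots killed -/
def cnt (l a b c d : ℕ) : ℕ := (posL.filter fun r => ev4 a b c d r % l == 0).length

/-- all `k < n` -/
def allN (n : ℕ) (p : ℕ → Bool) : Bool := Nat.rec true (fun k acc => p k && acc) n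

theorem allN_spec {n : ℕ} {p : ℕ → Bool} (h : allN n p = true) : ∀ k, k < n → p k = true := by
  induction n with
  | zero => intro k hk; omega
  | succ n ih =>
    have h' : (p n && allN n p) = true := h
    rw [Bool.and_eq_true] at h'
    intro k hk
    rcases Nat.lt_succ_iff_lt_or_eq.mp hk with h1 | h1
    · exact ih h'.2 k h1
    · exact h1 ▸ h'.1

/-- the normalised forms -/
def chkL (l : ℕ) : Bool :=
  (allN l fun b => allN l fun c => allN l fun d => Nat.ble (cnt l 1 b c d) 9) &&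
  ((allN l fun c => allN l fun d => Nat.ble (cnt l 0 1 c d) 9) &&
  ((allN l fun d => Nat.ble (cnt l 0 0 1 d) 9) && Nat.ble (cnt l 0 0 0 1) 9))

theorem chk3 : chkL 3 = true := by decide +kernel
private noncomputable def _root_.Cfsg.Agent.LsF.f686967_0 : {f // @Cfsg.Agent.H476.TF.allN = f} := ⟨_, by first | (delta Cfsg.Agent.H476.TF.allN; rewrite [Cfsg.Agent.LsF.and_eq]; exact rfl) | exact rfl⟩
private noncomputable def _root_.Cfsg.Agent.LsF.f686967_1 : {f // @Cfsg.Agent.H476.TF.ev4 = f} := ⟨_, by first | (delta Cfsg.Agent.H476.TF.ev4; rewrite [Cfsg.Agent.LsF.nadd_pat, Cfsg.Agent.LsF.nmul_pat]; exact rfl) | exact rfl⟩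
private noncomputable def _root_.Cfsg.Agent.LsF.f686967_2 : {f // @Cfsg.Agent.H476.TF.cnt = f} := ⟨_, by first | (delta Cfsg.Agent.H476.TF.cnt; rewrite [Cfsg.Agent.LsF.f686967_1.2, Cfsg.Agent.LsF.nmod_pat, Cfsg.Agent.LsF.nbeq_pat, Cfsg.Agent.LsF.filter_eq, Cfsg.Agent.LsF.length_eq]; exact rfl) | exact rfl⟩
private noncomputable def _root_.Cfsg.Agent.LsF.f686967_3 : {f // @Cfsg.Agent.H476.TF.chkL = f} := ⟨_, by first | (delta Cfsg.Agent.H476.TF.chkL; rewrite [Cfsg.Agent.LsF.f686967_0.2, Cfsg.Agent.LsF.f686967_2.2, Cfsg.Agent.LsF.and_eq]; exact rfl) | exact rfl⟩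
theorem chk5 : chkL 5 = true := by ((try (rewrite [Cfsg.Agent.LsF.f686967_3.2])); decide +kernel)
theorem chk13 : chkL 13 = true := by ((try (rewrite [Cfsg.Agent.LsF.f686967_3.2])); decide +kernel)

theorem chkL_spec {l a b c d : ℕ} (h : chkL l = true) (hb : b < l) (hc : c < l) (hd : d < l)
    (hn : a = 1 ∨ (a = 0 ∧ (b = 1 ∨ (b = 0 ∧ (c = 1 ∨ (c = 0 ∧ d = 1)))))) : cnt l a b c d ≤ 9 := by
  simp only [chkL, Bool.and_eq_true] at h
  obtain ⟨h1, h2, h3, h4⟩ := h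
  apply Nat.le_of_ble_eq_true
  rcases hn with rfl | ⟨rfl, rfl | ⟨rfl, rfl | ⟨rfl, rfl⟩⟩⟩
  · exact allN_spec (allN_spec (allN_spec h1 b hb) c hc) d hd
  · exact allN_spec (allN_spec h2 c hc) d hd
  · exact allN_spec h3 d hd
  · exact h4

theorem ncard_le {S : Set (Fin 4 → ℤ)} {L : List (ℕ × ℕ × ℕ × ℕ)}
    (h : ∀ a ∈ S, (∀ i, 0 ≤ a i) ∧ ((a 0).toNat, (a 1).toNat, (a 2).toNat, (a 3).toNat) ∈ L) : S.ncard ≤ L.length := by
  classical
  have h1 : S.ncard ≤ ((L.toFinset : Finset (ℕ × ℕ × ℕ × ℕ)) : Set (ℕ × ℕ × ℕ × ℕ)).ncard := by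
    refine Set.ncard_le_ncard_of_injOn (fun a => ((a 0).toNat, (a 1).toNat, (a 2).toNat, (a 3).toNat)) ?_ ?_
      (Set.toFinite _)
    · intro a ha
      exact List.mem_toFinset.2 (h a ha).2
    · intro a ha b hb hab
      have ha' := (h a ha).1
      have hb' := (h b hb).1
      simp only [Prod.mk.injEq] at hab
      funext i
      have e0 := ha' 0
      have e1 := ha' 1
      have e2 := ha' 2
      have e3 := ha' 3
      have f0 := hb' 0
      have f1 := hb' 1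
      have f2 := hb' 2
      have f3 := hb' 3
      fin_cases i
      · show a 0 = b 0
        omega
      · show a 1 = b 1
        omega
      · show a 2 = b 2
        omega
      · show a 3 = b 3
        omega
  rw [Set.ncard_coe_finset] at h1
  exact h1.trans (List.toFinset_card_le L)

/-- the count for a form -/
theorem count {l : ℕ} [Fact l.Prime] (hl : chkL l = true) {f : (Fin 4 → ℤ) →+ ZMod l} (hf : f ≠ 0)
    {S : Set (Fin 4 → ℤ)} (hS : ∀ a ∈ S, (∀ i, 0 ≤ a i) ∧ (∃ r < 48, vec chevF4 4 r = a) ∧ f a = 0) : S.ncard ≤ 9 := by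
  have : NeZero l := ⟨(Fact.out : l.Prime).ne_zero⟩
  have h1l : 1 < l := (Fact.out : l.Prime).one_lt
  -- the coordinates
  have hfa : ∀ (g : (Fin 4 → ℤ) →+ ZMod l) (a : Fin 4 → ℤ), g a = (a 0 : ZMod l) * g (sr 0) + ((a 1 : ZMod l) * g (sr 1) +
      ((a 2 : ZMod l) * g (sr 2) + (a 3 : ZMod l) * g (sr 3))) := by
    intro g a
    have e : a = a 0 • (sr 0 : Fin 4 → ℤ) + (a 1 • sr 1 + (a 2 • sr 2 + a 3 • sr 3)) := by
      funext i
      fin_cases i <;> simp [sr]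
    conv_lhs => rw [e]
    rw [map_add, map_add, map_add, map_zsmul, map_zsmul, map_zsmul, map_zsmul]
    simp only [zsmul_eq_mul]
  -- normalise
  obtain ⟨g, hg, hgn⟩ : ∃ g : (Fin 4 → ℤ) →+ ZMod l, (∀ a, f a = 0 → g a = 0) ∧
      (g (sr 0) = 1 ∨ (g (sr 0) = 0 ∧ (g (sr 1) = 1 ∨ (g (sr 1) = 0 ∧ (g (sr 2) = 1 ∨ (g (sr 2) = 0 ∧ g (sr 3) = 1)))))) := by
    have key : ∀ u : ZMod l, ∃ g : (Fin 4 → ℤ) →+ ZMod l, (∀ a, g a = u * f a) := fun u =>
      ⟨(AddMonoidHom.mulLeft u).comp f, fun a => rfl⟩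
    by_cases h0 : f (sr 0) = 0
    · by_cases h1 : f (sr 1) = 0
      · by_cases h2 : f (sr 2) = 0
        · by_cases h3 : f (sr 3) = 0
          · exfalso
            apply hf
            refine AddMonoidHom.ext fun a => ?_
            rw [hfa, h0, h1, h2, h3]
            simp
          · obtain ⟨g, hg⟩ := key (f (sr 3))⁻¹
            refine ⟨g, fun a ha => by rw [hg, ha, mul_zero], Or.inr ⟨by rw [hg, h0, mul_zero], Or.inr ⟨by
              rw [hg, h1, mul_zero], Or.inr ⟨by rw [hg, h2, mul_zero], by rw [hg, inv_mul_cancel₀ h3]⟩⟩⟩⟩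
        · obtain ⟨g, hg⟩ := key (f (sr 2))⁻¹
          refine ⟨g, fun a ha => by rw [hg, ha, mul_zero], Or.inr ⟨by rw [hg, h0, mul_zero], Or.inr ⟨by
            rw [hg, h1, mul_zero], Or.inl (by rw [hg, inv_mul_cancel₀ h2])⟩⟩⟩
      · obtain ⟨g, hg⟩ := key (f (sr 1))⁻¹
        refine ⟨g, fun a ha => by rw [hg, ha, mul_zero], Or.inr ⟨by rw [hg, h0, mul_zero], Or.inl (by
          rw [hg, inv_mul_cancel₀ h1])⟩⟩
    · obtain ⟨g, hg⟩ := key (f (sr 0))⁻¹
      exact ⟨g, fun a ha => by rw [hg, ha, mul_zero], Or.inl (by rw [hg, inv_mul_cancel₀ h0])⟩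
  have v1 : (1 : ZMod l).val = 1 := ZMod.val_one'' (by omega)
  have v0 : (0 : ZMod l).val = 0 := ZMod.val_zero
  have hc := chkL_spec (a := (g (sr 0)).val) (b := (g (sr 1)).val) (c := (g (sr 2)).val) (d := (g (sr 3)).val) hl
    (ZMod.val_lt _) (ZMod.val_lt _) (ZMod.val_lt _) (by
      rcases hgn with h | ⟨h, h' | ⟨h', h'' | ⟨h'', h3⟩⟩⟩
      · left; rw [h, v1]
      · right; exact ⟨by rw [h, v0], Or.inl (by rw [h', v1])⟩
      · right; exact ⟨by rw [h, v0], Or.inr ⟨by rw [h', v0], Or.inl (by rw [h'', v1])⟩⟩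
      · right; exact ⟨by rw [h, v0], Or.inr ⟨by rw [h', v0], Or.inr ⟨by rw [h'', v0], by rw [h3, v1]⟩⟩⟩)
  refine (ncard_le (L := posL.filter fun r => ev4 (g (sr 0)).val (g (sr 1)).val (g (sr 2)).val (g (sr 3)).val r % l == 0)
    fun a ha => ?_).trans hc
  obtain ⟨h1, ⟨r, hr, hra⟩, h3⟩ := hS a ha
  refine ⟨h1, List.mem_filter.2 ⟨?_, ?_⟩⟩
  · have h4 := posL_spec r hr (by rw [hra]; exact h1)
    rw [hra] at h4
    exact h4
  · rw [beq_iff_eq]
    apply Nat.mod_eq_zero_of_dvd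
    rw [← ZMod.natCast_eq_zero_iff]
    have h5 := hg a h3
    rw [hfa g a] at h5
    have ht : ∀ i, ((((a i).toNat : ℕ)) : ZMod l) = (a i : ZMod l) := by
      intro i
      have h6 := Int.toNat_of_nonneg (h1 i)
      have h7 := congrArg (Int.cast : ℤ → ZMod l) h6
      rw [Int.cast_natCast] at h7
      exact h7
    unfold ev4
    push_cast
    rw [ht, ht, ht, ht, ZMod.natCast_zmod_val, ZMod.natCast_zmod_val, ZMod.natCast_zmod_val, ZMod.natCast_zmod_val]
    exact h5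

/-! ### The torus elements -/

section

variable {D : ChevalleyDatum} {l : ℕ} {M : CoxeterMatrix (Fin l)} (hp : IsType D l M) {k : Type u} [Field k]

/-- The additive form of an element of prime order of the torus (copy of `H972.CS.Main.exists_add`). -/
theorem exists_addF [IsAlgClosed k] {s : ℕ} (hs : s.Prime) (hsk : (s : k) ≠ 0) {t : ↥(D.group k)} (ht : t ∈ TT D k)
    (hts : t ^ s = 1) : ∃ f : (Fin l → ℤ) →+ ZMod s, ∀ x, cX hp t x = 1 ↔ f x = 0 := by
  classical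
  have : Fact s.Prime := ⟨hs⟩
  have : NeZero (s : k) := ⟨hsk⟩
  have : NeZero s := ⟨hs.ne_zero⟩
  obtain ⟨ζ, hζ⟩ := HasEnoughRootsOfUnity.exists_primitiveRoot k s
  have h1 : ∀ i : Fin l, ∃ j < s, ζ ^ j = cX hp t (sr i) := by
    intro i
    refine hζ.eq_pow_of_pow_eq_one ?_
    rw [← cX_pow hp ht, hts, cX_one]
  choose j hj hj' using h1
  let f : (Fin l → ℤ) →+ ZMod s :=
    { toFun := fun x => ∑ i, (x i : ZMod s) * (j i : ZMod s)
      map_zero' := by simp
      map_add' := fun x y => by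
        rw [← Finset.sum_add_distrib]
        refine Finset.sum_congr rfl fun i _ => ?_
        rw [Pi.add_apply, Int.cast_add, add_mul] }
  have hf : ∀ i, f (sr i) = (j i : ZMod s) := by
    intro i
    show ∑ i', ((sr i : Fin l → ℤ) i' : ZMod s) * (j i' : ZMod s) = _
    rw [Finset.sum_eq_single i]
    · simp [sr]
    · intro b _ hb
      simp [sr, hb]
    · intro h; exact absurd (Finset.mem_univ i) h
  have hζ1 : ∀ n : ℕ, ζ ^ (n % s) = ζ ^ n := fun n => by
    conv_rhs => rw [← Nat.mod_add_div n s, pow_add, pow_mul, hζ.pow_eq_one, one_pow, mul_one]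
  have hψ : IsMC (fun x : Fin l → ℤ => ζ ^ (f x).val) :=
    { zero := by
        show ζ ^ (f 0).val = 1
        rw [map_zero, ZMod.val_zero, pow_zero]
      add := fun x y => by
        show ζ ^ (f (x + y)).val = ζ ^ (f x).val * ζ ^ (f y).val
        rw [map_add, ZMod.val_add, hζ1, pow_add] }
  have key : ∀ x, cX hp t x = ζ ^ (f x).val := by
    refine fun x => (isMC_cX hp ht).ext hψ (fun i => ?_) x
    rw [hf, ZMod.val_natCast, hζ1, hj']
  refine ⟨f, fun x => ?_⟩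
  rw [key, hζ.pow_eq_one_iff_dvd]
  constructor
  · intro h
    exact (ZMod.val_eq_zero _).1 (Nat.eq_zero_of_dvd_of_lt h (ZMod.val_lt _))
  · intro h
    rw [h, ZMod.val_zero]
    exact dvd_zero _

end

section

variable {M : CoxeterMatrix (Fin 4)} (hp : IsType chevF4 4 M) {k : Type u} [Field k]
  {W : Type*} [Group W] [Finite W] (cs : CoxeterSystem M W)

/-- **at most `9` positive roots are trivial on `t`** -/
theorem mS_le [IsAlgClosed k] {ℓ : ℕ} (hℓ : ℓ.Prime) (hℓk : (ℓ : k) ≠ 0) (hc : chkL ℓ = true)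
    {t : ↥(chevF4.group k)} (ht : t ∈ TT chevF4 k) (htℓ : t ^ ℓ = 1) (ht1 : t ≠ 1) : mS hp cs t ≤ 9 := by
  have : Fact ℓ.Prime := ⟨hℓ⟩
  obtain ⟨f, hf⟩ := exists_addF hp hℓ hℓk ht htℓ
  have hf0 : f ≠ 0 := by
    intro h0
    apply ht1
    refine cX_inj hp ht (one_mem _) fun i => ?_
    rw [cX_one, hf, h0]
    rfl
  refine count hc hf0 fun a ha => ?_
  obtain ⟨⟨h1, h2⟩, h3⟩ := ha
  refine ⟨fun i => h3 i, ?_, ?_⟩
  · obtain ⟨r, hr, e⟩ := (isRoot_iff hp cs a).1 h1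
    exact ⟨r, hr, e⟩
  · rw [← hf, cX_root hp cs ht h1]
    exact h2

end

/-! ### The bound -/

theorem card_pgroup_le {W : Type*} [Group W] (hW : Nat.card W = 1152) {ℓ : ℕ} (h : ℓ = 3 ∨ ℓ = 5 ∨ ℓ = 13)
    {P : Subgroup W} (hP : IsPGroup ℓ ↥P) : Nat.card ↥P ≤ 9 := by
  have hf : Finite W := Nat.finite_of_card_ne_zero (by rw [hW]; norm_num)
  have hℓ : ℓ.Prime := by rcases h with rfl | rfl | rfl <;> norm_num
  have : Fact ℓ.Prime := ⟨hℓ⟩
  obtain ⟨n, hn⟩ := hP.exists_card_eq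
  have h1 : ℓ ^ n ∣ 2 ^ 7 * 3 ^ 2 := by
    have h2 : (2 ^ 7 * 3 ^ 2 : ℕ) = 1152 := by norm_num
    rw [h2, ← hW, ← hn]
    exact Subgroup.card_subgroup_dvd_card P
  have h3 : ℓ ^ n ∣ 3 ^ 2 := by
    refine Nat.Coprime.dvd_of_dvd_mul_left ?_ h1
    refine Nat.Coprime.pow _ _ ((Nat.coprime_primes hℓ Nat.prime_two).2 ?_)
    rcases h with rfl | rfl | rfl <;> norm_num
  rw [hn]
  exact Nat.le_of_dvd (by norm_num) h3

theorem typeF4 : IsType chevF4 4 CoxeterMatrix.F₄ := by simp [IsType, typeList]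

/-- **the centralizers of the elements of order `3`, `5`, `13` in `F₄(q)`** -/
theorem card_cent_le {F : Type u} [Field F] [Finite F] {ℓ : ℕ} (h : ℓ = 3 ∨ ℓ = 5 ∨ ℓ = 13) (hℓF : (ℓ : F) ≠ 0)
    (x : ↥(chevF4.group F)) (hx : orderOf x = ℓ) : Nat.card ↥(Subgroup.centralizer {x}) ≤
      Nat.card F ^ 9 * ((Nat.card F + 1) ^ 4 * (9 * (Nat.card F + 1) ^ 9)) := by
  have hℓ : ℓ.Prime := by rcases h with rfl | rfl | rfl <;> norm_num
  have hc : chkL ℓ = true := by
    rcases h with rfl | rfl | rfl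
    · exact chk3
    · exact chk5
    · exact chk13
  have hW : Nat.card CoxeterMatrix.F₄.Group = 1152 := S1092.result (⟨4, CoxeterMatrix.F₄⟩, 1152) (by simp)
  have hfW : Finite CoxeterMatrix.F₄.Group := Nat.finite_of_card_ne_zero (by rw [hW]; norm_num)
  obtain ⟨k, _, _, f, r, e, _, _, t, g, N, H⟩ := exists_cd typeF4 CoxeterMatrix.F₄.toCoxeterSystem hℓ hℓF x
    (by rw [← hx, pow_orderOf_eq_one])
  have hℓk : (ℓ : k) ≠ 0 := by
    rw [← map_natCast f, Ne, map_eq_zero]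
    exact hℓF
  have ht1 : t ≠ 1 := by
    rintro rfl
    obtain ⟨z, hz⟩ := H.conj
    have h1 : emb typeF4.inList f x = 1 := by
      have h2 : emb typeF4.inList f x = z * (z⁻¹ * emb typeF4.inList f x * z) * z⁻¹ := by group
      rw [h2, hz]
      group
    have h3 : x = 1 := emb_injective typeF4.inList f (by rw [h1, map_one])
    rw [h3, orderOf_one] at hx
    exact hℓ.one_lt.ne hx
  have hm := mS_le typeF4 CoxeterMatrix.F₄.toCoxeterSystem hℓ hℓk hc H.mem H.pow ht1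
  have hP := card_pgroup_le hW h H.isP
  have hq : 0 < Nat.card F := Nat.card_pos
  refine H.bound.trans ?_
  refine Nat.mul_le_mul (Nat.pow_le_pow_right hq hm) (Nat.mul_le_mul H.le (Nat.mul_le_mul hP ?_))
  exact Nat.pow_le_pow_right (by omega) hm

end Cfsg.Agent.H476.TF
end

-- part: H476/TF/RowFour
section
/-!
# S5745, `T` the Tits group, `k = 1`: the crude form of `E_π` (helper476)

* `dvd_H` : `|H|` divides `35942400 = 2 |T|`;
* `kill` : in even characteristic: if `|C_G(x)| ≤ B` for all elements `x` of order `3`, `5`, `13` and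
  `2 ^ 51 * B ≤ |G|` then `H` is not the stabiliser of an extremely primitive group;
* `f4_four` : the row `G = F₄(4)` of S5745 (`|C_G(x)| ≤ 4 ^ 9 * 5 ^ 13 * 9` by `FourM`).
-/

set_option autoImplicit false

namespace Cfsg.Agent.H476.TF

open Subgroup Cfsg Cfsg.Lie Cfsg.Agent.H209.EPX Cfsg.Agent.H284 Cfsg.Agent.H742.EX

section

variable {G : Type*} [Group G] {H N : Subgroup G}

/-- the action of `H` on `N` (copy of `H742.EX.act`) -/
noncomputable def actN (h : NIn N H) : H →* MulAut N where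
  toFun g :=
    { toFun := fun n => ⟨g * n * (g : G)⁻¹, h.nrm g g.2 n n.2⟩
      invFun := fun n => ⟨(g : G)⁻¹ * n * g, by
        have := h.nrm (g : G)⁻¹ (inv_mem g.2) n n.2
        rwa [inv_inv] at this⟩
      left_inv := fun n => Subtype.ext (by simp [mul_assoc])
      right_inv := fun n => Subtype.ext (by simp [mul_assoc])
      map_mul' := fun a b => Subtype.ext (by simp [mul_assoc]) }
  map_one' := by
    ext n
    simp
  map_mul' := fun a b => by
    ext n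
    simp [mul_assoc]

variable [Finite G] {T : Type} [Group T] {e : N ≃* (Fin 1 → T)}

theorem card_aut_dvd {T : Type*} [Group T] [Finite T] : Nat.card (MulAut T) ∣ Nat.card T * Nat.card (Cfsg.Out T) := by
  have h1 := Subgroup.card_eq_card_quotient_mul_card_subgroup (Cfsg.Inn T)
  have h2 : Nat.card (Cfsg.Inn T) ∣ Nat.card T := Subgroup.card_range_dvd (MulAut.conj : T →* MulAut T)
  rw [h1, mul_comm]
  exact mul_dvd_mul h2 dvd_rfl

theorem dvd_H (h : EPS H N e) (hT : IsoTits T) : Nat.card H ∣ 35942400 := by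
  let e' : N ≃* T := e.trans (MulEquiv.funUnique (Fin 1) T)
  have hfT : Finite T := Finite.of_equiv N e'.toEquiv
  have hfA : Finite (MulAut T) := inferInstance
  let f : H →* MulAut T := (MulAut.congr e').toMonoidHom.comp (actN h.toNIn)
  have hf : Function.Injective f := by
    have h1 : Function.Injective (actN h.toNIn) := by
      rw [injective_iff_map_eq_one]
      intro g hg
      have h2 : (g : G) ∈ Subgroup.centralizer (N : Set G) := by
        rw [Subgroup.mem_centralizer_iff]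
        intro n hn
        have h3 := congrArg (fun φ : MulAut N => ((φ ⟨n, hn⟩ : N) : G)) hg
        have h4 : (g : G) * n * (g : G)⁻¹ = n := h3
        rw [mul_inv_eq_iff_eq_mul] at h4
        exact h4.symm
      rw [h.cent, mem_bot] at h2
      exact Subtype.ext h2
    exact (MulAut.congr e').injective.comp h1
  have h1 := Subgroup.card_dvd_of_injective f hf
  have h2 : Nat.card (Cfsg.Out T) ∣ 2 := by
    have h3 := H867.TitsOut.card_out_le hT
    have h4 : 0 < Nat.card (Cfsg.Out T) := Nat.card_pos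
    interval_cases Nat.card (Cfsg.Out T) <;> norm_num
  refine (h1.trans card_aut_dvd).trans ?_
  rw [card_tits hT]
  exact (mul_dvd_mul_left _ h2).trans (by norm_num)

theorem primeFactors_H (h : EPS H N e) (hT : IsoTits T) : (Nat.card H).primeFactors.erase 2 ⊆ {3, 5, 13} := by
  intro r hr
  rw [Finset.mem_erase, Nat.mem_primeFactors] at hr
  obtain ⟨hr2, hrp, hrd, -⟩ := hr
  have h1 : r ∣ 2 ^ 12 * (3 ^ 3 * (5 ^ 2 * 13)) := by
    have h3 : (2 ^ 12 * (3 ^ 3 * (5 ^ 2 * 13)) : ℕ) = 35942400 := by norm_num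
    rw [h3]
    exact hrd.trans (dvd_H h hT)
  have hq : ∀ {p : ℕ}, p.Prime → r ∣ p → r = p := fun hp hd => (Nat.prime_dvd_prime_iff_eq hrp hp).1 hd
  rw [hrp.dvd_mul, hrp.dvd_mul, hrp.dvd_mul] at h1
  simp only [Finset.mem_insert, Finset.mem_singleton]
  rcases h1 with h1 | h1 | h1 | h1
  · exact absurd (hq Nat.prime_two (hrp.dvd_of_dvd_pow h1)) hr2
  · exact Or.inl (hq Nat.prime_three (hrp.dvd_of_dvd_pow h1))
  · exact Or.inr (Or.inl (hq Nat.prime_five (hrp.dvd_of_dvd_pow h1)))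
  · exact Or.inr (Or.inr (hq (by norm_num) h1))

theorem cG_ge {G : Type*} [Group G] [Finite G] {x : G} {B c : ℕ} (h1 : Nat.card ↥(centralizer ({x} : Set G)) ≤ B)
    (h2 : c * B ≤ Nat.card G) : c ≤ cG x := by
  have h3 := card_G x
  have h4 : Nat.card {g : G // g⁻¹ * x * g = x} = Nat.card ↥(centralizer ({x} : Set G)) := by
    refine Nat.card_congr (Equiv.subtypeEquivRight fun g => ?_)
    rw [mem_centralizer_singleton_iff, mul_assoc, inv_mul_eq_iff_eq_mul, eq_comm]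
  rw [h4] at h3
  have hB : 0 < B := Nat.card_pos.trans_le h1
  by_contra hlt
  push Not at hlt
  have h5 : cG x * Nat.card ↥(centralizer ({x} : Set G)) < c * B := by
    calc cG x * Nat.card ↥(centralizer ({x} : Set G)) ≤ cG x * B := Nat.mul_le_mul_left _ h1
      _ < c * B := Nat.mul_lt_mul_of_pos_right hlt hB
  omega

/-- **The kill** -/
theorem kill (h : EPS H N e) (hT : IsoTits T) {B : ℕ}
    (hC : ∀ x : G, (orderOf x = 3 ∨ orderOf x = 5 ∨ orderOf x = 13) →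
      Nat.card ↥(centralizer ({x} : Set G)) ≤ B)
    (hG : 2 ^ 51 * B ≤ Nat.card G) (hG2 : 35942400 * 2 < Nat.card G) : False := by
  have hH : Nat.card H ≤ 35942400 := Nat.le_of_dvd (by norm_num) (dvd_H h hT)
  have hM : ∀ g ∉ H, ∃ r ∈ ({3, 5, 13} : Finset ℕ), r ∣ Nat.card (H ⊓ cj g H : Subgroup G) := by
    intro g hg
    obtain ⟨r, hr, hd⟩ := EPS.hM_two h (noC_tits hT) g hg
    exact ⟨r, primeFactors_H h hT hr, hd⟩
  have hp : ∀ r ∈ ({3, 5, 13} : Finset ℕ), r.Prime := by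
    intro r hr
    simp only [Finset.mem_insert, Finset.mem_singleton] at hr
    rcases hr with rfl | rfl | rfl <;> norm_num
  have key := e_pi_crude H {3, 5, 13} hp hM (fun _ => 35942400) (fun _ => 2 ^ 51)
    (by
      intro r hr
      refine le_trans ?_ hH
      have h1 : (el H r).card = Nat.card (el H r) := by rw [Nat.card_eq_fintype_card, Fintype.card_coe]
      rw [h1]
      refine Nat.card_le_card_of_injective (fun x : el H r => (⟨x.1, (mem_el.1 x.2).1⟩ : H)) ?_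
      intro a b hab
      exact Subtype.ext (congrArg (fun t : H => (t : G)) hab))
    (by intro r _; positivity)
    (by
      intro r hr x _ hx
      refine cG_ge (hC x ?_) hG
      simp only [Finset.mem_insert, Finset.mem_singleton] at hr
      rw [hx]
      exact hr)
  have hsum : ∑ r ∈ ({3, 5, 13} : Finset ℕ), (((35942400 : ℕ) : ℚ) ^ 2 / (((r : ℚ) - 1) * ((2 ^ 51 : ℕ) : ℚ))) ≤ 1 / 2 := by
    rw [Finset.sum_insert (by norm_num), Finset.sum_insert (by norm_num), Finset.sum_singleton]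
    norm_num
  have h3 : (2 : ℚ) < H.index := by
    have h4 : 2 < H.index := by
      by_contra hle
      push Not at hle
      have h5 := H.card_mul_index
      have h6 : Nat.card H * H.index ≤ 35942400 * 2 := Nat.mul_le_mul hH hle
      omega
    exact_mod_cast h4
  have h4 : (H.index : ℚ) * ∑ r ∈ ({3, 5, 13} : Finset ℕ), (((35942400 : ℕ) : ℚ) ^ 2 / (((r : ℚ) - 1) * ((2 ^ 51 : ℕ) : ℚ))) ≤
      H.index * (1 / 2) := mul_le_mul_of_nonneg_left hsum (by linarith)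
  have h5 := key.trans h4
  linarith

end

/-! ### The group `F₄(4)` -/

/-- the order of `F₄(4)` and the bound of the centralizers -/
theorem four_bound {F : Type*} [Field F] [Fintype F] (hF : Fintype.card F = 4) :
    Nat.card ↥(chevF4.group F) = 4 ^ 24 * (4 ^ 2 - 1) * (4 ^ 6 - 1) * (4 ^ 8 - 1) * (4 ^ 12 - 1) :=
  S1062.result hF

/-- **The row `G = F₄(4)`, `T` the Tits group, of S5745.** -/
theorem f4_four (F : Type*) [Field F] [Fintype F] (hF : Fintype.card F = 4) {H N : Subgroup ↥(chevF4.group F)}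
    {T : Type} [Group T] (e : N ≃* (Fin 1 → T)) (h : EPS H N e) (hT : IsoTits T) : False := by
  have hG := four_bound hF
  have : Finite ↥(chevF4.group F) := Nat.finite_of_card_ne_zero (by rw [hG]; norm_num)
  have h2F : ∀ ℓ : ℕ, ¬ 2 ∣ ℓ → (ℓ : F) ≠ 0 := by
    intro ℓ hℓ h0
    obtain ⟨p, hp⟩ := CharP.exists F
    obtain ⟨n, hpp, hn⟩ := FiniteField.card F p
    have h3 : p = 2 := by
      have h4 : p ∣ 2 ^ 2 := by
        have h5 : Fintype.card F = 2 ^ 2 := hF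
        rw [← h5, hn]
        exact dvd_pow_self p n.ne_zero
      exact (Nat.prime_dvd_prime_iff_eq hpp Nat.prime_two).1 (hpp.dvd_of_dvd_pow h4)
    apply hℓ
    rw [← h3]
    exact (CharP.cast_eq_zero_iff F p ℓ).1 h0
  refine kill h hT (B := 4 ^ 9 * (5 ^ 4 * (9 * 5 ^ 9))) ?_ ?_ ?_
  · intro x hx
    have h1 := card_cent_le (ℓ := orderOf x) hx (h2F _ (by
      rcases hx with hx | hx | hx <;> rw [hx] <;> norm_num)) x rfl
    have hF' : Nat.card F = 4 := by rw [Nat.card_eq_fintype_card, hF]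
    rw [hF'] at h1
    exact h1
  · rw [hG]
    norm_num
  · rw [hG]
    norm_num

end Cfsg.Agent.H476.TF
end

private theorem dce_5fe725332670 : _root_.True := by
  try have : _root_.True := by simp only [_root_.Cfsg.Agent.H476.TF.chkL.eq_1]
  exact _root_.True.intro
end
end
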